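import Cfsg.Agent.Lib.OddChar.Prime.TypeTwo
import Cfsg.Agent.Lib.OddChar.PTypeCent
import Cfsg.Agent.S1437

/-!
# The rank condition on `M_σ` for type III
-/

set_option autoImplicit false
set_option linter.unusedSectionVars false

namespace CfsgLib.OddChar.Prime

open CfsgLib.OddLocal
open CfsgLib.OddChar

universe u

variable {G : Type u} [Group G] [Finite G] {M W₁ U W₂ : Subgroup G}

/-- In type III the primes outside `β(M)` occur in `M_σ` with rank at most one. -/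
theorem rank_one_typeIII (hG : Cfsg.IsMinSimpleOddOrder G) (hM : IsCoatom M)
    (hIII : Cfsg.IsOfTypeIII M) {r : ℕ} (hr : r.Prime) (hrβ : r ∉ Cfsg.beta M) :
    Cfsg.PRankLE r 1 ↥(Cfsg.sigmaCore M) := by
  haveI := Fact.mk hr
  obtain ⟨W₁, U, W₂, hP, -⟩ := id hIII
  have B := S15.s16Base hG
  obtain ⟨U₀, hKU, hW₂⟩ := exists_decomposition_W₁ hG hM hP
  obtain ⟨-, hU₀, hne⟩ := (S15.typeIII_IV_iff hG B hM hKU).1 (Or.inl hIII)
  obtain ⟨-, hder, -, -, -, hβ, -⟩ := Cfsg.Agent.S1437.result hG M hM W₁ U₀ hKU hne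
  rw [← hW₂] at hβ
  obtain ⟨hU, -, hp, hcyc, -, -, hcard, -⟩ :=
    structure_34 (pre_of_minimal hG) hM (Or.inl hIII) hP
  have hs' : Group.IsSolvable ↥⁅M, M⁆ :=
    CfsgLib.Solvable.isSolvable_of_le (maximal_solvable hG hM) (Subgroup.commutator_le_self M)
  refine (CfsgLib.PGroup.pRankLE_subgroup_iff _).2 fun A hA hAe => ?_
  rw [hder] at hA
  obtain ⟨n, hn⟩ := CfsgLib.PGroup.elemAb_card hAe
  have hAU : Nat.card A ∣ Nat.card U := by
    refine Nat.Coprime.dvd_of_dvd_mul_left ?_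
      (card_of_isComplIn hP.U_compl ▸ Subgroup.card_dvd_of_le hA)
    rw [hn, hcard]
    exact Nat.Coprime.pow _ _ ((Nat.coprime_primes hr hp).2 fun e => hrβ (e ▸ hβ))
  have hHall : Cfsg.IsPiHallOf {l | l ∣ Nat.card U} U ⁅M, M⁆ := by
    refine ⟨hP.U_compl.2.1, fun _ _ h => h, fun l hl h1 h2 => ?_⟩
    rw [(relIndex_of_isComplIn hP.U_compl).1] at h2
    exact Nat.not_coprime_of_dvd_of_dvd hl.one_lt h2 h1 (typeP_coprime_U hP)
  obtain ⟨g, -, hle⟩ :=
    exists_conj_le_piHall hs' hHall hA fun l _ h => h.trans hAU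
  rw [pow_one, ← card_map_conj g A]
  have h1 := (CfsgLib.PGroup.pRankLE_subgroup_iff U).1 (rankLE_of_cyclic hcyc hr le_rfl) _ hle
    (CfsgLib.PGroup.elemAb_map hAe _)
  rwa [pow_one] at h1

/-- The rank condition, when there is no type V. -/
theorem sigmaRankProp_of (hG : Cfsg.IsMinSimpleOddOrder G)
    (hV : ∀ L : Subgroup G, IsCoatom L → ¬ Cfsg.IsOfTypeV L) : PTypeCent.SigmaRankProp G := by
  intro L hL h r hr hrβ
  rcases h with h | h | h
  · exact rank_one_typeIII hG hL h hr hrβ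
  · exact absurd h (not_IV (pre_of_minimal hG) hL)
  · exact absurd h (hV L hL)

end CfsgLib.OddChar.Prime
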