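import Cfsg.Agent.Lib.OddChar.Prime.Flat
import Cfsg.Agent.S1508
import Cfsg.Agent.S1525

/-!
# The flat case does not occur

* `supportSet`, `card_supportSet_le`: the size of the support of the Dade map;
* `Fam.phi_odd`: the first column at `q`-regular elements is an odd integer;
* `Block.no_flat`: counting contradicts `x = 0`.
-/

set_option autoImplicit false

namespace CfsgLib.OddChar.Prime

open CfsgLib.Char CfsgLib.CharNormal
open CfsgLib.OddChar
open scoped ComplexConjugate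

universe u

variable {G : Type u} [Group G]

/-- The support of the Dade map. -/
def supportSet (A₀ : Set G) (R : G → Subgroup G) : Set G :=
  {g : G | ∃ a ∈ A₀, ∃ u ∈ R a, ∃ x : G, x * g * x⁻¹ = a * u}

variable [Fintype G] {M : Subgroup G} {W₁ W₂ : Subgroup G} {A₀ : Set G} {R : G → Subgroup G}
  [Fintype M] {S : Setup M W₁ W₂ A₀ R}

omit [Fintype G] [Fintype M] in
theorem tau_eq_zero {α : M → ℂ} {g : G} (hg : g ∉ supportSet A₀ R) : tau S α g = 0 :=
  Dade.dade_apply_none fun ⟨a, ha, x, u, hu, hx⟩ => hg ⟨a, ha, u, hu, x, hx⟩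

/-- The conjugates of `W₁#` avoid `A₀`. -/
theorem card_A₀_le (S : Setup M W₁ W₂ A₀ R) :
    Nat.card {x : M // (x : G) ∈ A₀} * Nat.card W₂ + Nat.card W₂ +
      (Nat.card W₁ - 1) * Nat.card (commutator M) ≤ Nat.card M * Nat.card W₂ := by
  classical
  have h := S.semi
  set K := commutator M
  set V₁ := W₁.subgroupOf M
  set V₂ := W₂.subgroupOf M
  let C : Subgroup K := V₂.subgroupOf K
  let Φ : (K ⧸ C) × {w : V₁ // w ≠ 1} → {x : M // ¬ (x : G) ∈ A₀} := fun p =>
    ⟨((Quotient.out p.1 : K) : M) * ((p.2.1 : V₁) : M) * ((Quotient.out p.1 : K) : M)⁻¹, by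
      intro hA
      have hw1 : ((p.2.1 : V₁) : M) ≠ 1 := fun e => p.2.2 (Subtype.ext e)
      rcases S.split _ hA with hK | ⟨m, hm, v, hv, e⟩
      · have hwK : ((p.2.1 : V₁) : M) ∈ K := by
          have := (inferInstance : K.Normal).conj_mem _ hK ((Quotient.out p.1 : K) : M)⁻¹
          simpa [mul_assoc] using this
        have h1 : ((p.2.1 : V₁) : M) ∈ K ⊓ V₁ := ⟨hwK, p.2.1.2⟩
        rw [h.inf_eq, Subgroup.mem_bot] at h1
        exact hw1 h1
      · set c : M := ((Quotient.out p.1 : K) : M) with hc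
        set w : M := ((p.2.1 : V₁) : M) with hw
        let v' : M := ⟨v, S.le hv.1⟩
        have hback : ∀ z : M, (z : G) ∈ W₁ ⊔ W₂ → z ∈ V₁ ⊔ V₂ := by
          intro z hz
          have hle : W₁ ⊔ W₂ ≤ (V₁ ⊔ V₂).map M.subtype := by
            rw [Subgroup.map_sup, Subgroup.map_subgroupOf_eq_of_le S.le₁,
              Subgroup.map_subgroupOf_eq_of_le S.le₂]
          obtain ⟨y, hy, he⟩ := hle hz
          rwa [← show y = z from Subtype.ext he]
        have hwW : w ∈ V₁ ⊔ V₂ := Subgroup.mem_sup_left p.2.1.2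
        have hw2 : w ∉ V₂ := fun hh => by
          have h1 : w ∈ K ⊓ V₁ := ⟨h.le hh, p.2.1.2⟩
          rw [h.inf_eq, Subgroup.mem_bot] at h1
          exact hw1 h1
        set g : M := (⟨m, hm⟩ : M)⁻¹ * c with hg
        have e' : g * w * g⁻¹ = v' := by
          have e2 : c * w * c⁻¹ = ⟨m, hm⟩ * v' * (⟨m, hm⟩ : M)⁻¹ := Subtype.ext e
          rw [hg, mul_inv_rev, inv_inv,
            show (⟨m, hm⟩ : M)⁻¹ * c * w * (c⁻¹ * ⟨m, hm⟩) =
              (⟨m, hm⟩ : M)⁻¹ * (c * w * c⁻¹) * ⟨m, hm⟩ by group, e2]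
          group
        have hgW : g ∈ V₁ ⊔ V₂ := by
          by_contra hne
          exact Semi.ti h g hne hwW hw2 (e' ▸ hback v' hv.1)
        have hcomm : g * w = w * g := by
          have := Semi.isCyclic_sup h
          exact congrArg Subtype.val
            ((IsCyclic.isMulCommutative (α := ↥(V₁ ⊔ V₂))).is_comm.comm ⟨g, hgW⟩ ⟨w, hwW⟩)
        rw [hcomm, mul_inv_cancel_right] at e'
        exact hv.2.1 (show (v' : G) ∈ W₁ from e' ▸ p.2.1.2)⟩
  have hinj : Function.Injective Φ := by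
    rintro ⟨q, w⟩ ⟨q', w'⟩ e
    have e1 := congrArg Subtype.val e
    simp only [Φ] at e1
    set c : M := ((Quotient.out q : K) : M) with hc
    set c' : M := ((Quotient.out q' : K) : M) with hc'
    set x : M := ((w.1 : V₁) : M) with hx
    set x' : M := ((w'.1 : V₁) : M) with hx'
    have hx2 : x ∉ V₂ := fun hh => w.2 (Subtype.ext (by
      have h1 : x ∈ K ⊓ V₁ := ⟨h.le hh, w.1.2⟩
      rwa [h.inf_eq, Subgroup.mem_bot] at h1))
    have e2 : c'⁻¹ * c * x * (c'⁻¹ * c)⁻¹ = x' := by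
      rw [mul_inv_rev, inv_inv, show c'⁻¹ * c * x * (c⁻¹ * c') = c'⁻¹ * (c * x * c⁻¹) * c' by group,
        e1]
      group
    have hmem : c'⁻¹ * c ∈ V₁ ⊔ V₂ := by
      by_contra hne
      exact Semi.ti h _ hne (Subgroup.mem_sup_left w.1.2) hx2 (e2 ▸ Subgroup.mem_sup_left w'.1.2)
    obtain ⟨u, hu, v, hv, huv⟩ := CTI.exists_mul_of_mem
      (fun a ha b hb => (Semi.commute h ha hb).eq) hmem
    have hu1 : u = 1 := by
      have h1 : u ∈ K ⊓ V₁ := ⟨by
        have h2 : u = c'⁻¹ * c * v⁻¹ := by rw [huv]; group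
        rw [h2]
        exact K.mul_mem (K.mul_mem (K.inv_mem (Quotient.out q').2) (Quotient.out q).2)
          (K.inv_mem (h.le hv)), hu⟩
      rwa [h.inf_eq, Subgroup.mem_bot] at h1
    have hq : q = q' := by
      rw [← q.out_eq, ← q'.out_eq]
      refine (QuotientGroup.eq.mpr ?_).symm
      show ((Quotient.out q')⁻¹ * Quotient.out q : K).1 ∈ V₂
      rw [Subgroup.coe_mul, Subgroup.coe_inv]
      show c'⁻¹ * c ∈ V₂
      rw [huv, hu1, one_mul]; exact hv
    subst hq
    exact Prod.ext rfl (Subtype.ext (Subtype.ext (mul_left_cancel (mul_right_cancel e1))))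
  -- the identity is not hit
  let Ψ : Option ((K ⧸ C) × {w : V₁ // w ≠ 1}) → {x : M // ¬ (x : G) ∈ A₀} :=
    fun o => o.elim ⟨1, S.dade.one_not_mem⟩ Φ
  have hΦ1 : ∀ p, (Φ p).1 ≠ 1 := fun p e => p.2.2 (Subtype.ext (by
    simp only [Φ] at e
    exact (conj_eq_one_iff).mp e))
  have hΨ : Function.Injective Ψ := by
    intro a b e
    cases a <;> cases b
    · rfl
    · exact absurd (congrArg Subtype.val e).symm (hΦ1 _)
    · exact absurd (congrArg Subtype.val e) (hΦ1 _)
    · exact congrArg some (hinj e)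
  have hc := Nat.card_le_card_of_injective Ψ hΨ
  rw [Finite.card_option, Nat.card_prod] at hc
  have hsum : Nat.card {x : M // (x : G) ∈ A₀} + Nat.card {x : M // ¬ (x : G) ∈ A₀} = Nat.card M := by
    rw [← Nat.card_sum, Nat.card_congr (Equiv.sumCompl _)]
  have hV₁ : Nat.card {w : V₁ // w ≠ 1} = Nat.card W₁ - 1 := by
    rw [← Nat.card_congr (Subgroup.subgroupOfEquivOfLe S.le₁).toEquiv, Nat.card_eq_fintype_card,
      Fintype.card_subtype_compl, Fintype.card_subtype_eq, Nat.card_eq_fintype_card]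
  have hK : Nat.card K = Nat.card (K ⧸ C) * Nat.card W₂ := by
    rw [C.card_eq_card_quotient_mul_card_subgroup,
      Nat.card_congr (Subgroup.subgroupOfEquivOfLe h.le).toEquiv,
      Nat.card_congr (Subgroup.subgroupOfEquivOfLe S.le₂).toEquiv]
  rw [hV₁] at hc
  rw [hK, ← hsum]
  have h3 := Nat.mul_le_mul_right (Nat.card W₂) hc
  linarith

/-- The size of the support of the Dade map. -/
theorem card_supportSet_le (S : Setup M W₁ W₂ A₀ R) :
    (Nat.card (supportSet A₀ R) : ℝ) / Nat.card G ≤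
      1 - 1 / Nat.card M - ((Nat.card W₁ : ℝ) - 1) / (Nat.card W₁ * Nat.card W₂) := by
  classical
  let α : M → ℂ := fun x => if (x : G) ∈ A₀ then 1 else 0
  have hα : Cfsg.IsClassFunction M α := fun g c => by
    simp only [α]
    refine if_congr ⟨fun h => ?_, fun h => S.dade.conj_mem c c.2 _ h⟩ rfl rfl
    have := S.dade.conj_mem _ (inv_mem c.2) _ h
    simpa [mul_assoc] using this
  have h := Dade.dade_sum_classFun S.dade hα (fun x hx => if_neg hx) (f := fun _ => 1)
    (isClassFunction_const 1)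
  have hl : ∀ g : G, Cfsg.dadeIsometry A₀ M R α g = if g ∈ supportSet A₀ R then 1 else 0 := by
    intro g
    split_ifs with hg
    · obtain ⟨a, ha, u, hu, x, hx⟩ := hg
      rw [Dade.dade_apply S.dade hα (a := ⟨a, S.dade.subset ha⟩) ha hu hx]
      exact if_pos ha
    · exact tau_eq_zero (S := S) hg
  simp only [hl, mul_one, mean_const] at h
  rw [Finset.sum_boole, show (Finset.univ.filter fun g => g ∈ supportSet A₀ R).card =
      Nat.card (supportSet A₀ R) by
    rw [Nat.card_eq_fintype_card, Fintype.card_subtype]] at h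
  have hA : ∑ a : M, α a = (Nat.card {x : M // (x : G) ∈ A₀} : ℂ) := by
    simp only [α]
    rw [Finset.sum_boole, Nat.card_eq_fintype_card, Fintype.card_subtype]
  rw [hA] at h
  have hR : (Nat.card (supportSet A₀ R) : ℝ) =
      Nat.card G * (Nat.card M : ℝ)⁻¹ * Nat.card {x : M // (x : G) ∈ A₀} := by
    have := congrArg Complex.re h
    simpa [Complex.mul_re, Complex.inv_re, Complex.normSq_natCast] using this
  have hG : (0 : ℝ) < Nat.card G := by exact_mod_cast Nat.card_pos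
  have hM : (0 : ℝ) < Nat.card M := by exact_mod_cast Nat.card_pos
  have hp : (0 : ℝ) < Nat.card W₂ := by exact_mod_cast Nat.card_pos
  have hq : (0 : ℝ) < Nat.card W₁ := by exact_mod_cast Nat.card_pos
  have hcard : Nat.card M = Nat.card (commutator M) * Nat.card W₁ := by
    have hc : Subgroup.IsComplement' (commutator M) (W₁.subgroupOf M) :=
      Subgroup.isComplement'_of_disjoint_and_mul_eq_univ (disjoint_iff.mpr S.inf_eq)
        (by rw [← Subgroup.normal_mul, S.sup_eq, Subgroup.coe_top])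
    rw [← hc.card_mul, Nat.card_congr (Subgroup.subgroupOfEquivOfLe S.le₁).toEquiv]
  have hc := card_A₀_le S
  have hc' : (Nat.card {x : M // (x : G) ∈ A₀} : ℝ) * Nat.card W₂ + Nat.card W₂ +
      ((Nat.card W₁ : ℝ) - 1) * Nat.card (commutator M) ≤ Nat.card M * Nat.card W₂ := by
    have h1 : (1 : ℕ) ≤ Nat.card W₁ := Nat.card_pos
    have := (Nat.cast_le (α := ℝ)).mpr hc
    push_cast [h1] at this
    exact this
  rw [hR, hcard]
  rw [hcard] at hc' hM
  push_cast at hc' hM ⊢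
  have hK : (0 : ℝ) < Nat.card (commutator M) := by exact_mod_cast Nat.card_pos
  field_simp
  nlinarith [hc']

variable (F : Fam S) [Fintype (Ir₁ W₁ W₂)]

/-- The first column at a `q`-regular element. -/
theorem Fam.phi_odd {g : G} (hg : (orderOf g).Coprime (Nat.card W₁)) :
    1 ≤ ‖∑ i, F.eta i 1 g‖ := by
  classical
  obtain ⟨π₁, π₂, hπ, hπ₁, hπ₂, e₁, e₂⟩ := CTI.exists_proj S.sn
  have hint : ∀ i : Ir₁ W₁ W₂, ∃ n : ℤ, F.eta i 1 g = n := by
    intro i
    rw [F.eta_eq]
    refine Cfsg.Agent.S1508.result W₁ W₂ S.sn (S.odd_sub _) F.chi F.chi_family _ g ?_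
    refine hg.coprime_dvd_right (orderOf_dvd_of_pow_eq_one (MonoidHom.ext fun w => ?_))
    rw [MonoidHom.one_apply, MonoidHom.pow_apply, MonoidHom.mul_apply, one_val₂,
      MonoidHom.one_apply, mul_one]
    have hw : i.1 w = i.1 (π₁ w) := by
      conv_lhs => rw [← hπ w]
      rw [map_mul, i.2 _ (hπ₂ w), mul_one]
    rw [hw, ← map_pow]
    have h1 : (π₁ w) ^ Nat.card W₁ = 1 := by
      have := congrArg Subtype.val (pow_card_eq_one' (G := W₁) (x := ⟨_, hπ₁ w⟩))
      rw [SubgroupClass.coe_pow, OneMemClass.coe_one] at this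
      apply Subtype.ext
      rw [SubgroupClass.coe_pow, OneMemClass.coe_one]
      exact this
    rw [h1, map_one]
  choose n hn using hint
  have hinv : ∀ i, n i⁻¹ = n i := by
    intro i
    have h := congrFun (F.eta_conj i 1) g
    have h1 : ((1 : Ir₂ W₁ W₂))⁻¹ = 1 := Subtype.ext (inv_one (G := ↥(W₁ ⊔ W₂) →* ℂˣ))
    simp only [Cfsg.conjFun, hn, map_intCast, h1] at h
    exact_mod_cast h.symm
  have h1 : n 1 = 1 := by
    have h := hn 1
    simp only [F.eta_one] at h
    exact_mod_cast h.symm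
  have hdvd := sum_even_of_involution (1 : Ir₁ W₁ W₂) (fun i => i⁻¹) inv_inv₁
    (fun i hi => by_contra fun hne => inv_ne_self₁ S hne hi) (Subtype.ext (inv_one (G := ↥(W₁ ⊔ W₂) →* ℂˣ))) n hinv
  rw [h1] at hdvd
  have hne : ∑ i, n i ≠ 0 := fun e => by rw [e] at hdvd; norm_num at hdvd
  have he : ∑ i, F.eta i 1 g = ((∑ i, n i : ℤ) : ℂ) := by push_cast; simp [hn]
  rw [he, Complex.norm_intCast]
  exact_mod_cast Int.one_le_abs hne

variable [Fintype (Ir₂ W₁ W₂)] {F} {ι : Type*} [Fintype ι] (B : Block F ι)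

/-- The degree of a column. -/
noncomputable def Fam.dd (F : Fam S) (k : Ir₂ W₁ W₂) : ℤ := F.sgn k + F.nn k * Nat.card W₁

omit [Fintype (Ir₁ W₁ W₂)] [Fintype (Ir₂ W₁ W₂)] in
theorem Fam.dd_one (F : Fam S) : F.dd 1 = 1 := by
  have h := F.mu_apply_one 1 1
  simp only [F.mu_one_one.1] at h
  rw [Fam.dd]
  exact_mod_cast h.symm

omit [Fintype (Ir₂ W₁ W₂)] in
theorem Block.column_supp {a : ι} (ha : B.deg a = 1) (k : Ir₂ W₁ W₂) :
    F.muSum k - (F.dd k : ℂ) • B.ch a =
      ∑ i, B.alpha a i k + (F.sgn k : ℂ) • B.alpha₀ a := by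
  funext x
  simp only [Block.alpha, Block.alpha₀, ha, Fam.muSum, Fam.dd, Pi.sub_apply, Pi.add_apply,
    Pi.smul_apply, Finset.sum_apply, smul_eq_mul, Finset.sum_sub_distrib, Finset.sum_const,
    Finset.card_univ, ← Nat.card_eq_fintype_card, card_ir₁ S, nsmul_eq_mul, Nat.cast_one, one_mul,
    ← Finset.mul_sum]
  simp only [Pi.mul_apply, Pi.natCast_apply, Pi.smul_apply, smul_eq_mul]
  push_cast
  ring

/-- The flat case contradicts counting. -/
theorem Block.no_flat {a : ι} (ha : B.deg a = 1)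
    (hx : ∀ i, ∀ j, j ≠ 1 → Cfsg.classInner (tau S (B.alpha a i j)) (B.img a) = -(F.nn j : ℂ))
    {c : ℝ}
    (hsing : (Nat.card {g : G // g ≠ 1 ∧ ¬ (orderOf g).Coprime (Nat.card W₁) ∧
      g ∉ supportSet A₀ R} : ℝ) ≤ c * Nat.card G)
    (hnum : (Nat.card W₁ : ℝ) / ((Nat.card W₁ : ℝ) * ∑ b, (B.deg b : ℝ) ^ 2 +
        ∑ k, (F.dd k : ℝ) ^ 2) + c < ((Nat.card W₁ : ℝ) - 1) / (Nat.card W₁ * Nat.card W₂)) :
    False := by
  classical
  set χ := B.img a with hχ
  set q : ℝ := (Nat.card W₁ : ℝ) with hq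
  have hqpos : 0 < q := by rw [hq]; exact_mod_cast Nat.card_pos
  set Y : ℝ := ∑ b, (B.deg b : ℝ) ^ 2 + (∑ k, (F.dd k : ℝ) ^ 2) / q with hY
  have hΦ := B.gamma₀_eq ha hx
  -- the test function
  set β₁ : M → ℂ := ∑ b, (B.deg b : ℂ) • (B.ch b - (B.deg b : ℂ) • B.ch a) with hβ₁
  set β₂ : M → ℂ := ∑ k, ((F.dd k : ℂ) / (Nat.card W₁ : ℂ)) •
    (F.muSum k - (F.dd k : ℂ) • B.ch a) with hβ₂
  set β := β₁ + β₂ with hβ
  have hs1 : ∀ b, Supp S (B.ch b - (B.deg b : ℂ) • B.ch a) := fun b => by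
    have h := B.supp_link b a
    simpa [ha] using h
  have hs2 : ∀ k, Supp S (F.muSum k - (F.dd k : ℂ) • B.ch a) := fun k => by
    rw [B.column_supp ha]
    exact supp_add (supp_sum _ fun i _ => B.alpha_supp a i k) (supp_smul (B.alpha₀_supp a) _)
  have hβs : Supp S β :=
    supp_add (supp_sum _ fun b _ => supp_smul (hs1 b) _) (supp_sum _ fun k _ => supp_smul (hs2 k) _)
  have ht1 : ∀ b, Cfsg.classInner (tau S (B.ch b - (B.deg b : ℂ) • B.ch a)) χ =
      (if b = a then 1 else 0) - (B.deg b : ℂ) := by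
    intro b
    have h := B.link b a
    rw [ha, Nat.cast_one, one_smul, one_smul] at h
    rw [h, hχ, classInner_sub_left, classInner_smul_left, B.img_inner, B.self, mul_one]
  have h0χ : Cfsg.classInner (tau S (B.alpha₀ a)) χ = -1 := by
    rw [hΦ, hχ, classInner_sub_left, classInner_sum_left, B.self]
    simp [B.eta_orth']
  have ht2 : ∀ k, Cfsg.classInner (tau S (F.muSum k - (F.dd k : ℂ) • B.ch a)) χ =
      -(F.dd k : ℂ) := by
    intro k
    rw [B.column_supp ha, tau_add, tau_sum, tau_smul, classInner_add_left, classInner_sum_left,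
      classInner_smul_left, h0χ]
    by_cases hk : k = 1
    · subst hk
      have hz : ∀ i, B.alpha a i 1 = 0 := fun i => by
        funext x
        have hn : F.nn 1 = 0 := by
          have h := F.dd_one
          rw [Fam.dd, F.sgn_one] at h
          have : F.nn 1 * (Nat.card W₁ : ℤ) = 0 := by linarith
          simpa using this
        simp [Block.alpha, F.sgn_one, hn]
      rw [F.dd_one, F.sgn_one, Finset.sum_eq_zero fun i _ => by
        rw [hz i, show tau S (0 : M → ℂ) = 0 from by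
          simpa using tau_smul (S := S) 0 (0 : M → ℂ), classInner_zero_left]]
      simp
    · rw [Finset.sum_congr rfl fun i _ => hx i k hk, Finset.sum_const, Finset.card_univ,
        ← Nat.card_eq_fintype_card, card_ir₁ S, nsmul_eq_mul, Fam.dd]
      push_cast
      ring
  have hsY : Cfsg.classInner (tau S β) χ = ((1 - Y : ℝ) : ℂ) := by
    rw [hβ, hβ₁, hβ₂, tau_add, tau_sum, tau_sum, classInner_add_left, classInner_sum_left,
      classInner_sum_left]
    simp only [tau_smul, classInner_smul_left, ht1, ht2, mul_sub, mul_ite, mul_one, mul_zero,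
      Finset.sum_sub_distrib, Finset.sum_ite_eq', Finset.mem_univ, if_true, ha, Nat.cast_one]
    rw [hY, hq]
    push_cast
    rw [Finset.sum_div]
    simp only [← pow_two, neg_div, mul_neg, Finset.sum_neg_distrib, div_mul_eq_mul_div]
    ring
  -- the norm of β
  have hβnorm : Cfsg.classInner β β = ((Y ^ 2 - Y : ℝ) : ℂ) := by
    have hdec : β = (∑ b, (B.deg b : ℂ) • B.ch b) +
        (∑ k, ((F.dd k : ℂ) / (Nat.card W₁ : ℂ)) • F.muSum k) - (Y : ℂ) • B.ch a := by
      rw [hβ, hβ₁, hβ₂, hY, hq]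
      funext x
      simp only [Pi.add_apply, Pi.sub_apply, Pi.smul_apply, Finset.sum_apply, smul_eq_mul, mul_sub,
        Finset.sum_sub_distrib]
      push_cast
      rw [Finset.sum_div, add_mul, Finset.sum_mul, Finset.sum_mul]
      simp only [pow_two, mul_assoc, div_mul_eq_mul_div]
      ring
    rw [hdec]
    have hmm : ∀ k k', Cfsg.classInner (F.muSum k) (F.muSum k') =
        if k = k' then (Nat.card W₁ : ℂ) else 0 := by
      intro k k'
      conv_lhs => arg 2; unfold Fam.muSum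
      rw [classInner_sum_right]
      simp only [muSum_inner]
      rw [← card_ir₁ S, Nat.card_eq_fintype_card]
      split_ifs with e <;> simp
    have hcm : ∀ b k, Cfsg.classInner (B.ch b) (F.muSum k) = 0 := fun b k => by
      rw [← classInner_conj_symm, B.muSum_ch, map_zero]
    simp only [classInner_sub_left, classInner_sub_right, classInner_add_left, classInner_add_right,
      classInner_sum_left, classInner_sum_right, classInner_smul_left, classInner_smul_right,
      B.muSum_ch, hcm, hmm, B.ch_inner, map_natCast, map_intCast, map_div₀, Complex.conj_ofReal,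
      mul_ite, ite_mul, zero_mul, mul_zero, mul_one, one_mul, Finset.sum_ite_eq, Finset.sum_ite_eq', Finset.mem_univ, if_true,
      Finset.sum_const_zero, add_zero, zero_add, ha, Nat.cast_one, sub_zero, mul_sub, mul_add,
      Finset.sum_sub_distrib, Finset.sum_add_distrib]
    rw [hY, hq]
    have hq0 : (Nat.card W₁ : ℂ) ≠ 0 := Nat.cast_ne_zero.mpr Nat.card_pos.ne'
    push_cast
    rw [Finset.sum_div]
    have e : ∑ k, (F.dd k : ℂ) / (Nat.card W₁ : ℂ) *
        ((F.dd k : ℂ) / (Nat.card W₁ : ℂ) * (Nat.card W₁ : ℂ)) =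
        ∑ k, (F.dd k : ℂ) ^ 2 / (Nat.card W₁ : ℂ) :=
      Finset.sum_congr rfl fun k _ => by field_simp
    simp only [e, ← pow_two]
    ring
  -- the averaged restriction
  let ψ : M → ℂ := fun a =>
    if (a : G) ∈ A₀ then (Nat.card (R a) : ℂ)⁻¹ * ∑ᶠ u ∈ (R a : Set G), χ (a * u) else 0
  have hψ : ∀ a : M, (a : G) ∈ A₀ →
      ψ a = (Nat.card (R a) : ℂ)⁻¹ * ∑ᶠ u ∈ (R a : Set G), χ (a * u) := fun a ha => if_pos ha
  have hadj := Dade.dade_classInner S.dade hβs.1 hβs.2 (isClassFunction_of_isGen (B.gen a)) hψ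
  have hβψ : Cfsg.classInner β ψ = ((1 - Y : ℝ) : ℂ) := by rw [← hadj]; exact hsY
  have hY1 : 0 < Y := by
    have h1 : (B.deg a : ℝ) ^ 2 ≤ ∑ b, (B.deg b : ℝ) ^ 2 :=
      Finset.single_le_sum (f := fun b => (B.deg b : ℝ) ^ 2) (fun _ _ => sq_nonneg _)
        (Finset.mem_univ a)
    have h2 : 0 ≤ (∑ k, (F.dd k : ℝ) ^ 2) / q :=
      div_nonneg (Finset.sum_nonneg fun _ _ => sq_nonneg _) hqpos.le
    rw [ha] at h1
    push_cast at h1
    rw [hY]
    linarith
  have hP : 1 - 1 / Y ≤ Coh.nsq ψ := by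
    have h0 := Coh.nsq_nonneg (ψ + ((1 / Y : ℝ) : ℂ) • β)
    rw [Coh.nsq_add] at h0
    have e1 : Coh.nsq (((1 / Y : ℝ) : ℂ) • β) = (1 / Y) ^ 2 * (Y ^ 2 - Y) := by
      simp only [Coh.nsq, classInner_smul_left, classInner_smul_right, hβnorm, Complex.conj_ofReal,
        ← Complex.ofReal_mul, Complex.ofReal_re]
      ring
    have e2 : (Cfsg.classInner ψ (((1 / Y : ℝ) : ℂ) • β)).re = 1 / Y * (1 - Y) := by
      rw [classInner_smul_right, ← classInner_conj_symm, hβψ, Complex.conj_ofReal,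
        Complex.conj_ofReal, ← Complex.ofReal_mul, Complex.ofReal_re]
    rw [e1, e2] at h0
    have : (1 / Y) ^ 2 * (Y ^ 2 - Y) + 2 * (1 / Y * (1 - Y)) = -(1 - 1 / Y) := by field_simp; ring
    linarith
  have hS := Cfsg.Agent.S1525.result A₀ M R S.dade χ (isClassFunction_of_isGen (B.gen a)) ψ hψ
  -- the left side is `nsq ψ`
  have hleft : Coh.nsq ψ = (Nat.card M : ℝ)⁻¹ *
      ∑ᶠ x ∈ {x : M | (x : G) ∈ A₀}, ‖ψ x‖ ^ 2 := by
    rw [Coh.nsq, Coh.classInner_self_eq, Complex.ofReal_re,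
      finsum_mem_eq_sum_of_inter_support_eq]
    rw [Set.inter_comm]
    ext x
    simp only [Set.mem_inter_iff, Set.mem_setOf_eq, Finset.coe_univ, Set.mem_univ, true_and,
      Function.mem_support]
    exact ⟨fun h => h.1, fun h => ⟨h, by
      by_contra hA
      exact h (by simp [ψ, hA])⟩⟩
  rw [← hleft] at hS
  -- the total
  set Sp := supportSet A₀ R with hSp
  have htot : (Nat.card G : ℝ)⁻¹ * ∑ g : G, ‖χ g‖ ^ 2 = 1 := by
    have h := Coh.classInner_self_eq χ
    rw [B.self a] at h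
    exact_mod_cast h.symm
  have hright : ∑ᶠ g ∈ Sp, ‖χ g‖ ^ 2 =
      ∑ g ∈ Finset.univ.filter (fun g => g ∈ Sp), ‖χ g‖ ^ 2 :=
    finsum_mem_eq_sum_of_inter_support_eq _ (by simp)
  have hS' : Coh.nsq ψ ≤ (Nat.card G : ℝ)⁻¹ *
      ∑ g ∈ Finset.univ.filter (fun g => g ∈ Sp), ‖χ g‖ ^ 2 := by
    rw [← hright]; exact hS
  -- the complement
  set T := Finset.univ.filter fun g : G =>
    g ∉ Sp ∧ (orderOf g).Coprime (Nat.card W₁) with hT
  have hTval : ∀ g ∈ T, (1 : ℝ) ≤ ‖χ g‖ ^ 2 := by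
    intro g hg
    obtain ⟨hgS, hgq⟩ := (Finset.mem_filter.mp hg).2
    have h := congrFun hΦ g
    rw [tau_eq_zero hgS] at h
    have e : χ g = ∑ i, F.eta i 1 g := by
      simp only [Pi.sub_apply, Finset.sum_apply] at h
      linear_combination h
    rw [e]
    exact one_le_pow₀ (F.phi_odd hgq)
  have hsplit : ∑ g ∈ Finset.univ.filter (fun g => g ∈ Sp), ‖χ g‖ ^ 2 + T.card ≤
      ∑ g : G, ‖χ g‖ ^ 2 := by
    have h1 : (T.card : ℝ) ≤ ∑ g ∈ T, ‖χ g‖ ^ 2 := by
      have := Finset.card_nsmul_le_sum T (fun g => ‖χ g‖ ^ 2) 1 hTval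
      simpa using this
    have h2 : Disjoint (Finset.univ.filter fun g => g ∈ Sp) T := by
      rw [Finset.disjoint_left]
      intro g hg hgT
      exact (Finset.mem_filter.mp hgT).2.1 (Finset.mem_filter.mp hg).2
    have h3 : ∑ g ∈ Finset.univ.filter (fun g => g ∈ Sp), ‖χ g‖ ^ 2 + ∑ g ∈ T, ‖χ g‖ ^ 2 ≤
        ∑ g : G, ‖χ g‖ ^ 2 := by
      rw [← Finset.sum_union h2]
      exact Finset.sum_le_univ_sum_of_nonneg fun g => sq_nonneg _
    linarith
  have hTcard : (Nat.card G : ℝ) ≤ Nat.card Sp +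
      Nat.card {g : G // g ≠ 1 ∧ ¬ (orderOf g).Coprime (Nat.card W₁) ∧ g ∉ supportSet A₀ R} +
      T.card := by
    rw [Nat.card_eq_fintype_card, Nat.card_eq_fintype_card, Nat.card_eq_fintype_card,
      Fintype.card_subtype, Fintype.card_subtype, ← Finset.card_univ]
    norm_cast
    refine le_trans (Finset.card_le_card ?_)
      ((Finset.card_union_le _ _).trans (Nat.add_le_add_right (Finset.card_union_le _ _) _))
    intro g _
    simp only [T, Finset.mem_union, Finset.mem_filter, Finset.mem_univ, true_and]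
    by_cases hgS : g ∈ Sp
    · exact Or.inl (Or.inl hgS)
    · by_cases hgq : (orderOf g).Coprime (Nat.card W₁)
      · exact Or.inr ⟨hgS, hgq⟩
      · refine Or.inl (Or.inr ⟨fun e => hgq ?_, hgq, hgS⟩)
        rw [e, orderOf_one]
        exact Nat.coprime_one_left _
  have hG : (0 : ℝ) < Nat.card G := by exact_mod_cast Nat.card_pos
  have hb := card_supportSet_le S
  rw [← hq] at hb
  have hYeq : q / (q * ∑ b, (B.deg b : ℝ) ^ 2 + ∑ k, (F.dd k : ℝ) ^ 2) = 1 / Y := by
    rw [hY]; field_simp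
  rw [hYeq] at hnum
  have h5 : 1 - 1 / Y + (T.card : ℝ) / Nat.card G ≤ 1 := by
    calc 1 - 1 / Y + (T.card : ℝ) / Nat.card G
        ≤ (Nat.card G : ℝ)⁻¹ * (∑ g ∈ Finset.univ.filter (fun g => g ∈ Sp), ‖χ g‖ ^ 2 +
          T.card) := by
          rw [mul_add, ← div_eq_inv_mul (T.card : ℝ)]; linarith
      _ ≤ 1 := by rw [← htot]; exact mul_le_mul_of_nonneg_left hsplit (inv_nonneg.mpr hG.le)
  have h6 : 1 ≤ (Nat.card Sp : ℝ) / Nat.card G + c + (T.card : ℝ) / Nat.card G := by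
    rw [div_add' _ _ _ hG.ne', ← add_div, le_div_iff₀ hG]
    linarith
  have h7 : (0 : ℝ) ≤ 1 / (Nat.card M : ℝ) := by positivity
  linarith

end CfsgLib.OddChar.Prime
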