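import Cfsg.Agent.Lib.OddChar.Prime.Hyp
import Cfsg.Agent.Lib.OddChar.Prime.NoFlat

/-!
# The `q`-singular elements outside the support

* `sing_conj`: they are conjugate into `H u` with `C_H(u) ≠ 1` in the partner;
* `card_bad_le`: there are few such `u`;
* `flat_absurd`: the flat case never occurs for types III, IV, V.
-/

set_option autoImplicit false

namespace CfsgLib.OddChar.Prime

open CfsgLib.OddLocal
open CfsgLib.OddChar

universe u

variable {G : Type u} [Group G] [Finite G] (P : Pre G)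

/-- The semidirect setting of type P data. -/
theorem typeP_semi [Finite G] {N A V B : Subgroup G} (hP : Cfsg.IsTypePWith N A V B) :
    Semi.Setting (commutator N) (A.subgroupOf N) (B.subgroupOf N) where
  inf_eq := by
    refine (Subgroup.eq_bot_iff_forall _).mpr fun x ⟨hx1, hx2⟩ => ?_
    have hh : (x : G) ∈ ⁅N, N⁆ ⊓ A := ⟨(mem_commutator_iff N x).mp hx1, hx2⟩
    rw [hP.W₁_compl.2.2.1, Subgroup.mem_bot] at hh
    exact Subtype.ext hh
  sup_eq := by
    refine eq_top_iff.mpr fun x _ => ?_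
    obtain ⟨a, ha, b, hb, e⟩ := hP.W₁_compl.2.2.2 x x.2
    rw [show x = (⟨a, hP.W₁_compl.1 ha⟩ : N) * ⟨b, hP.W₁_compl.2.1 hb⟩ from Subtype.ext e]
    exact mul_mem (Subgroup.mem_sup_left ((mem_commutator_iff N _).mpr ha))
      (Subgroup.mem_sup_right hb)
  hall := by
    rw [Nat.card_congr (Subgroup.subgroupOfEquivOfLe hP.W₁_compl.2.1).toEquiv]
    exact hP.W₁_hall
  cyclic₁ := (Subgroup.subgroupOfEquivOfLe hP.W₁_compl.2.1).isCyclic.mpr hP.W₁_cyclic
  cyclic₂ := by
    have := hP.selfNormalizing.2.2.2.2.1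
    exact (Subgroup.subgroupOfEquivOfLe (TypeSets.typeP_W₂_le hP)).isCyclic.mpr
      (Subgroup.isCyclic_of_le (le_sup_right : B ≤ A ⊔ B))
  le := fun x hx => (mem_commutator_iff N x).mpr ((hP.W₂_le.trans inf_le_left).trans hP.U_compl.1 hx)
  cent := fun x hx hx1 => by
    have hx1' : (x : G) ≠ 1 := fun e => hx1 (Subtype.ext e)
    ext y
    rw [Subgroup.mem_subgroupOf, ← hP.W₂_centralizer x hx hx1', Subgroup.mem_inf, Subgroup.mem_inf,
      mem_commutator_iff, Subgroup.mem_centralizer_singleton_iff,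
      Subgroup.mem_centralizer_singleton_iff, Subtype.ext_iff]
    rfl

omit [Finite G] in
theorem mem_vset_mul {W₁ W₂ : Subgroup G} (hinf : W₁ ⊓ W₂ = ⊥) {a b : G} (ha : a ∈ W₁)
    (hb : b ∈ W₂) (ha1 : a ≠ 1) (hb1 : b ≠ 1) : a * b ∈ vset W₁ W₂ :=
  mul_mem_vset hinf ha hb ha1 hb1

/-- A Sylow subgroup of `M_F` whose normaliser stays in `M` is one of `G`. -/
theorem exists_sylow_le {N : Subgroup G} {r : ℕ} [hr : Fact r.Prime]
    (hr2 : r ∣ Nat.card (Cfsg.fittingHallOf N))
    (hnorm : ∀ P : Sylow r (Cfsg.fittingHallOf N),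
      (P : Subgroup (Cfsg.fittingHallOf N)) ≠ ⊥ →
      Subgroup.normalizer ((((P : Subgroup (Cfsg.fittingHallOf N)).map
        (Cfsg.fittingHallOf N).subtype : Subgroup G)) : Set G) ≤ N) :
    ∃ T : Sylow r G, (T : Subgroup G) ≤ Cfsg.fittingHallOf N := by
  set H := Cfsg.fittingHallOf N with hH
  obtain ⟨Q⟩ : Nonempty (Sylow r H) := inferInstance
  have hQ1 : (Q : Subgroup H) ≠ ⊥ := Q.ne_bot_of_dvd_card hr2
  set Qg : Subgroup G := (Q : Subgroup H).map H.subtype with hQg
  have hQp : IsPGroup r Qg := Q.2.map _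
  obtain ⟨T, hT⟩ := hQp.exists_le_sylow
  refine ⟨T, ?_⟩
  suffices h : Qg = T by rw [← h]; exact Subgroup.map_subtype_le _
  by_contra hne
  have hlt : Qg.subgroupOf T < ⊤ := by
    refine lt_top_iff_ne_top.mpr fun e => hne (le_antisymm hT ?_)
    exact Subgroup.subgroupOf_eq_top.mp e
  haveI : Group.IsNilpotent (T : Subgroup G) := T.2.isNilpotent
  obtain ⟨x, hxn, hxQ⟩ := SetLike.exists_of_lt
    (Group.normalizerCondition_of_isNilpotent (G := (T : Subgroup G)) _ hlt)
  have hxN : (x : G) ∈ Subgroup.normalizer (Qg : Set G) := by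
    rw [Subgroup.mem_normalizer_iff] at hxn ⊢
    intro y
    by_cases hy : y ∈ (T : Subgroup G)
    · exact hxn ⟨y, hy⟩
    · refine ⟨fun h => absurd (hT h) hy, fun h => absurd ?_ hy⟩
      have := (T : Subgroup G).mul_mem ((T : Subgroup G).mul_mem ((T : Subgroup G).inv_mem x.2) (hT h)) x.2
      simpa [mul_assoc] using this
  -- a larger r-subgroup of N
  set Y : Subgroup G := Qg ⊔ Subgroup.zpowers (x : G) with hY
  have hYT : Y ≤ T := sup_le hT (Subgroup.zpowers_le.mpr x.2)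
  have hYN : Y ≤ N := sup_le ((Subgroup.map_subtype_le _).trans (fittingHallOf_le N))
    (Subgroup.zpowers_le.mpr (hnorm Q hQ1 hxN))
  obtain ⟨k, hk⟩ := (IsPGroup.iff_card).mp (T.2.to_le hYT)
  have hQY : Nat.card Qg < Nat.card Y := by
    refine lt_of_le_of_ne (Subgroup.card_le_of_le le_sup_left) fun e => hxQ ?_
    have h2 := Subgroup.eq_of_le_of_card_ge (le_sup_left : Qg ≤ Y) e.ge
    show (x : G) ∈ Qg
    rw [h2]
    exact Subgroup.mem_sup_right (Subgroup.mem_zpowers _)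
  obtain ⟨j, hj⟩ := (IsPGroup.iff_card).mp hQp
  rw [hj, hk] at hQY
  have hjk : j < k := (Nat.pow_lt_pow_iff_right hr.out.one_lt).mp hQY
  -- `r ^ (j+1)` divides `|H|`
  have h1 : r ^ (j + 1) ∣ Nat.card N := (pow_dvd_pow r hjk).trans (hk ▸ Subgroup.card_dvd_of_le hYN)
  have h2 : Nat.card N = Nat.card H * H.relIndex N := by
    rw [← Subgroup.relIndex_bot_left H, ← Subgroup.relIndex_bot_left N]
    exact (Subgroup.relIndex_mul_relIndex ⊥ H N bot_le (fittingHallOf_le N)).symm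
  have hco : (r ^ (j + 1)).Coprime (H.relIndex N) :=
    Nat.Coprime.pow_left _ ((coprime_fittingHallOf N).coprime_dvd_left hr2)
  have h3 : r ^ (j + 1) ∣ Nat.card H := (hco).dvd_of_dvd_mul_right (h2 ▸ h1)
  have h4 := Q.card_eq_multiplicity
  have h5 : Nat.card Qg = Nat.card (Q : Subgroup H) :=
    Nat.card_congr ((Q : Subgroup H).equivMapOfInjective _ H.subtype_injective).toEquiv.symm
  rw [← h5, hj] at h4
  have h6 : j = (Nat.card H).factorization r := Nat.pow_right_injective hr.out.two_le h4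
  have h7 := (hr.out.pow_dvd_iff_le_factorization Nat.card_pos.ne').mp h3
  omega

/-- Elements of `V` not acting regularly on `H`. -/
def BadSet (N V : Subgroup G) : Set G :=
  {u | u ∈ V ∧ ∃ x ∈ Cfsg.fittingHallOf N, x ≠ 1 ∧ u * x = x * u}

variable {M W₁ U W₂ N V : Subgroup G}

include P in
theorem sing_conj (hNc : IsCoatom N) (hII : Cfsg.IsOfTypeII N)
    (hN : Cfsg.IsTypePWith N W₂ V W₁) {g : G}
    (hgq : ¬ (orderOf g).Coprime (Nat.card W₁))
    (hout : ∀ v ∈ vset W₁ W₂, ∀ c : G, c * g * c⁻¹ ≠ v) :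
    ∃ (c : G) (h : G) (u : G), h ∈ Cfsg.fittingHallOf N ∧ u ∈ BadSet N V ∧
      c * g * c⁻¹ = h * u := by
  have hG := P.minSimple
  have hs := maximal_solvable hG hNc
  set H := Cfsg.fittingHallOf N with hH
  have hcoreH : Cfsg.typeCore N = H :=
    TypeSets.typeCore_eq_fittingHallOf (TypeSets.not_typeIII_IV_of_typeII hs hII)
  obtain ⟨r, hr, hrg, hrq⟩ := Nat.Prime.not_coprime_iff_dvd.mp hgq
  haveI : Fact r.Prime := ⟨hr⟩
  have hrH : r ∣ Nat.card H :=
    hrq.trans (Subgroup.card_dvd_of_le (hN.W₂_le.trans inf_le_left))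
  obtain ⟨T, hT⟩ := exists_sylow_le (N := N) hrH (fun Q hQ => by
    have h := P.sylowNorm N hNc r hr
    rw [hcoreH] at h
    exact h Q hQ)
  set x := g ^ (orderOf g / r) with hx
  have hox : orderOf x = r := orderOf_pow_orderOf_div (orderOf_pos g).ne' hrg
  have hxp : IsPGroup r (Subgroup.zpowers x) :=
    IsPGroup.of_card (n := 1) (by rw [Nat.card_zpowers, hox, pow_one])
  obtain ⟨T', hT'⟩ := hxp.exists_le_sylow
  obtain ⟨c, hc⟩ := MulAction.exists_smul_eq G T' T
  have hxH : c * x * c⁻¹ ∈ H := hT (by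
    rw [← hc]
    show c * x * c⁻¹ ∈ ((c • T' : Sylow r G) : Subgroup G)
    rw [Sylow.coe_subgroup_smul]
    exact ⟨x, hT' (Subgroup.mem_zpowers x), rfl⟩)
  have hx1 : c * x * c⁻¹ ≠ 1 := by
    intro e
    have : x = 1 := by simpa using e
    rw [this, orderOf_one] at hox
    exact hr.one_lt.ne hox
  set y := c * g * c⁻¹ with hy
  have hyx : y * (c * x * c⁻¹) = c * x * c⁻¹ * y := by
    rw [hy, hx]; exact TypeSets.conj_comm ((Commute.refl g).pow_right _).eq
  have hyN : y ∈ N := TypeSets.centralizer_le_of_typeII hG hNc hII _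
    ⟨hcoreH.symm ▸ hxH, by simpa using hx1⟩ (Subgroup.mem_centralizer_singleton_iff.mpr hyx)
  by_cases hyD : y ∈ ⁅N, N⁆
  · -- inside `N'`
    obtain ⟨h, hh, u, hu, e⟩ := hN.U_compl.2.2.2 y hyD
    refine ⟨c, h, u, hh, ⟨hu, ?_⟩, e⟩
    have hcop := typeP_coprime_U hN
    obtain ⟨k, hk1, hk2⟩ := Nat.chineseRemainder hcop 0 1
    have hHn : ∀ n ∈ N, ∀ a ∈ H, n * a * n⁻¹ ∈ H := fun n hn a ha =>
      TypeSets.conj_mem_subgroup (le_normalizer_fittingHallOf N) hn ha
    have hVN : V ≤ N := typeP_U_le hN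
    have hpow : ∀ m : ℕ, ∃ a ∈ H, (h * u) ^ m = a * u ^ m := by
      intro m
      induction m with
      | zero => exact ⟨1, one_mem _, by simp⟩
      | succ m ih =>
        obtain ⟨a, ha, ea⟩ := ih
        refine ⟨a * (u ^ m * h * (u ^ m)⁻¹),
          mul_mem ha (hHn _ (pow_mem (hVN hu) m) h hh), ?_⟩
        rw [pow_succ, ea]
        group
    set z := y ^ k with hz
    obtain ⟨a, ha, ea⟩ := hpow k
    have huk : u ^ k = u := by
      have h1 : orderOf u ∣ Nat.card V := Subgroup.orderOf_dvd_natCard V hu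
      rw [← pow_mod_orderOf, ((Nat.ModEq.of_dvd h1 hk2) : k % orderOf u = 1 % orderOf u),
        pow_mod_orderOf, pow_one]
    rw [huk] at ea
    have hzV : ∀ p : ℕ, p.Prime → p ∣ Nat.card (Subgroup.zpowers z) → p ∣ Nat.card V := by
      intro p _ hp
      refine hp.trans ?_
      rw [Nat.card_zpowers]
      refine orderOf_dvd_of_pow_eq_one ?_
      rw [hz, ← pow_mul]
      obtain ⟨t, ht⟩ := (Nat.modEq_zero_iff_dvd).mp hk1
      have hD : y ^ Nat.card ↥⁅N, N⁆ = 1 :=
        congrArg Subtype.val (pow_card_eq_one' (x := (⟨y, hyD⟩ : ↥⁅N, N⁆)))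
      rw [card_of_isComplIn hN.U_compl] at hD
      rw [ht, show Nat.card H * t * Nat.card V = Nat.card H * Nat.card V * t by ring, pow_mul, hD,
        one_pow]
    have hsD : Group.IsSolvable ↥⁅N, N⁆ :=
      haveI := hs
      Group.isSolvable_of_isSolvable_injective
        (Subgroup.inclusion_injective (Subgroup.commutator_le_self N))
    have hVhall : Cfsg.IsPiHallOf {p | p ∣ Nat.card V} V ⁅N, N⁆ :=
      ⟨hN.U_compl.2.1, fun _ _ h => h, fun p hp hpV hpi =>
        Nat.not_coprime_of_dvd_of_dvd hp.one_lt ((relIndex_of_isComplIn hN.U_compl).1 ▸ hpi) hpV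
          hcop⟩
    have hzD : z ∈ ⁅N, N⁆ := pow_mem hyD k
    obtain ⟨d, hd, hdle⟩ := exists_conj_le_piHall hsD hVhall (Subgroup.zpowers_le.mpr hzD) hzV
    have hdz : d * z * d⁻¹ ∈ V := hdle ⟨z, Subgroup.mem_zpowers z, rfl⟩
    obtain ⟨h₂, hh₂, u₂, hu₂, ed⟩ := hN.U_compl.2.2.2 d⁻¹ (inv_mem hd)
    have hd' : d = u₂⁻¹ * h₂⁻¹ := by rw [← mul_inv_rev, ← ed, inv_inv]
    have hw : h₂⁻¹ * z * h₂ ∈ V := by
      have : h₂⁻¹ * z * h₂ = u₂ * (d * z * d⁻¹) * u₂⁻¹ := by rw [hd']; group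
      rw [this]
      exact V.mul_mem (V.mul_mem hu₂ hdz) (V.inv_mem hu₂)
    have hzu : z = a * u := by rw [hz, e, ea]
    have hweq : h₂⁻¹ * z * h₂ = u := by
      have h3 : h₂⁻¹ * z * h₂ * u⁻¹ ∈ H ⊓ V := by
        refine ⟨?_, V.mul_mem hw (V.inv_mem hu)⟩
        rw [show h₂⁻¹ * z * h₂ * u⁻¹ = h₂⁻¹ * a * (u * h₂ * u⁻¹) by rw [hzu]; group]
        exact H.mul_mem (H.mul_mem (H.inv_mem hh₂) ha) (hHn u (hVN hu) h₂ hh₂)
      rw [hN.U_compl.2.2.1, Subgroup.mem_bot, mul_inv_eq_one] at h3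
      exact h3
    refine ⟨h₂⁻¹ * (c * x * c⁻¹) * h₂, mul_mem (mul_mem (inv_mem hh₂) hxH) hh₂, ?_, ?_⟩
    · intro e1
      apply hx1
      calc c * x * c⁻¹ = h₂ * (h₂⁻¹ * (c * x * c⁻¹) * h₂) * h₂⁻¹ := by group
        _ = 1 := by rw [e1]; group
    · rw [← hweq]
      have h4 : z * (c * x * c⁻¹) = c * x * c⁻¹ * z := ((Commute.pow_left (show Commute y _ from hyx)) k).eq
      have h5 := TypeSets.conj_comm (m := h₂⁻¹) h4
      rw [inv_inv] at h5
      exact h5
  · -- outside `N'`: conjugate into `W`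
    have := Fintype.ofFinite N
    obtain ⟨m, a, ha, b, hb, ha1, e⟩ := semi_exists_conj (typeP_semi hN)
      (x := (⟨y, hyN⟩ : N)) (fun h => hyD ((mem_commutator_iff N _).mp h))
    have e' : (m : G)⁻¹ * y * (m : G) = (a : G) * b := by
      have e0 : y = (m : G) * ((a : G) * b) * (m : G)⁻¹ := congrArg Subtype.val e
      rw [e0]; group
    have hinf : W₁ ⊓ W₂ = ⊥ := by rw [inf_comm]; exact hN.selfNormalizing.2.2.1
    have hab : (a : G) * b = (b : G) * a := (hN.selfNormalizing.2.2.2.1 _ ha _ hb)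
    by_cases hb1 : (b : G) = 1
    · exfalso
      apply hgq
      have hog : orderOf g = orderOf (a : G) := by
        rw [show (a : G) = ((m : G)⁻¹ * c) * g * ((m : G)⁻¹ * c)⁻¹ by
          have : (m : G)⁻¹ * y * (m : G) = (a : G) := by rw [e', hb1, mul_one]
          rw [← this, hy]; group]
        exact (orderOf_injective (MulAut.conj ((m : G)⁻¹ * c)).toMonoidHom
          (MulEquiv.injective _) g).symm
      rw [hog]
      have hsemi := Semi.coprime_card (typeP_semi hN)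
      rw [Nat.card_congr (Subgroup.subgroupOfEquivOfLe hN.W₁_compl.2.1).toEquiv,
        Nat.card_congr (Subgroup.subgroupOfEquivOfLe (TypeSets.typeP_W₂_le hN)).toEquiv] at hsemi
      exact hsemi.coprime_dvd_left (Subgroup.orderOf_dvd_natCard W₂ ha)
    · exfalso
      refine hout ((b : G) * a) (mul_mem_vset hinf hb ha hb1 fun h => ha1 (Subtype.ext h))
        ((m : G)⁻¹ * c) ?_
      rw [← hab, ← e', hy]
      group

include P in
theorem card_bad_le (hNc : IsCoatom N) (hII : Cfsg.IsOfTypeII N)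
    (hN : Cfsg.IsTypePWith N W₂ V W₁) :
    15 * Nat.card (BadSet N V) ≤ 7 * Nat.card V := by
  classical
  have := Fintype.ofFinite G
  have hG := P.minSimple
  have hs := maximal_solvable hG hNc
  -- N(V) is not in N
  obtain ⟨g, hgV, hgN⟩ : ∃ g ∈ Subgroup.normalizer (V : Set G), g ∉ N := by
    obtain ⟨A, V', B, hP', -, -, -, -, hnot, -⟩ := id hII
    obtain ⟨m, hm, he⟩ := TypeSets.exists_conj_U hs hP' hN
    have hnot' : ¬ Subgroup.normalizer (V : Set G) ≤ N := fun hle => hnot (by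
      rw [← he, normalizer_map_conj]
      exact (Subgroup.map_mono hle).trans (map_conj_of_mem hm).le)
    exact Set.not_subset.mp hnot'
  set B : Finset G := Finset.univ.filter fun u => u ∈ BadSet N V ∧ u ≠ 1 with hB
  have hone : (1 : G) ∈ BadSet N V := by
    obtain ⟨x, hx, hx1⟩ := exists_mem_ne_one (H := Cfsg.fittingHallOf N) fun h =>
      hN.H_not_cyclic (h ▸ inferInstance)
    exact ⟨one_mem _, x, hx, hx1, by simp⟩
  have hBad : Nat.card (BadSet N V) = B.card + 1 := by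
    rw [Nat.card_eq_fintype_card, Fintype.card_subtype]
    have : (Finset.univ.filter fun u => u ∈ BadSet N V) = insert 1 B := by
      ext u
      by_cases hu : u = 1
      · simp [hB, hu, hone]
      · simp [hB, hu]
    rw [this, Finset.card_insert_of_notMem (by simp [hB])]
  have huniq : ∀ u ∈ B, ∀ t : G, t ∉ N → t * u * t⁻¹ ∉ B := by
    intro u hu t ht hu'
    have key : ∀ v ∈ B, Subgroup.centralizer ({v} : Set G) ≤ N ∧
        ∀ L : Subgroup G, IsCoatom L → Subgroup.centralizer ({v} : Set G) ≤ L → L = N := by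
      intro v hv
      obtain ⟨⟨hvV, x, hx, hx1, hvx⟩, hv1⟩ := (Finset.mem_filter.mp hv).2
      refine P.regularII N V hNc hII hN.U_compl {v} (Set.singleton_subset_iff.mpr ⟨hvV, hv1⟩)
        (Set.singleton_nonempty v) fun h => hx1 ?_
      rw [← Subgroup.mem_bot, ← h]
      exact ⟨hx, Subgroup.mem_centralizer_singleton_iff.mpr hvx.symm⟩
    have h1 := (key _ hu').1
    have h2 : N.map (MulAut.conj t⁻¹).toMonoidHom = N := by
      refine (key u hu).2 _ (isCoatom_map_conj hNc t⁻¹) ?_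
      intro z hz
      refine ⟨t * z * t⁻¹, h1 (Subgroup.mem_centralizer_singleton_iff.mpr
        (TypeSets.conj_comm (Subgroup.mem_centralizer_singleton_iff.mp hz))), ?_⟩
      show t⁻¹ * (t * z * t⁻¹) * t⁻¹⁻¹ = z
      group
    refine ht (inv_mem_iff.mp ?_)
    have hn : (t⁻¹ : G) ∈ Subgroup.normalizer (N : Set G) := by
      rw [Subgroup.mem_normalizer_iff]
      intro z
      conv_rhs => rw [← h2]
      exact ⟨fun hz => ⟨z, hz, rfl⟩, fun ⟨w, hw, e⟩ => (MulAut.conj t⁻¹).injective e ▸ hw⟩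
    rwa [normalizer_eq_of_normal hG hNc le_rfl (fun h => hN.H_not_cyclic ?_)
      Subgroup.le_normalizer] at hn
    rw [show Cfsg.fittingHallOf N = ⊥ from le_bot_iff.mp (h ▸ fittingHallOf_le N)]
    infer_instance
  have hg2 : g * g ∉ N := fun h => hgN (by
    obtain ⟨k, hk⟩ := hG.1.of_dvd_nat (orderOf_dvd_natCard g)
    have : g = (g * g) ^ (k + 1) := by
      rw [← pow_two, ← pow_mul, show 2 * (k + 1) = orderOf g + 1 by omega, pow_succ,
        pow_orderOf_eq_one, one_mul]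
    rw [this]
    exact pow_mem h _)
  let f : G → G → G := fun t u => t * u * t⁻¹
  have hdisj : ∀ t : G, t ∉ N → Disjoint B (B.image (f t)) := by
    intro t ht
    rw [Finset.disjoint_left]
    intro u hu hu'
    obtain ⟨v, hv, rfl⟩ := Finset.mem_image.mp hu'
    exact huniq v hv t ht hu
  have hd3 : Disjoint (B.image (f g)) (B.image (f (g * g))) := by
    rw [Finset.disjoint_left]
    intro u hu hu'
    obtain ⟨v, hv, rfl⟩ := Finset.mem_image.mp hu
    obtain ⟨w, hw, e⟩ := Finset.mem_image.mp hu'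
    refine huniq w hw g hgN ?_
    have : g * w * g⁻¹ = v := by
      simp only [f] at e
      have := congrArg (fun z => g⁻¹ * z * g) e
      simpa [mul_assoc] using this
    rw [this]; exact hv
  have hsub : B ∪ B.image (f g) ∪ B.image (f (g * g)) ⊆
      (Finset.univ.filter fun u => u ∈ V ∧ u ≠ 1) := by
    intro u hu
    simp only [Finset.mem_union, Finset.mem_image] at hu
    have hmem : ∀ v ∈ B, v ∈ V ∧ v ≠ 1 := fun v hv =>
      ⟨(Finset.mem_filter.mp hv).2.1.1, (Finset.mem_filter.mp hv).2.2⟩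
    have hconj : ∀ t ∈ Subgroup.normalizer (V : Set G), ∀ v ∈ B, f t v ∈ V ∧ f t v ≠ 1 :=
      fun t ht v hv => ⟨(Subgroup.mem_normalizer_iff.mp ht v).mp (hmem v hv).1,
        TypeSets.conj_ne_one (hmem v hv).2⟩
    simp only [Finset.mem_filter, Finset.mem_univ, true_and]
    rcases hu with (h | ⟨v, hv, rfl⟩) | ⟨v, hv, rfl⟩
    exacts [hmem u h, hconj g hgV v hv, hconj _ (mul_mem hgV hgV) v hv]
  have hcard := Finset.card_le_card hsub
  have hinj : ∀ t : G, Function.Injective (f t) := fun t => (MulAut.conj t).injective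
  rw [Finset.card_union_of_disjoint (Finset.disjoint_union_left.mpr ⟨hdisj _ hg2, hd3⟩),
    Finset.card_union_of_disjoint (hdisj g hgN), Finset.card_image_of_injective _ (hinj _),
    Finset.card_image_of_injective _ (hinj _)] at hcard
  have hV : (Finset.univ.filter fun u => u ∈ V ∧ u ≠ 1).card + 1 = Nat.card V := by
    rw [Nat.card_eq_fintype_card, Fintype.card_subtype,
      show (Finset.univ.filter fun u => u ∈ V ∧ u ≠ 1) =
        (Finset.univ.filter fun u => u ∈ V).erase 1 from by ext u; simp [and_comm],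
      Finset.card_erase_add_one (by simp [one_mem V])]
  -- `|V|` is odd, not 1 and not 3
  have hV5 : 5 ≤ Nat.card V := by
    obtain ⟨k, hk⟩ := hG.1.of_dvd_nat (Subgroup.card_subgroup_dvd_card V)
    have hne1 : Nat.card V ≠ 1 := by
      intro h
      obtain ⟨A, V', B', hP', hne, -⟩ := id hII
      obtain ⟨m, -, he⟩ := TypeSets.exists_conj_U hs hP' hN
      refine hne (Subgroup.card_eq_one.mp ?_)
      rw [← he, card_map_conj, h]
    have hne3 : Nat.card V ≠ 3 := by
      intro h3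
      obtain ⟨w, hw, hw1⟩ := exists_mem_ne_one hN.W₁_ne
      obtain ⟨u, hu, hu1⟩ := exists_mem_ne_one (H := V) fun h => by
        rw [h] at h3; simp at h3
      have hwu : w * u * w⁻¹ ∈ V := (Subgroup.mem_normalizer_iff.mp (hN.U_normal hw) u).mp hu
      have hu3 : u ^ 3 = 1 := by
        have := congrArg Subtype.val (pow_card_eq_one' (x := (⟨u, hu⟩ : V)))
        rw [h3] at this
        exact this
      have hou : orderOf u = 3 :=
        (Nat.prime_three.eq_one_or_self_of_dvd _ (orderOf_dvd_of_pow_eq_one hu3)).resolve_left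
          (by rwa [orderOf_eq_one_iff])
      have hz : Subgroup.zpowers u = V :=
        Subgroup.eq_of_le_of_card_ge (Subgroup.zpowers_le.mpr hu) (by rw [Nat.card_zpowers, hou, h3])
      obtain ⟨i, hi⟩ := Subgroup.mem_zpowers_iff.mp (hz.symm ▸ hwu)
      have hi3 : u ^ (i % 3) = u ^ i := by
        rw [show ((3 : ℤ)) = ((orderOf u : ℕ) : ℤ) by rw [hou]; rfl, zpow_mod_orderOf]
      have hcomm : w * u = u * w := by
        have h0 : i % 3 = 0 ∨ i % 3 = 1 ∨ i % 3 = 2 := by omega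
        rcases h0 with h | h | h <;> rw [h] at hi3 <;> rw [← hi3] at hi
        · exfalso
          apply hu1
          rw [zpow_zero] at hi
          simpa using hi.symm
        · rw [zpow_one] at hi
          calc w * u = w * u * w⁻¹ * w := by group
            _ = u * w := by rw [← hi]
        · have hw2 : w * w * u = u * (w * w) := by
            have h6 : w * u * w⁻¹ = u ^ 2 := by rw [← hi]; exact zpow_two u ▸ (pow_two u).symm
            have h7 : w * w * u * (w * w)⁻¹ = u := by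
              calc w * w * u * (w * w)⁻¹ = w * (w * u * w⁻¹) * w⁻¹ := by group
                _ = w * u ^ 2 * w⁻¹ := by rw [h6]
                _ = (w * u * w⁻¹) ^ 2 := by rw [conj_pow]
                _ = u ^ 2 * u ^ 2 := by rw [h6, pow_two (u ^ 2)]
                _ = u ^ 3 * u := by group
                _ = u := by rw [hu3, one_mul]
            calc w * w * u = w * w * u * (w * w)⁻¹ * (w * w) := by group
              _ = u * (w * w) := by rw [h7]
          obtain ⟨j, hj⟩ := hG.1.of_dvd_nat (orderOf_dvd_natCard w)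
          have e : w = (w * w) ^ (j + 1) := by
            rw [← pow_two, ← pow_mul, show 2 * (j + 1) = orderOf w + 1 by omega, pow_succ,
              pow_orderOf_eq_one, one_mul]
          rw [e]
          exact (Commute.pow_left hw2 _).eq
      have hmem : u ∈ ⁅N, N⁆ ⊓ Subgroup.centralizer ({w} : Set G) :=
        ⟨hN.U_compl.2.1 hu, Subgroup.mem_centralizer_singleton_iff.mpr hcomm.symm⟩
      rw [hN.W₂_centralizer w hw hw1] at hmem
      have h8 : u ∈ Cfsg.fittingHallOf N ⊓ V := ⟨(hN.W₂_le hmem).1, hu⟩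
      rw [hN.U_compl.2.2.1, Subgroup.mem_bot] at h8
      exact hu1 h8
    omega
  omega

include P in
/-- The singular elements outside the support are few. -/
theorem sing_bound [Fintype G] (hM : IsCoatom M) (h : IsType345 M)
    (hP : Cfsg.IsTypePWith M W₁ U W₂) :
    (Nat.card {g : G // g ≠ 1 ∧ ¬ (orderOf g).Coprime (Nat.card W₁) ∧
      g ∉ supportSet (Cfsg.typeA0 M) (Cfsg.supportR M)} : ℝ) ≤
      7 / (15 * Nat.card W₂) * Nat.card G := by
  classical
  obtain ⟨N, V, hNc, hN, -, hII, -⟩ := partner_II P hM h hP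
  set S := setup_of_kernel P hM h hP
  let Ψ : (G ⧸ N) × (Cfsg.fittingHallOf N) × (BadSet N V) → G :=
    fun t => Quotient.out t.1 * ((t.2.1 : G) * t.2.2) * (Quotient.out t.1)⁻¹
  have hcov : ∀ g : {g : G // g ≠ 1 ∧ ¬ (orderOf g).Coprime (Nat.card W₁) ∧
      g ∉ supportSet (Cfsg.typeA0 M) (Cfsg.supportR M)}, ∃ t, Ψ t = g := by
    rintro ⟨g, -, hgq, hgS⟩
    obtain ⟨c, a, u, ha, hu, e⟩ := sing_conj P hNc hII hN hgq fun v hv c hcv =>
      hgS ⟨v, S.v_mem v hv, 1, one_mem _, c, by rw [hcv, mul_one]⟩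
    obtain ⟨n, hn⟩ := QuotientGroup.mk_out_eq_mul N c⁻¹
    -- move the representative
    have hy : (n : G)⁻¹ * (a * u) * (n : G) ∈ ⁅N, N⁆ := by
      have h1 : a * u ∈ ⁅N, N⁆ := mul_mem (hN.U_compl.1 ha) (hN.U_compl.2.1 hu.1)
      simpa using TypeSets.conj_mem_subgroup (TypeSets.le_normalizer_derived N) (inv_mem n.2) h1
    obtain ⟨a', ha', u', hu', e'⟩ := hN.U_compl.2.2.2 _ hy
    have hcomm : ∃ x ∈ Cfsg.fittingHallOf N, x ≠ 1 ∧ u' * x = x * u' := by
      -- `u'` is conjugate to `u` in `N'` modulo `H`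
      obtain ⟨x, hx, hx1, hux⟩ := hu.2
      obtain ⟨b, hb, k, hk, en⟩ : ∃ b ∈ ⁅N, N⁆, ∃ k ∈ W₂, (n : G) = b * k :=
        hN.W₁_compl.2.2.2 n n.2
      obtain ⟨b₁, hb₁, b₂, hb₂, eb⟩ := hN.U_compl.2.2.2 b hb
      have hHn : ∀ t ∈ N, ∀ z ∈ Cfsg.fittingHallOf N, t * z * t⁻¹ ∈ Cfsg.fittingHallOf N :=
        fun t ht z hz => TypeSets.conj_mem_subgroup (le_normalizer_fittingHallOf N) ht hz
      set s := b₂ * k with hs
      have hsN : s ∈ N := mul_mem (typeP_U_le hN hb₂) (hN.W₁_compl.2.1 hk)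
      have hsV : s⁻¹ * u * s ∈ V := by
        have h1 : b₂⁻¹ * u * b₂ ∈ V := mul_mem (mul_mem (inv_mem hb₂) hu.1) hb₂
        have h2 := (Subgroup.mem_normalizer_iff.mp (inv_mem (hN.U_normal hk)) _).mp h1
        rw [hs, mul_inv_rev]
        simpa [mul_assoc] using h2
      have hn' : (n : G) = b₁ * s := by rw [en, eb, hs, mul_assoc]
      have hz : (n : G)⁻¹ * (a * u) * (n : G) =
          (s⁻¹ * (b₁⁻¹ * a * (u * b₁ * u⁻¹)) * s) * (s⁻¹ * u * s) := by rw [hn']; group
      have hz1 : s⁻¹ * (b₁⁻¹ * a * (u * b₁ * u⁻¹)) * s ∈ Cfsg.fittingHallOf N := by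
        have := hHn s⁻¹ (inv_mem hsN) _
          (mul_mem (mul_mem (inv_mem hb₁) ha) (hHn u (typeP_U_le hN hu.1) b₁ hb₁))
        simpa using this
      have hu'eq : u' = s⁻¹ * u * s := by
        have h3 : a'⁻¹ * (s⁻¹ * (b₁⁻¹ * a * (u * b₁ * u⁻¹)) * s) ∈
            Cfsg.fittingHallOf N ⊓ V := by
          refine ⟨(Cfsg.fittingHallOf N).mul_mem ((Cfsg.fittingHallOf N).inv_mem ha') hz1, ?_⟩
          have h4 : a'⁻¹ * (s⁻¹ * (b₁⁻¹ * a * (u * b₁ * u⁻¹)) * s) = u' * (s⁻¹ * u * s)⁻¹ := by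
            have := hz.symm.trans e'
            rw [eq_comm, ← eq_inv_mul_iff_mul_eq] at this
            rw [this]; group
          rw [h4]
          exact V.mul_mem hu' (V.inv_mem hsV)
        rw [hN.U_compl.2.2.1, Subgroup.mem_bot, inv_mul_eq_one] at h3
        have := hz.symm.trans e'
        rw [← h3] at this
        exact (mul_left_cancel this).symm
      refine ⟨s⁻¹ * x * s, ?_, ?_, ?_⟩
      · simpa using hHn s⁻¹ (inv_mem hsN) x hx
      · simpa using TypeSets.conj_ne_one (m := s⁻¹) hx1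
      · rw [hu'eq]
        simpa using TypeSets.conj_comm (m := s⁻¹) hux
    refine ⟨⟨(c⁻¹ : G), ⟨a', ha'⟩, ⟨u', hu', hcomm⟩⟩, ?_⟩
    show Quotient.out ((c⁻¹ : G) : G ⧸ N) * (a' * u') * (Quotient.out ((c⁻¹ : G) : G ⧸ N))⁻¹ = g
    rw [hn, ← e', ← e]
    group
  choose T hT using hcov
  have hle := Nat.card_le_card_of_injective T fun g g' e =>
    Subtype.ext (by rw [← hT g, ← hT g', e])
  rw [Nat.card_prod, Nat.card_prod] at hle
  have hbad := card_bad_le P hNc hII hN
  have hcard : Nat.card N = Nat.card (Cfsg.fittingHallOf N) * Nat.card V * Nat.card W₂ := by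
    rw [card_of_isComplIn hN.W₁_compl, card_of_isComplIn hN.U_compl]
  have hGN : Nat.card G = Nat.card (G ⧸ N) * Nat.card N := N.card_eq_card_quotient_mul_card_subgroup
  set s := Nat.card {g : G // g ≠ 1 ∧ ¬ (orderOf g).Coprime (Nat.card W₁) ∧
      g ∉ supportSet (Cfsg.typeA0 M) (Cfsg.supportR M)}
  set iN := Nat.card (G ⧸ N)
  set hh := Nat.card (Cfsg.fittingHallOf N)
  have hfin : s * (15 * Nat.card W₂) ≤ 7 * Nat.card G := by
    calc s * (15 * Nat.card W₂) ≤ iN * (hh * Nat.card (BadSet N V)) * (15 * Nat.card W₂) :=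
          Nat.mul_le_mul_right _ hle
      _ = iN * hh * Nat.card W₂ * (15 * Nat.card (BadSet N V)) := by ring
      _ ≤ iN * hh * Nat.card W₂ * (7 * Nat.card V) := Nat.mul_le_mul_left _ hbad
      _ = 7 * Nat.card G := by rw [hGN, hcard]; ring
  have hfin' : (s : ℝ) * (15 * Nat.card W₂) ≤ 7 * Nat.card G := by exact_mod_cast hfin
  have hp : (0 : ℝ) < Nat.card W₂ := by exact_mod_cast Nat.card_pos
  rw [div_mul_eq_mul_div, le_div_iff₀ (by positivity)]
  linarith

include P in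
/-- The flat case does not occur. -/
theorem flat_absurd [Fintype G] [Fintype M] (hM : IsCoatom M) (h : IsType345 M)
    (hP : Cfsg.IsTypePWith M W₁ U W₂)
    {F : Fam (setup_of_kernel P hM h hP)} [Fintype (Ir₁ W₁ W₂)] [Fintype (Ir₂ W₁ W₂)]
    {ι : Type*} [Fintype ι] (B : Block F ι) {a : ι} (ha : B.deg a = 1)
    (hx : ∀ i, ∀ j, j ≠ 1 → Cfsg.classInner
      (tau (setup_of_kernel P hM h hP) (B.alpha a i j)) (B.img a) = -(F.nn j : ℂ)) : False := by
  classical
  refine B.no_flat ha hx (sing_bound P hM h hP) ?_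
  set q : ℝ := (Nat.card W₁ : ℝ) with hq
  set p : ℝ := (Nat.card W₂ : ℝ) with hp
  have hq3 : (3 : ℝ) ≤ q := by rw [hq]; exact_mod_cast three_le₁ (setup_of_kernel P hM h hP)
  have hp3 : (3 : ℝ) ≤ p := by rw [hp]; exact_mod_cast three_le₂ (setup_of_kernel P hM h hP)
  have hd : ∀ k : Ir₂ W₁ W₂, k ≠ 1 → (2 * q - 1) ^ 2 ≤ (F.dd k : ℝ) ^ 2 := fun k hk => by
    have hdd : 2 * q - 1 ≤ (F.dd k : ℝ) := by
      have := (F.two_le_nn hk).2.2.1
      rw [hq]
      exact_mod_cast this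
    exact pow_le_pow_left₀ (by linarith) hdd 2
  have hsum : (p - 1) * (2 * q - 1) ^ 2 ≤ ∑ k, (F.dd k : ℝ) ^ 2 := by
    rw [← Finset.add_sum_erase _ _ (Finset.mem_univ (1 : Ir₂ W₁ W₂))]
    have h1 := Finset.card_nsmul_le_sum (Finset.univ.erase (1 : Ir₂ W₁ W₂))
      (fun k => (F.dd k : ℝ) ^ 2) _ fun k hk => hd k (Finset.ne_of_mem_erase hk)
    rw [Finset.card_erase_of_mem (Finset.mem_univ _), Finset.card_univ, nsmul_eq_mul,
      Nat.cast_sub (Fintype.card_pos), ← Nat.card_eq_fintype_card, card_ir₂ (setup_of_kernel P hM h hP), Nat.cast_one] at h1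
    have := sq_nonneg (F.dd 1 : ℝ)
    linarith
  have hW : 0 ≤ ∑ b, (B.deg b : ℝ) ^ 2 := Finset.sum_nonneg fun _ _ => sq_nonneg _
  set D : ℝ := q * ∑ b, (B.deg b : ℝ) ^ 2 + ∑ k, (F.dd k : ℝ) ^ 2 with hD
  have hDlb : 2 * p / 3 * (2 * q - 1) ^ 2 ≤ D := by
    have h1 : 2 * p / 3 * (2 * q - 1) ^ 2 ≤ (p - 1) * (2 * q - 1) ^ 2 :=
      mul_le_mul_of_nonneg_right (by linarith) (sq_nonneg _)
    have := mul_nonneg (by linarith : (0 : ℝ) ≤ q) hW
    rw [hD]; linarith
  have hDpos : 0 < D := lt_of_lt_of_le (mul_pos (by positivity) (by nlinarith)) hDlb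
  have key : q ^ 2 * p * 15 < D * (8 * q - 15) := by
    have h1 : q ^ 2 * p * 15 < 2 * p / 3 * (2 * q - 1) ^ 2 * (8 * q - 15) := by
      have : 45 * q ^ 2 < 2 * (2 * q - 1) ^ 2 * (8 * q - 15) := by nlinarith
      nlinarith
    exact h1.trans_le (mul_le_mul_of_nonneg_right hDlb (by linarith))
  show q / D + 7 / (15 * p) < (q - 1) / (q * p)
  rw [div_add_div _ _ hDpos.ne' (by positivity), div_lt_div_iff₀ (by positivity) (by positivity)]
  nlinarith

end CfsgLib.OddChar.Prime
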