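import Cfsg.Agent.Lib.OddChar.SemiChar
import Cfsg.Agent.Lib.OddChar.CyclicExists
import Cfsg.Agent.Lib.OddChar.Dade
import Cfsg.Agent.S1503

/-!
# The prime Dade setting for a maximal subgroup of type P

* `Setup`: the hypotheses;
* `Fam`: the families `μ` (on M) and `η` (on G) with their properties; `exists_fam`;
* `lin_eq_of_off`, `lin_eq_of_vset`: uniqueness of linear characters.
-/

set_option autoImplicit false

namespace CfsgLib.OddChar.Prime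

open CfsgLib.Char
open CfsgLib.OddChar

universe u

variable {G : Type u} [Group G]

/-- `W₁ × W₂` minus the two factors. -/
def vset (W₁ W₂ : Subgroup G) : Set G := {v | v ∈ W₁ ⊔ W₂ ∧ v ∉ W₁ ∧ v ∉ W₂}

/-- The linear characters of W trivial on W₂. -/
abbrev Ir₁ (W₁ W₂ : Subgroup G) : Type u :=
  {φ : ↥(W₁ ⊔ W₂) →* ℂˣ // ∀ w : ↥(W₁ ⊔ W₂), (w : G) ∈ W₂ → φ w = 1}

/-- The linear characters of W trivial on W₁. -/
abbrev Ir₂ (W₁ W₂ : Subgroup G) : Type u :=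
  {φ : ↥(W₁ ⊔ W₂) →* ℂˣ // ∀ w : ↥(W₁ ⊔ W₂), (w : G) ∈ W₁ → φ w = 1}

variable {W₁ W₂ : Subgroup G}

instance : One (Ir₁ W₁ W₂) := ⟨⟨1, fun _ _ => rfl⟩⟩

instance : One (Ir₂ W₁ W₂) := ⟨⟨1, fun _ _ => rfl⟩⟩

instance : Inv (Ir₁ W₁ W₂) := ⟨fun φ => ⟨φ.1⁻¹, fun w hw => by simp [φ.2 w hw]⟩⟩

instance : Inv (Ir₂ W₁ W₂) := ⟨fun φ => ⟨φ.1⁻¹, fun w hw => by simp [φ.2 w hw]⟩⟩

@[simp] theorem one_val₁ : (1 : Ir₁ W₁ W₂).1 = 1 := rfl

@[simp] theorem one_val₂ : (1 : Ir₂ W₁ W₂).1 = 1 := rfl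

@[simp] theorem inv_val₁ (φ : Ir₁ W₁ W₂) : φ⁻¹.1 = φ.1⁻¹ := rfl

@[simp] theorem inv_val₂ (φ : Ir₂ W₁ W₂) : φ⁻¹.1 = φ.1⁻¹ := rfl

/-- The prime Dade setting. -/
structure Setup (M : Subgroup G) (W₁ W₂ : Subgroup G) (A₀ : Set G) (R : G → Subgroup G) : Prop where
  odd : Odd (Nat.card G)
  le₁ : W₁ ≤ M
  le₂ : W₂ ≤ M
  ne₁ : W₁ ≠ ⊥
  ne₂ : W₂ ≠ ⊥
  inf_eq : commutator M ⊓ W₁.subgroupOf M = ⊥
  sup_eq : commutator M ⊔ W₁.subgroupOf M = ⊤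
  hall : (Nat.card W₁).Coprime (W₁.relIndex M)
  cyclic₁ : IsCyclic W₁
  cyclic₂ : IsCyclic W₂
  le_derived₂ : W₂.subgroupOf M ≤ ⁅commutator M, commutator M⁆
  cent : ∀ x ∈ W₁.subgroupOf M, x ≠ 1 →
    commutator M ⊓ Subgroup.centralizer ({x} : Set M) = W₂.subgroupOf M
  sn : Cfsg.IsSelfNormalizingCyclic W₁ W₂
  dade : Cfsg.DadeHypothesis A₀ M R
  kernel_mem : ∀ x : M, x ∈ commutator M → x ≠ 1 → (x : G) ∈ A₀
  v_mem : ∀ v ∈ vset W₁ W₂, v ∈ A₀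
  split : ∀ x : M, (x : G) ∈ A₀ → x ∈ commutator M ∨
    ∃ m ∈ M, ∃ v ∈ vset W₁ W₂, (x : G) = m * v * m⁻¹
  R_v : ∀ v ∈ vset W₁ W₂, R v = ⊥

variable {M : Subgroup G} {A₀ : Set G} {R : G → Subgroup G}

theorem Setup.le (S : Setup M W₁ W₂ A₀ R) : W₁ ⊔ W₂ ≤ M := sup_le S.le₁ S.le₂

theorem Setup.le_commutator (S : Setup M W₁ W₂ A₀ R) : W₂.subgroupOf M ≤ commutator M :=
  S.le_derived₂.trans (Subgroup.commutator_le_left _ _)

theorem subgroupOf_ne_bot {H : Subgroup G} (hle : H ≤ M) (h : H ≠ ⊥) : H.subgroupOf M ≠ ⊥ :=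
  fun e => h (by rw [Subgroup.subgroupOf_eq_bot, disjoint_iff, inf_eq_left.mpr hle] at e; exact e)

theorem Setup.semi [Finite G] (S : Setup M W₁ W₂ A₀ R) :
    Semi.Setting (commutator M) (W₁.subgroupOf M) (W₂.subgroupOf M) where
  inf_eq := S.inf_eq
  sup_eq := S.sup_eq
  hall := by
    rw [Nat.card_congr (Subgroup.subgroupOfEquivOfLe S.le₁).toEquiv]
    exact S.hall
  cyclic₁ := (Subgroup.subgroupOfEquivOfLe S.le₁).isCyclic.mpr S.cyclic₁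
  cyclic₂ := (Subgroup.subgroupOfEquivOfLe S.le₂).isCyclic.mpr S.cyclic₂
  le := S.le_commutator
  cent := S.cent

theorem Setup.odd_sub [Finite G] (S : Setup M W₁ W₂ A₀ R) (H : Subgroup G) : Odd (Nat.card H) :=
  S.odd.of_dvd_nat (Subgroup.card_subgroup_dvd_card H)

theorem sq_ne_one [Finite G] (hodd : Odd (Nat.card G)) {g : G} (hg : g ≠ 1) : g * g ≠ 1 := by
  intro h
  apply hg
  have h2 : orderOf g ∣ 2 := orderOf_dvd_of_pow_eq_one (by rw [pow_two, h])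
  exact orderOf_eq_one_iff.mp
    (Nat.eq_one_of_dvd_coprimes (Nat.coprime_two_left.mpr hodd) h2 (orderOf_dvd_natCard g))

theorem mul_mem_vset (hinf : W₁ ⊓ W₂ = ⊥) {a b : G} (ha : a ∈ W₁) (hb : b ∈ W₂)
    (ha1 : a ≠ 1) (hb1 : b ≠ 1) : a * b ∈ vset W₁ W₂ := by
  refine ⟨mul_mem (Subgroup.mem_sup_left ha) (Subgroup.mem_sup_right hb), fun h => hb1 ?_,
    fun h => ha1 ?_⟩
  · have : b ∈ W₁ ⊓ W₂ := ⟨by simpa using mul_mem (inv_mem ha) h, hb⟩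
    rwa [hinf, Subgroup.mem_bot] at this
  · have : a ∈ W₁ ⊓ W₂ := ⟨ha, by simpa using mul_mem h (inv_mem hb)⟩
    rwa [hinf, Subgroup.mem_bot] at this

theorem exists_mem_ne_one {H : Subgroup G} (h : H ≠ ⊥) : ∃ x ∈ H, x ≠ 1 :=
  (Subgroup.bot_or_exists_ne_one H).resolve_left h

/-- Linear characters agreeing up to signs on V. -/
theorem lin_eq_of_vset [Finite G] (hodd : Odd (Nat.card G))
    (hW : Cfsg.IsSelfNormalizingCyclic W₁ W₂) {ν ω : ↥(W₁ ⊔ W₂) →* ℂˣ} {f g : ℂ} (hf : f ≠ 0)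
    (h : ∀ w : ↥(W₁ ⊔ W₂), (w : G) ∈ vset W₁ W₂ → f * (ν w : ℂ) = g * (ω w : ℂ)) :
    f = g ∧ ν = ω := by
  classical
  let ρ : ↥(W₁ ⊔ W₂) →* ℂˣ := ω * ν⁻¹
  have hρ : ∀ w : ↥(W₁ ⊔ W₂), (w : G) ∈ vset W₁ W₂ → g * (ρ w : ℂ) = f := by
    intro w hw
    have := h w hw
    simp only [ρ, MonoidHom.mul_apply, MonoidHom.inv_apply, Units.val_mul,
      Units.val_inv_eq_inv_val]
    have h0 := Units.ne_zero (ν w)
    field_simp
    linear_combination -this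
  have hg : g ≠ 0 := by
    obtain ⟨a, ha, ha1⟩ := exists_mem_ne_one hW.1
    obtain ⟨b, hb, hb1⟩ := exists_mem_ne_one hW.2.1
    intro h0
    refine hf ?_
    rw [← hρ ⟨a * b, mul_mem (Subgroup.mem_sup_left ha) (Subgroup.mem_sup_right hb)⟩
      (mul_mem_vset hW.2.2.1 ha hb ha1 hb1), h0, zero_mul]
  let c₁ : ∀ x ∈ W₁, ↥(W₁ ⊔ W₂) := fun x hx => ⟨x, Subgroup.mem_sup_left hx⟩
  let c₂ : ∀ x ∈ W₂, ↥(W₁ ⊔ W₂) := fun x hx => ⟨x, Subgroup.mem_sup_right hx⟩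
  have hprod : ∀ a (ha : a ∈ W₁) b (hb : b ∈ W₂), a ≠ 1 → b ≠ 1 →
      g * ((ρ (c₁ a ha) : ℂ) * (ρ (c₂ b hb) : ℂ)) = f := by
    intro a ha b hb ha1 hb1
    rw [← Units.val_mul, ← map_mul]
    exact hρ _ (mul_mem_vset hW.2.2.1 ha hb ha1 hb1)
  obtain ⟨a₀, ha₀, ha₀1⟩ := exists_mem_ne_one hW.1
  obtain ⟨b₀, hb₀, hb₀1⟩ := exists_mem_ne_one hW.2.1
  have h1 : ∀ a (ha : a ∈ W₁), ρ (c₁ a ha) = 1 := by
    intro a ha
    by_cases ha1 : a = 1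
    · subst ha1; exact map_one ρ
    have e := (hprod a ha b₀ hb₀ ha1 hb₀1).trans
      (hprod (a * a) (mul_mem ha ha) b₀ hb₀ (sq_ne_one hodd ha1) hb₀1).symm
    have e2 : (ρ (c₁ a ha) : ℂ) = (ρ (c₁ (a * a) (mul_mem ha ha)) : ℂ) :=
      mul_right_cancel₀ (Units.ne_zero _) (mul_left_cancel₀ hg e)
    rw [show c₁ (a * a) (mul_mem ha ha) = c₁ a ha * c₁ a ha from rfl, map_mul, Units.val_mul] at e2
    exact Units.ext ((mul_eq_right₀ (Units.ne_zero _)).mp e2.symm)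
  have h2 : ∀ b (hb : b ∈ W₂), ρ (c₂ b hb) = 1 := by
    intro b hb
    by_cases hb1 : b = 1
    · subst hb1; exact map_one ρ
    have e := (hprod a₀ ha₀ b hb ha₀1 hb1).trans
      (hprod a₀ ha₀ (b * b) (mul_mem hb hb) ha₀1 (sq_ne_one hodd hb1)).symm
    have e2 : (ρ (c₂ b hb) : ℂ) = (ρ (c₂ (b * b) (mul_mem hb hb)) : ℂ) :=
      mul_left_cancel₀ (Units.ne_zero _) (mul_left_cancel₀ hg e)
    rw [show c₂ (b * b) (mul_mem hb hb) = c₂ b hb * c₂ b hb from rfl, map_mul, Units.val_mul] at e2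
    exact Units.ext ((mul_eq_right₀ (Units.ne_zero _)).mp e2.symm)
  have := Fintype.ofFinite ↥(W₁ ⊔ W₂)
  have hρ1 : ρ = 1 := CTI.hom_eq_one (fun w hw => h1 w hw) (fun w hw => h2 w hw)
  refine ⟨?_, (mul_inv_eq_one.mp hρ1).symm⟩
  have := hprod a₀ ha₀ b₀ hb₀ ha₀1 hb₀1
  rw [h1 a₀ ha₀, h2 b₀ hb₀, Units.val_one, mul_one, mul_one] at this
  exact this.symm

/-- The two families. -/
structure Fam (S : Setup M W₁ W₂ A₀ R) [Fintype G] where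
  mu : Ir₁ W₁ W₂ → Ir₂ W₁ W₂ → M → ℂ
  sgn : Ir₂ W₁ W₂ → ℤ
  eta : Ir₁ W₁ W₂ → Ir₂ W₁ W₂ → G → ℂ
  sgn_eq : ∀ j, sgn j = 1 ∨ sgn j = -1
  mu_irr : ∀ i j, Cfsg.IsIrrCharacter M (mu i j)
  mu_inj : ∀ i j i' j', mu i j = mu i' j' → i = i' ∧ j = j'
  mu_deg : ∀ i j, ∃ n : ℤ, mu i j 1 - (sgn j : ℂ) = n * (Nat.card W₁ : ℂ)
  mu_val : ∀ i j, ∀ w : ↥(W₁ ⊔ W₂), (w : G) ∉ W₂ →
    mu i j ⟨w, S.le w.2⟩ = sgn j * ((i.1 w : ℂ) * (j.1 w : ℂ))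
  mu_res : ∀ i i' j, ∀ k ∈ commutator M, mu i j k = mu i' j k
  mu_only : ∀ θ : M → ℂ, Cfsg.IsIrrCharacter M θ → (∀ i j, θ ≠ mu i j) →
    ∀ w : ↥(W₁ ⊔ W₂), (w : G) ∉ W₂ → θ ⟨w, S.le w.2⟩ = 0
  eta_irr : ∀ i j, Cfsg.IsIrrCharacter G (eta i j) ∨ Cfsg.IsIrrCharacter G (-eta i j)
  eta_self : ∀ i j, Cfsg.classInner (eta i j) (eta i j) = 1
  eta_ne : ∀ i j i' j', (i, j) ≠ (i', j') → Cfsg.classInner (eta i j) (eta i' j') = 0
  eta_one : eta 1 1 = fun _ => 1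
  eta_val : ∀ i j, ∀ w : ↥(W₁ ⊔ W₂), (w : G) ∈ vset W₁ W₂ →
    eta i j w = (i.1 w : ℂ) * (j.1 w : ℂ)
  eta_cover : ∀ θ : G → ℂ, Cfsg.IsIrrCharacter G θ →
    (∀ i j, Cfsg.classInner θ (eta i j) = 0) → ∀ v ∈ vset W₁ W₂, θ v = 0
  chi : (↥(W₁ ⊔ W₂) →* ℂˣ) → (G → ℂ)
  chi_family : Cfsg.IsCyclicTIFamily W₁ W₂ chi
  eta_eq : ∀ i j, eta i j = chi (i.1 * j.1)

/-- The families exist. -/
theorem exists_fam [Fintype G] (S : Setup M W₁ W₂ A₀ R) : Nonempty (Fam S) := by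
  classical
  have := Fintype.ofFinite M
  have := Fintype.ofFinite ↥(W₁ ⊔ W₂)
  set V₁ : Subgroup M := W₁.subgroupOf M
  set V₂ : Subgroup M := W₂.subgroupOf M
  have hV₁ : V₁ ≠ ⊥ := subgroupOf_ne_bot S.le₁ S.ne₁
  have hV₂ : V₂ ≠ ⊥ := subgroupOf_ne_bot S.le₂ S.ne₂
  have := Fintype.ofFinite ↥(V₁ ⊔ V₂)
  obtain ⟨μ, δ, hinj, hirr, hδ, hpair, hval, honly, hdeg⟩ := Semi.exists_mu S.semi hV₁ hV₂
  have hin : ∀ x : M, x ∈ V₁ ⊔ V₂ → (x : G) ∈ W₁ ⊔ W₂ := fun x hx => by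
    have h : (V₁ ⊔ V₂).map M.subtype ≤ W₁ ⊔ W₂ := by
      rw [Subgroup.map_sup, Subgroup.map_subgroupOf_eq_of_le S.le₁,
        Subgroup.map_subgroupOf_eq_of_le S.le₂]
    exact h ⟨x, hx, rfl⟩
  let ι : ↥(V₁ ⊔ V₂) →* ↥(W₁ ⊔ W₂) :=
    MonoidHom.mk' (fun x => ⟨((x : M) : G), hin x x.2⟩) fun _ _ => rfl
  have hback : ∀ w : ↥(W₁ ⊔ W₂), (⟨w, S.le w.2⟩ : M) ∈ V₁ ⊔ V₂ := by
    intro w
    have h : W₁ ⊔ W₂ ≤ (V₁ ⊔ V₂).map M.subtype := by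
      rw [Subgroup.map_sup, Subgroup.map_subgroupOf_eq_of_le S.le₁,
        Subgroup.map_subgroupOf_eq_of_le S.le₂]
    obtain ⟨x, hx, he⟩ := h w.2
    have e' : x = ⟨w, S.le w.2⟩ := Subtype.ext he
    rwa [e'] at hx
  have hι : Function.Surjective ι := fun w => ⟨⟨_, hback w⟩, rfl⟩
  obtain ⟨χ, hχ⟩ := CTI.exists_family S.sn (S.odd_sub _)
  let ω : Ir₁ W₁ W₂ → Ir₂ W₁ W₂ → (↥(V₁ ⊔ V₂) →* ℂˣ) := fun i j => (i.1 * j.1).comp ι
  let dI : Ir₂ W₁ W₂ → ℂ := fun j => δ (ω 1 j)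
  have hδI : ∀ i j, δ (ω i j) = dI j := fun i j =>
    (hpair (ω i j) (ω 1 j) fun w hw => by simp [ω, i.2 (ι w) hw]).1
  let sg : Ir₂ W₁ W₂ → ℤ := fun j => if dI j = 1 then 1 else -1
  have hsg : ∀ j, (sg j : ℂ) = dI j := by
    intro j
    rcases hδ (ω 1 j) with h | h
    · simp [sg, dI, h]
    · have h1 : dI j ≠ 1 := by simp only [dI, h]; norm_num
      simp only [sg, if_neg h1]
      push_cast
      exact h.symm
  have hχinj : ∀ i j i' j', (i : Ir₁ W₁ W₂).1 * (j : Ir₂ W₁ W₂).1 = i'.1 * j'.1 →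
      i = i' ∧ j = j' := fun i j i' j' e => by
    obtain ⟨e1, e2⟩ := CTI.hom_ext_of_sup i.2 i'.2 j.2 j'.2 e
    exact ⟨Subtype.ext e1, Subtype.ext e2⟩
  refine ⟨
    { mu := fun i j => μ (ω i j)
      sgn := sg
      eta := fun i j => χ (i.1 * j.1)
      chi := χ
      chi_family := hχ
      eta_eq := fun _ _ => rfl
      sgn_eq := fun j => by by_cases h : dI j = 1 <;> simp [sg, h]
      mu_irr := fun i j => hirr _
      mu_inj := fun i j i' j' e => hχinj _ _ _ _ (MonoidHom.ext fun w => by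
        obtain ⟨x, rfl⟩ := hι w
        exact DFunLike.congr_fun (hinj e) x)
      mu_deg := fun i j => ?_
      mu_val := fun i j w hw => ?_
      mu_res := fun i i' j k hk => ?_
      mu_only := fun θ hθ hne w hw => ?_
      eta_irr := fun i j => hχ.irr_or_neg _
      eta_self := fun i j => by rw [hχ.orthonormal, if_pos rfl]
      eta_ne := fun i j i' j' hne => by
        rw [hχ.orthonormal, if_neg fun e => hne (by obtain ⟨a, b⟩ := hχinj _ _ _ _ e; rw [a, b])]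
      eta_one := by show χ (1 * 1) = _; rw [CTI.hom_mul_one, hχ.map_one]
      eta_val := fun i j w hw => by rw [hχ.eq_on _ w hw.2.1 hw.2.2]; simp
      eta_cover := fun θ hθ h0 v hv => ?_ }⟩
  · obtain ⟨n, hn⟩ := hdeg (ω i j)
    refine ⟨n, ?_⟩
    rw [hsg, ← hδI i j, hn, Nat.card_congr (Subgroup.subgroupOfEquivOfLe S.le₁).toEquiv]
  · rw [hsg, ← hδI i j]
    exact (hval (ω i j) ⟨_, hback w⟩ hw).trans (by simp [ω, ι])
  · obtain ⟨-, h2⟩ := hpair (ω i j) (ω i' j) fun w hw => by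
      simp [ω, i.2 (ι w) hw, i'.2 (ι w) hw]
    have h3 := congrFun h2 k
    have hz : Cfsg.indFun (V₁ ⊔ V₂) (fun w => (ω i j w : ℂ) - (ω i' j w : ℂ)) k = 0 := by
      rw [indFun_apply, Finset.sum_eq_zero, mul_zero]
      intro x _
      by_cases hx : x⁻¹ * k * x ∈ V₁ ⊔ V₂
      · rw [extendByZero_of_mem _ hx]
        have hxK : x⁻¹ * k * x ∈ commutator M := by
          simpa using (inferInstance : (commutator M).Normal).conj_mem k hk x⁻¹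
        obtain ⟨a, ha, b, hb, he⟩ := CTI.exists_mul_of_mem
          (fun a ha b hb => (Semi.commute S.semi ha hb).eq) hx
        have ha1 : a = 1 := by
          have : a ∈ commutator M ⊓ V₁ := ⟨by
            have : a = x⁻¹ * k * x * b⁻¹ := by rw [he]; group
            rw [this]
            exact (commutator M).mul_mem hxK ((commutator M).inv_mem (S.le_commutator hb)), ha⟩
          rwa [S.inf_eq, Subgroup.mem_bot] at this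
        have hW : ((x⁻¹ * k * x : M) : G) ∈ W₂ := by rw [he, ha1, one_mul]; exact hb
        simp [ω, i.2 (ι ⟨_, hx⟩) hW, i'.2 (ι ⟨_, hx⟩) hW]
      · exact extendByZero_of_notMem _ hx
    rw [hz] at h3
    simp only [Pi.smul_apply, Pi.sub_apply, smul_eq_mul] at h3
    rcases hδ (ω i j) with e | e <;> rw [e] at h3
    · linear_combination -h3
    · linear_combination h3
  · refine honly θ hθ (fun ν e => ?_) ⟨_, hback w⟩ hw
    obtain ⟨π₁, π₂, hπ, hπ₁, hπ₂, e₁, e₂⟩ := CTI.exists_proj S.sn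
    let ν' : ↥(W₁ ⊔ W₂) →* ℂˣ :=
      ν.comp (MonoidHom.mk' (fun w : ↥(W₁ ⊔ W₂) => (⟨_, hback w⟩ : ↥(V₁ ⊔ V₂))) fun _ _ => rfl)
    refine hne ⟨ν'.comp π₁, fun w hw => by simp [(e₂ w hw).1]⟩
      ⟨ν'.comp π₂, fun w hw => by simp [(e₁ w hw).2]⟩ (e.trans (congrArg μ ?_))
    ext x
    simp only [ω, MonoidHom.comp_apply, MonoidHom.mul_apply, ← map_mul, hπ]
    rfl
  · obtain ⟨hvW, hv1, hv2⟩ := hv
    obtain ⟨π₁, π₂, hπ, hπ₁, hπ₂, e₁, e₂⟩ := CTI.exists_proj S.sn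
    refine Cfsg.Agent.S1503.result W₁ W₂ S.sn χ hχ θ hθ (fun ν => ?_) ⟨v, hvW⟩ hv1 hv2
    have he : (ν.comp π₁) * (ν.comp π₂) = ν := MonoidHom.ext fun w => by
      simp [← map_mul, hπ]
    have := h0 ⟨ν.comp π₁, fun w hw => by simp [(e₂ w hw).1]⟩
      ⟨ν.comp π₂, fun w hw => by simp [(e₁ w hw).2]⟩
    rwa [he] at this

end CfsgLib.OddChar.Prime
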