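import Cfsg.Agent.Lib.OddChar.DadeSets
import Cfsg.Agent.Lib.OddChar.SetsFrozen
import Cfsg.Agent.Lib.OddChar.Prime.Setup

/-!
# The local facts needed for PF 10–11 and the prime Dade setting of a type P subgroup

* `Pre`: the predecessors;
* `conj_W₁`, `W₁_card_prime`: uniqueness of the data;
* `setup_of_kernel`: the setting on `A₀(M)` for types III, IV, V;
* `partner_II`: the partner of type II.
-/

set_option autoImplicit false

namespace CfsgLib.OddChar.Prime

open CfsgLib.OddLocal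
open CfsgLib.OddChar

universe u

variable {G : Type u} [Group G] [Finite G]

/-- M is of type III, IV or V. -/
def IsType345 (M : Subgroup G) : Prop :=
  Cfsg.IsOfTypeIII M ∨ Cfsg.IsOfTypeIV M ∨ Cfsg.IsOfTypeV M

/-- The predecessors of PF 10–11 (contents of S1385, S1386, S1389, S1390); see `pre_of_minimal`. -/
structure Pre (G : Type u) [Group G] : Prop where
  minSimple : Cfsg.IsMinSimpleOddOrder G
  partner : ∀ M W₁ U W₂ : Subgroup G, IsCoatom M → Cfsg.IsTypePWith M W₁ U W₂ →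
    ∃ N V : Subgroup G, IsCoatom N ∧ Cfsg.IsTypePWith N W₂ V W₁ ∧ M ⊓ N = W₁ ⊔ W₂ ∧
      (Cfsg.IsOfTypeII M ∨ Cfsg.IsOfTypeII N)
  regularII : ∀ N U : Subgroup G, IsCoatom N → Cfsg.IsOfTypeII N →
    Cfsg.IsComplIn (Cfsg.fittingHallOf N) U ⁅N, N⁆ →
    ∀ X : Set G, X ⊆ (U : Set G) \ {1} → X.Nonempty →
      Cfsg.fittingHallOf N ⊓ Subgroup.centralizer X ≠ ⊥ →
      Subgroup.centralizer X ≤ N ∧
        ∀ L : Subgroup G, IsCoatom L → Subgroup.centralizer X ≤ L → L = N
  sylowNorm : ∀ M : Subgroup G, IsCoatom M →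
    (∀ (p : ℕ), p.Prime → ∀ (P : Sylow p ↥(Cfsg.typeCore M)),
      (P : Subgroup ↥(Cfsg.typeCore M)) ≠ ⊥ →
      Subgroup.normalizer ((((P : Subgroup ↥(Cfsg.typeCore M)).map (Cfsg.typeCore M).subtype :
        Subgroup G)) : Set G) ≤ M)

/-- The complements of `M'` are conjugate. -/
theorem conj_W₁ {M' : Subgroup G} (hs : Group.IsSolvable M') {W W' D : Subgroup G} (hW : Cfsg.IsComplIn D W M')
    (hW' : Cfsg.IsComplIn D W' M') (hcop : (Nat.card W).Coprime (W.relIndex M')) :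
    ∃ g ∈ M', W'.map (MulAut.conj g).toMonoidHom = W := by
  have e : Nat.card W' = Nat.card W :=
    mul_left_cancel₀ (Nat.card_pos (α := D)).ne'
      ((card_of_isComplIn hW').symm.trans (card_of_isComplIn hW))
  have hπ : Cfsg.IsPiHallOf {p | p ∣ Nat.card W} W M' :=
    ⟨hW.2.1, fun _ _ h => h, fun _ hp h1 h2 => Nat.not_coprime_of_dvd_of_dvd hp.one_lt h1 h2 hcop⟩
  obtain ⟨g, hg, hle⟩ := exists_conj_le_piHall hs hπ hW'.2.1 fun p _ h => by rw [e] at h; exact h
  refine ⟨g, hg, Subgroup.eq_of_le_of_card_ge hle ?_⟩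
  rw [card_map_conj, e]

/-- Two choices of data are conjugate on `W₁`, `W₂`. -/
theorem conj_data {M W₁ U W₂ A B C : Subgroup G} (hs : Group.IsSolvable M)
    (hP : Cfsg.IsTypePWith M W₁ U W₂) (hP' : Cfsg.IsTypePWith M A B C) :
    ∃ g ∈ M, A.map (MulAut.conj g).toMonoidHom = W₁ ∧ C.map (MulAut.conj g).toMonoidHom = W₂ := by
  obtain ⟨g, hg, he⟩ := conj_W₁ hs hP.W₁_compl hP'.W₁_compl hP.W₁_hall
  refine ⟨g, hg, he, ?_⟩
  obtain ⟨a, ha, ha1⟩ := (Subgroup.bot_or_exists_ne_one A).resolve_left hP'.W₁_ne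
  have hb : g * a * g⁻¹ ∈ W₁ := he ▸ ⟨a, ha, rfl⟩
  have hb1 : g * a * g⁻¹ ≠ 1 := by simpa using ha1
  rw [← hP'.W₂_centralizer a ha ha1, ← hP.W₂_centralizer _ hb hb1]
  ext z
  constructor
  · rintro ⟨y, ⟨hy, hyc⟩, rfl⟩
    refine ⟨TypeSets.conj_mem_subgroup (TypeSets.le_normalizer_derived M) hg hy,
      Subgroup.mem_centralizer_singleton_iff.mpr ?_⟩
    exact TypeSets.conj_comm (Subgroup.mem_centralizer_singleton_iff.mp hyc)
  · rintro ⟨hz, hzc⟩
    refine ⟨g⁻¹ * z * g, ⟨?_, Subgroup.mem_centralizer_singleton_iff.mpr ?_⟩, ?_⟩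
    · have := TypeSets.conj_mem_subgroup (TypeSets.le_normalizer_derived M) (inv_mem hg) hz
      simpa using this
    · have h := TypeSets.conj_comm (m := g⁻¹) (Subgroup.mem_centralizer_singleton_iff.mp hzc)
      have e : g⁻¹ * (g * a * g⁻¹) * g⁻¹⁻¹ = a := by group
      rw [e, inv_inv] at h
      exact h
    · show g * (g⁻¹ * z * g) * g⁻¹ = z
      group

variable (P : Pre G) {M W₁ U W₂ : Subgroup G}

include P in
/-- Types III, IV, V are neither I nor II. -/
theorem not_I_II (hM : IsCoatom M) (h : IsType345 M) :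
    ¬ Cfsg.IsOfTypeI M ∧ ¬ Cfsg.IsOfTypeII M := by
  have hs := maximal_solvable P.minSimple hM
  refine ⟨fun hI => TypeSets.not_typeP_of_typeI hI ?_, fun hII => ?_⟩
  · rcases h with h | h | h
    · exact TypeSets.typeP_of_typeIII_IV (Or.inl h)
    · exact TypeSets.typeP_of_typeIII_IV (Or.inr h)
    · exact TypeSets.typeP_of_typeV h
  · rcases h with h | h | ⟨A, B, C, hV, hB, -⟩
    · exact TypeSets.not_typeIII_IV_of_typeII hs hII (Or.inl h)
    · exact TypeSets.not_typeIII_IV_of_typeII hs hII (Or.inr h)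
    · obtain ⟨W, V, W', hP', hne, -⟩ := hII
      obtain ⟨g, -, he⟩ := TypeSets.exists_conj_U hs hV hP'
      rw [hB, Subgroup.map_eq_bot_iff_of_injective _ (MulEquiv.injective _)] at he
      exact hne he

/-- The order of `W₁` is prime for types II, III, IV. -/
theorem W₁_card_prime (hs : Group.IsSolvable M) (hP : Cfsg.IsTypePWith M W₁ U W₂)
    (h : Cfsg.IsOfTypeII M ∨ Cfsg.IsOfTypeIII M ∨ Cfsg.IsOfTypeIV M) :
    (Nat.card W₁).Prime := by
  obtain ⟨A, B, C, hP', hp⟩ : ∃ A B C : Subgroup G, Cfsg.IsTypePWith M A B C ∧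
      (Nat.card A).Prime := by
    rcases h with ⟨A, B, C, h1, -, h2, -⟩ | ⟨A, B, C, h1, -, h2, -⟩ | ⟨A, B, C, h1, -, h2, -⟩ <;>
      exact ⟨A, B, C, h1, h2⟩
  obtain ⟨g, -, he, -⟩ := conj_data hs hP hP'
  rwa [← he, card_map_conj]

include P in
/-- The partner of a subgroup of type III, IV, V is of type II. -/
theorem partner_II (hM : IsCoatom M) (h : IsType345 M) (hP : Cfsg.IsTypePWith M W₁ U W₂) :
    ∃ N V : Subgroup G, IsCoatom N ∧ Cfsg.IsTypePWith N W₂ V W₁ ∧ M ⊓ N = W₁ ⊔ W₂ ∧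
      Cfsg.IsOfTypeII N ∧ (Nat.card W₂).Prime := by
  obtain ⟨N, V, hN, hNP, hMN, hII⟩ := P.partner M W₁ U W₂ hM hP
  have hNII := hII.resolve_left (not_I_II P hM h).2
  exact ⟨N, V, hN, hNP, hMN, hNII,
    W₁_card_prime (maximal_solvable P.minSimple hN) hNP (Or.inl hNII)⟩

omit [Finite G] in
theorem commutator_map (M : Subgroup G) : (commutator M).map M.subtype = ⁅M, M⁆ :=
  Subgroup.map_subtype_commutator M

omit [Finite G] in
theorem mem_commutator_iff (M : Subgroup G) (x : M) : x ∈ commutator M ↔ (x : G) ∈ ⁅M, M⁆ := by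
  rw [← commutator_map]
  exact ⟨fun h => ⟨x, h, rfl⟩, fun ⟨y, hy, e⟩ => (Subtype.ext e : y = x) ▸ hy⟩

omit [Finite G] in
theorem derived_two_map (M : Subgroup G) :
    (⁅commutator M, commutator M⁆ : Subgroup M).map M.subtype = ⁅⁅M, M⁆, ⁅M, M⁆⁆ := by
  rw [Subgroup.map_commutator, commutator_map]

include P in
/-- The kernel lies in `A₀(M)`. -/
theorem derived_subset_A0 (hM : IsCoatom M) (h : IsType345 M) {x : G} (hx : x ∈ ⁅M, M⁆)
    (hx1 : x ≠ 1) : x ∈ Cfsg.typeA0 M := by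
  classical
  refine Or.inl ?_
  obtain ⟨hnI, -⟩ := not_I_II P hM h
  unfold Cfsg.typeA
  rw [if_neg hnI]
  refine ⟨hx, hx1, x, ?_, hx1, rfl⟩
  by_cases h34 : Cfsg.IsOfTypeIII M ∨ Cfsg.IsOfTypeIV M
  · rw [TypeSets.typeCore_eq_derived h34]; exact hx
  · obtain ⟨A, B, C, hV, hB, -⟩ : Cfsg.IsOfTypeV M := by
      rcases h with h | h | h
      exacts [absurd (Or.inl h) h34, absurd (Or.inr h) h34, h]
    rw [TypeSets.typeCore_eq_fittingHallOf h34]
    obtain ⟨a, ha, b, hb, rfl⟩ := hV.U_compl.2.2.2 x hx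
    rw [hB, Subgroup.mem_bot] at hb
    simpa [hb] using ha

omit [Finite G] in
theorem supportR_eq_bot {M : Subgroup G} {x : G} (h : Subgroup.centralizer ({x} : Set G) ≤ M) :
    Cfsg.supportR M x = ⊥ := by
  classical
  unfold Cfsg.supportR
  exact dif_neg fun h' => h'.1 h

omit [Finite G] in
/-- Centralisers of elements of `V` are `W`. -/
theorem centralizer_vset {W₁ W₂ : Subgroup G} (hW : Cfsg.IsSelfNormalizingCyclic W₁ W₂) {v : G}
    (hv : v ∈ vset W₁ W₂) : Subgroup.centralizer ({v} : Set G) ≤ W₁ ⊔ W₂ := by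
  rw [← hW.2.2.2.2.2 {v} (Set.singleton_subset_iff.mpr
    ⟨hv.1, fun h => h.elim hv.2.1 hv.2.2⟩) (Set.singleton_nonempty v)]
  intro g hg
  rw [Subgroup.mem_set_normalizer_iff]
  intro y
  have hc := Subgroup.mem_centralizer_singleton_iff.mp hg
  simp only [Set.mem_singleton_iff]
  constructor
  · rintro rfl; rw [hc, mul_inv_cancel_right]
  · intro e
    have h2 : y = g⁻¹ * v * g := by rw [← e]; group
    rw [h2, mul_assoc, ← hc, inv_mul_cancel_left]

include P in
/-- The prime Dade setting for types III, IV, V. -/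
theorem setup_of_kernel (hM : IsCoatom M) (h : IsType345 M) (hP : Cfsg.IsTypePWith M W₁ U W₂) :
    Setup M W₁ W₂ (Cfsg.typeA0 M) (Cfsg.supportR M) := by
  have hG := P.minSimple
  have hs := maximal_solvable hG hM
  have hW₁M : W₁ ≤ M := hP.W₁_compl.2.1
  have hW₂M : W₂ ≤ M := TypeSets.typeP_W₂_le hP
  have hc : IsCyclic W₂ := by
    have := hP.selfNormalizing.2.2.2.2.1
    exact Subgroup.isCyclic_of_le (le_sup_right : W₂ ≤ W₁ ⊔ W₂)
  exact
  { odd := hG.1
    le₁ := hW₁M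
    le₂ := hW₂M
    ne₁ := hP.W₁_ne
    ne₂ := hP.selfNormalizing.2.1
    inf_eq := by
      refine (Subgroup.eq_bot_iff_forall _).mpr fun x ⟨hx1, hx2⟩ => ?_
      have hh : (x : G) ∈ ⁅M, M⁆ ⊓ W₁ := ⟨(mem_commutator_iff M x).mp hx1, hx2⟩
      rw [hP.W₁_compl.2.2.1, Subgroup.mem_bot] at hh
      exact Subtype.ext hh
    sup_eq := by
      refine eq_top_iff.mpr fun x _ => ?_
      obtain ⟨a, ha, b, hb, e⟩ := hP.W₁_compl.2.2.2 x x.2
      have haM : a ∈ M := hP.W₁_compl.1 ha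
      rw [show x = (⟨a, haM⟩ : M) * ⟨b, hW₁M hb⟩ from Subtype.ext e]
      exact mul_mem (Subgroup.mem_sup_left ((mem_commutator_iff M _).mpr ha))
        (Subgroup.mem_sup_right hb)
    hall := hP.W₁_hall
    cyclic₁ := hP.W₁_cyclic
    cyclic₂ := hc
    le_derived₂ := fun x hx => by
      have h2 : (x : G) ∈ ⁅⁅M, M⁆, ⁅M, M⁆⁆ := (hP.W₂_le hx).2
      rw [← derived_two_map] at h2
      obtain ⟨y, hy, e⟩ := h2
      exact (Subtype.ext e : y = x) ▸ hy
    cent := fun x hx hx1 => by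
      have hx1' : (x : G) ≠ 1 := fun e => hx1 (Subtype.ext e)
      ext y
      rw [Subgroup.mem_subgroupOf, ← hP.W₂_centralizer x hx hx1', Subgroup.mem_inf, Subgroup.mem_inf,
        mem_commutator_iff, Subgroup.mem_centralizer_singleton_iff,
        Subgroup.mem_centralizer_singleton_iff, Subtype.ext_iff]
      rfl
    sn := hP.selfNormalizing
    dade := (SetsFrozen.dade_sets hG hM (Or.inr (Or.inr rfl))).2
    kernel_mem := fun x hx hx1 =>
      derived_subset_A0 P hM h ((mem_commutator_iff M x).mp hx) fun e => hx1 (Subtype.ext e)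
    v_mem := fun v hv => Or.inr
      ⟨(not_I_II P hM h).1, W₁, U, W₂, hP, 1, one_mem _, v, hv.1, hv.2.1, hv.2.2, by simp⟩
    split := fun x hx => by
      rcases hx with hx | ⟨-, A, B, C, hP', m, hm, w, hw, hwA, hwC, e⟩
      · left
        rw [mem_commutator_iff]
        unfold Cfsg.typeA at hx
        rw [if_neg (not_I_II P hM h).1] at hx
        exact hx.1
      · right
        obtain ⟨g, hg, hgA, hgC⟩ := conj_data hs hP hP'
        refine ⟨m * g⁻¹, mul_mem hm (inv_mem hg), g * w * g⁻¹, ⟨?_, ?_, ?_⟩, ?_⟩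
        · rw [← hgA, ← hgC, ← Subgroup.map_sup]
          exact ⟨w, hw, rfl⟩
        · rw [← hgA]
          rintro ⟨y, hy, ey⟩
          exact hwA (by simpa using (show y = w from (MulAut.conj g).injective ey) ▸ hy)
        · rw [← hgC]
          rintro ⟨y, hy, ey⟩
          exact hwC (by simpa using (show y = w from (MulAut.conj g).injective ey) ▸ hy)
        · rw [e]; group
    R_v := fun v hv => supportR_eq_bot
      ((centralizer_vset hP.selfNormalizing hv).trans (sup_le hW₁M hW₂M)) }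

end CfsgLib.OddChar.Prime
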