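import Cfsg.Agent.Lib.OddChar.Prime.Levels
import Cfsg.Agent.Lib.OddChar.Prime.Hyp
import Cfsg.Agent.Lib.Cores.Basic

/-!
# The weights for type V

* `two_mul_add_one_le_index`: a nontrivial `p'`-part is large;
* `cube_block`: `M'` of order `p ^ 3`;
* `five_cases`: otherwise `M'` is a `p`-group and a TI-set, or `2 q + 1 ≤ p`.
-/

set_option autoImplicit false
set_option linter.unusedSectionVars false

namespace CfsgLib.OddChar.Prime

open CfsgLib.Char CfsgLib.CharNormal
open CfsgLib.OddLocal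
open CfsgLib.OddChar
open CfsgLib.OddChar.Coh (deg deg_eq deg_spec)

universe u

section Split

variable {K : Type u} [Group K] [Fintype K] {p : ℕ} [Fact p.Prime] {P Q : Subgroup K}

theorem NilSplit.map_left (hN : NilSplit p P Q) (f : K →* K) {a : K} (ha : a ∈ P) : f a ∈ P := by
  haveI := hN.normal_left
  obtain ⟨i, hi⟩ := hN.isP ⟨a, ha⟩
  exact hN.mem_left (i := i) (by
    rw [← map_pow, show a ^ p ^ i = 1 by simpa using congrArg Subtype.val hi, map_one])

end Split

variable {G : Type u} [Group G] [Fintype G] {M : Subgroup G} {W₁ W₂ : Subgroup G} {A₀ : Set G}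
  {R : G → Subgroup G} [Fintype M] [Fintype (commutator M)] {S : Setup M W₁ W₂ A₀ R}
  [Fintype (Ir₁ W₁ W₂)] [Fintype (Ir₂ W₁ W₂)] (F : Fam S)
  {p : ℕ} [Fact p.Prime] {P Q : Subgroup (commutator M)}

include F in
/-- A nontrivial `p'`-part has abelianisation of order at least `2 q + 1`. -/
theorem two_mul_add_one_le_index (hN : NilSplit p P Q) (hsolv : Group.IsSolvable (commutator M))
    (hQ : Q ≠ ⊥) : 2 * Nat.card W₁ + 1 ≤ (commutator Q).index := by
  classical
  have := Fintype.ofFinite Q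
  set A : Subgroup M := P.map (commutator M).subtype with hA
  haveI : A.Normal := by
    refine ⟨fun a ha g => ?_⟩
    obtain ⟨k, hk, rfl⟩ := ha
    let f : commutator M →* commutator M := MonoidHom.mk'
      (fun k => ⟨g * k * g⁻¹, (inferInstance : (commutator M).Normal).conj_mem (k : M) k.2 g⟩)
      fun u v => Subtype.ext (by simp)
    exact ⟨f k, hN.map_left f hk, rfl⟩
  have hPtop : P ≠ ⊤ := fun e => hQ (by
    have := hN.compl.disjoint
    rw [e, disjoint_iff, top_inf_eq] at this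
    exact this)
  have hAK : A < commutator M := by
    refine lt_of_le_of_ne (Subgroup.map_subtype_le _) fun e => hPtop (eq_top_iff.mpr fun k _ => ?_)
    obtain ⟨k', hk', e'⟩ := (e.ge k.2 : (k : M) ∈ A)
    exact (Subtype.ext e' : k' = k) ▸ hk'
  obtain ⟨φ, ⟨θ, hθ, hθ1, hθA, rfl⟩, hdeg⟩ :=
    Above.exists_deg_index (commutator M) A hsolv hAK
  obtain ⟨n, hn⟩ := exists_degree (isCharacter_of_isIrr hθ)
  rw [Above.deg_indFun _ hn, Nat.mul_eq_left Subgroup.index_ne_zero_of_finite] at hdeg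
  rw [hdeg, Nat.cast_one] at hn
  set θ₀ : Cfsg.IrrCharacter (commutator M) := ⟨θ, hθ⟩
  set θ₁ : Cfsg.IrrCharacter (commutator M) := ⟨_, PairBessel.isIrr_conjFun hθ⟩
  -- linear characters trivial on `P`
  set L := Finset.univ.filter fun χ : Cfsg.IrrCharacter (commutator M) =>
    (χ : commutator M → ℂ) 1 = 1 ∧ ∀ a ∈ P, (χ : commutator M → ℂ) a = 1 with hL
  have hθL : θ₀ ∈ L ∧ θ₁ ∈ L := by
    have h1 : ∀ a ∈ P, θ a = 1 := fun a ha => by rw [hθA a ⟨a, ha, rfl⟩, hn]
    refine ⟨Finset.mem_filter.mpr ⟨Finset.mem_univ _, hn, h1⟩, Finset.mem_filter.mpr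
      ⟨Finset.mem_univ _, ?_, fun a ha => ?_⟩⟩
    · simp [θ₁, Cfsg.conjFun, hn]
    · simp [θ₁, Cfsg.conjFun, h1 a ha]
  have horbit : ∀ χ ∈ L, (χ : commutator M → ℂ) ≠ (fun _ => 1) →
      orbit (commutator M) χ ⊆ L ∧ (orbit (commutator M) χ).card = Nat.card W₁ ∧
        irrOne ∉ orbit (commutator M) χ := by
    intro χ hχ hne
    obtain ⟨-, h1, hP⟩ := Finset.mem_filter.mp hχ
    have hirr : Cfsg.IsIrrCharacter M (Cfsg.indFun (commutator M) (χ : commutator M → ℂ)) := by
      refine (F.irr_or_col χ hne).resolve_right fun ⟨j, hj, e⟩ => ?_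
      have h2 := F.colRes_deg j
      rw [← e, deg_eq (n := 1) (by rw [h1, Nat.cast_one])] at h2
      have h3 := (F.two_le_nn hj).2.2.1
      have h4 : (3 : ℤ) ≤ Nat.card W₁ := by exact_mod_cast three_le₁ S
      omega
    have hmem : ∀ ψ ∈ orbit (commutator M) χ, ∃ g : M,
        CharNormal.conjFun (commutator M) g (χ : commutator M → ℂ) = (ψ : commutator M → ℂ) :=
      fun ψ hψ => by
        obtain ⟨g, hg⟩ := (mem_orbit _).mp hψ
        exact ⟨g, hg⟩
    refine ⟨fun ψ hψ => ?_, ?_, fun h => ?_⟩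
    · obtain ⟨g, hg⟩ := hmem ψ hψ
      refine Finset.mem_filter.mpr ⟨Finset.mem_univ _, ?_, fun a ha => ?_⟩
      · rw [← hg, CharNormal.conjFun_apply_one, h1]
      · rw [← hg, CharNormal.conjFun_apply]
        exact hP _ (by
          let f : commutator M →* commutator M := MonoidHom.mk'
            (fun k => ⟨g * k * g⁻¹, (inferInstance : (commutator M).Normal).conj_mem (k : M) k.2 g⟩)
            fun u v => Subtype.ext (by simp)
          exact hN.map_left f ha)
    · have h2 := Above.wt_indFun (commutator M) χ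
      rw [Above.wt_irr hirr, index_commutator S, Above.deg_indFun _ (n := 1) (by rw [h1, Nat.cast_one]),
        index_commutator S, mul_one, Finset.sum_congr rfl fun ψ hψ => by
          obtain ⟨g, hg⟩ := hmem ψ hψ
          rw [← hg, CharNormal.conjFun_apply_one, h1, one_pow], Finset.sum_const, nsmul_eq_mul,
        mul_one] at h2
      push_cast at h2
      have h3 := mul_left_cancel₀ (Nat.cast_ne_zero.mpr Nat.card_pos.ne' : (Nat.card W₁ : ℂ) ≠ 0)
        (by linear_combination h2 : (Nat.card W₁ : ℂ) * (Nat.card W₁ : ℂ) =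
          (Nat.card W₁ : ℂ) * ((orbit (commutator M) χ).card : ℂ))
      exact_mod_cast h3.symm
    · obtain ⟨g, hg⟩ := hmem _ h
      refine hne (funext fun k => ?_)
      have h4 := congrFun hg ⟨g⁻¹ * k * g, by
        simpa using (inferInstance : (commutator M).Normal).conj_mem (k : M) k.2 g⁻¹⟩
      rw [CharNormal.conjFun_apply, irrOne_apply] at h4
      rw [← h4]
      refine congrArg _ (Subtype.ext ?_)
      show (k : M) = g * (g⁻¹ * (k : M) * g) * g⁻¹
      group
  have hne₁ : (θ₁ : commutator M → ℂ) ≠ fun _ => 1 := fun e => hθ1 (funext fun k => by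
    simpa [θ₁, Cfsg.conjFun] using congrArg (starRingEnd ℂ) (congrFun e k))
  obtain ⟨hs₀, hc₀, ho₀⟩ := horbit θ₀ hθL.1 hθ1
  obtain ⟨hs₁, hc₁, ho₁⟩ := horbit θ₁ hθL.2 hne₁
  have hirr₀ : Cfsg.IsIrrCharacter M (Cfsg.indFun (commutator M) θ) := by
    refine (F.irr_or_col θ₀ hθ1).resolve_right fun ⟨j, hj, e⟩ => ?_
    have h2 := F.colRes_deg j
    rw [← e, deg_eq (n := 1) (by rw [show (θ₀ : commutator M → ℂ) 1 = 1 from hn, Nat.cast_one])] at h2
    have h3 := (F.two_le_nn hj).2.2.1
    have h4 : (3 : ℤ) ≤ Nat.card W₁ := by exact_mod_cast three_le₁ S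
    omega
  have hdisj : Disjoint (orbit (commutator M) θ₀) (orbit (commutator M) θ₁) := by
    rw [Finset.disjoint_left]
    intro ψ h0 h1
    obtain ⟨a, ha⟩ := (mem_orbit _).mp h0
    obtain ⟨b, hb⟩ := (mem_orbit _).mp h1
    refine conjFun_ne_of_off (S := S) hirr₀ (indFun_off θ) ?_
    rw [CfsgLib.OddChar.Prime.conjFun_indFun]
    rw [← OddChar.indFun_conjFun (commutator M) b (Cfsg.conjFun θ),
      show CharNormal.conjFun (commutator M) b (Cfsg.conjFun θ) = (ψ : commutator M → ℂ) from hb,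
      ← show CharNormal.conjFun (commutator M) a θ = (ψ : commutator M → ℂ) from ha,
      OddChar.indFun_conjFun]
  have hcard : L.card ≤ (commutator Q).index := by
    rw [← card_linear (G := Q), Nat.card_eq_fintype_card]
    haveI := hN.normal_right
    have hres : ∀ χ ∈ L, Cfsg.IsIrrCharacter Q (fun b : Q => (χ : commutator M → ℂ) b) := fun χ hχ => by
      refine isIrr_of_linear (isCharacter_res Q (isCharacter_of_isIrr χ.2)) ?_
      simpa using (Finset.mem_filter.mp hχ).2.1
    refine le_trans (le_of_eq (Fintype.card_coe L).symm) (Fintype.card_le_of_injective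
      (fun χ => ⟨⟨_, hres χ.1 χ.2⟩, by simpa using (Finset.mem_filter.mp χ.2).2.1⟩)
      fun χ χ' e => Subtype.ext (Subtype.ext (funext fun k => ?_)))
    obtain ⟨⟨⟨a, ha⟩, ⟨b, hb⟩⟩, hk⟩ := hN.compl.2 k
    have hk' : a * b = k := hk
    have he := congrFun (congrArg (fun z => (z.1 : Q → ℂ)) e) ⟨b, hb⟩
    obtain ⟨-, h1, h2⟩ := Finset.mem_filter.mp χ.2
    obtain ⟨-, h1', h2'⟩ := Finset.mem_filter.mp χ'.2
    rw [← hk', linear_map_mul (isCharacter_of_isIrr χ.1.2) h1,
      linear_map_mul (isCharacter_of_isIrr χ'.1.2) h1', h2 a ha, h2' a ha, one_mul, one_mul]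
    exact he
  refine le_trans ?_ hcard
  have hsub : insert irrOne (orbit (commutator M) θ₀ ∪ orbit (commutator M) θ₁) ⊆ L :=
    Finset.insert_subset (Finset.mem_filter.mpr ⟨Finset.mem_univ _, by rw [irrOne_apply],
      fun a _ => by rw [irrOne_apply]⟩) (Finset.union_subset hs₀ hs₁)
  refine le_trans (le_of_eq ?_) (Finset.card_le_card hsub)
  rw [Finset.card_insert_of_notMem (fun h => (Finset.mem_union.mp h).elim ho₀ ho₁),
    Finset.card_union_of_disjoint hdisj, hc₀, hc₁]
  ring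

/-- The block of linear characters when the `p`-part has order `p ^ 3`. -/
theorem cube_block (hN : NilSplit p P Q) (hp : Nat.card W₂ = p) (hP : Nat.card P = p ^ 3)
    (h5 : 5 ≤ p) :
    ∃ (T : Finset (M → ℂ)) (B : Block F {φ : M → ℂ // φ ∈ T}) (a : {φ : M → ℂ // φ ∈ T}),
      B.deg a = 1 ∧ ∀ j : Ir₂ W₁ W₂, j ≠ 1 → 2 * F.nn j < ∑ b, (B.deg b : ℤ) ^ 2 := by
  classical
  have hpp : p.Prime := Fact.out
  set m := (degSet (M := M) 1).card with hm
  have hlow := sum_lowSet_lt hN (le_refl 1) (hP ▸ pow_dvd_pow p (by omega))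
  have hlin : p ^ 2 ≤ Nat.card W₁ * m + 1 := by
    refine le_trans ?_ (card_linear_le S F)
    refine le_trans (le_trans (Nat.le_mul_of_pos_left _
      (Nat.pos_of_ne_zero (Subgroup.index_ne_zero_of_finite (H := commutator Q)))) hlow) ?_
    have hone : ∀ θ ∈ (lowSet Q).filter (fun θ : Cfsg.IrrCharacter (commutator M) =>
        deg (θ : commutator M → ℂ) < p ^ 1), deg (θ : commutator M → ℂ) = 1 := fun θ hθ => by
      obtain ⟨h1, h2⟩ := Finset.mem_filter.mp hθ
      obtain ⟨k, hk, -⟩ := deg_lowSet hN h1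
      rw [hk] at h2 ⊢
      have := (Nat.pow_lt_pow_iff_right hpp.one_lt).mp h2
      rw [show k = 0 by omega, pow_zero]
    rw [Finset.sum_congr rfl fun θ hθ => by rw [hone θ hθ, one_pow], ← Finset.card_eq_sum_ones,
      ← card_linear (G := commutator M), Nat.card_eq_fintype_card, Fintype.card_subtype]
    exact Finset.card_le_card fun θ hθ => Finset.mem_filter.mpr ⟨Finset.mem_univ _,
      by rw [deg_spec (isCharacter_of_isIrr θ.2), hone θ hθ, Nat.cast_one]⟩
  have h25 : 25 ≤ p ^ 2 := le_trans (by norm_num) (Nat.pow_le_pow_left h5 2)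
  have hne : (degSet (M := M) 1).Nonempty := by
    rw [← Finset.card_pos, ← hm]
    rcases Nat.eq_zero_or_pos m with h | h
    · rw [h] at hlin; omega
    · exact h
  obtain ⟨B, -, hd⟩ := exists_block_deg S F 1 hne
  obtain ⟨a, ha⟩ := hne
  refine ⟨_, B, ⟨a, ha⟩, hd _, fun j hj => ?_⟩
  obtain ⟨-, e, he1, he, hle⟩ := F.colRes_deg_pow hN hp hj
  have he' : e = 1 := by
    rw [hP, ← pow_succ] at hle
    have := (Nat.pow_le_pow_iff_right hpp.one_lt).mp hle
    omega
  have hdd := F.colRes_deg j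
  rw [he, he', pow_one] at hdd
  have hs : -1 ≤ F.sgn j := by rcases F.sgn_eq j with h | h <;> omega
  have hlin' : (p : ℤ) ^ 2 ≤ (Nat.card W₁ : ℤ) * m + 1 := by exact_mod_cast hlin
  rw [Finset.sum_congr rfl fun b _ => by rw [hd b, Nat.cast_one, one_pow], Finset.sum_const,
    Finset.card_univ, Fintype.card_coe, ← hm, nsmul_eq_mul, mul_one]
  have h5' : (5 : ℤ) ≤ p := by exact_mod_cast h5
  have hlt : (Nat.card W₁ : ℤ) * (2 * F.nn j) < (Nat.card W₁ : ℤ) * m := by nlinarith
  exact lt_of_mul_lt_mul_left hlt (by omega)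

end CfsgLib.OddChar.Prime
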