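import Cfsg.Agent.Lib.OddChar.Prime.Flat

/-!
# Criteria for the flat case

* `two_le_sq_alpha`, `Block.alpha_ineq`: the basic inequality;
* `Block.flat_of_weight`: large weight;
* `Block.flat_of_gt`: more columns than rows.
-/

set_option autoImplicit false

namespace CfsgLib.OddChar.Prime

open CfsgLib.Char CfsgLib.CharNormal
open CfsgLib.OddChar
open scoped ComplexConjugate

universe u

variable {G : Type u} [Group G] [Fintype G] {M : Subgroup G} {W₁ W₂ : Subgroup G} {A₀ : Set G}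
  {R : G → Subgroup G} [Fintype M] {S : Setup M W₁ W₂ A₀ R} {F : Fam S} {ι : Type*} [Fintype ι]
  (B : Block F ι) [Fintype (Ir₁ W₁ W₂)] [Fintype (Ir₂ W₁ W₂)]

theorem two_le_sq_alpha {a : ι} (ha : B.deg a = 1) (i : Ir₁ W₁ W₂) {j : Ir₂ W₁ W₂} (hj : j ≠ 1) :
    2 ≤ Prime.sq (F.arr (tau S (B.alpha a i j))) ∧
      (Prime.sq (F.arr (tau S (B.alpha a i j))) ≤ 2 →
        ∀ x y, F.arr (tau S (B.alpha a i j)) x y = pat i j 1 (F.sgn j) x y) := by
  classical
  obtain ⟨r, hr, hab⟩ := B.arr_alpha a i j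
  have he : ((B.deg a : ℤ) * F.sgn j) = 1 ∨ ((B.deg a : ℤ) * F.sgn j) = -1 := by
    rw [ha]; simpa using F.sgn_eq j
  have himp : Prime.sq (F.arr (tau S (B.alpha a i j))) ≤ 2 →
      ∀ x y, F.arr (tau S (B.alpha a i j)) x y = pat i j 1 (F.sgn j) x y := fun hsq x y => by
    rw [hab, pattern_eq (three_le_card₁ S) (three_le_card₂ S) hr hj he hab hsq, zero_add, ha,
      Nat.cast_one, one_mul]
  refine ⟨?_, himp⟩
  by_contra hlt
  push Not at hlt
  have e : F.arr (tau S (B.alpha a i j)) = pat i j 1 (F.sgn j) :=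
    funext fun x => funext fun y => himp hlt.le x y
  rw [e, pat_sq i hj] at hlt
  rcases F.sgn_eq j with h | h <;> rw [h] at hlt <;> norm_num at hlt

/-- The basic inequality. -/
theorem Block.alpha_ineq [DecidableEq ι] {a : ι} (ha : B.deg a = 1) (i : Ir₁ W₁ W₂) {j : Ir₂ W₁ W₂}
    (hj : j ≠ 1) : ∃ x : ℤ,
      (∀ b, Cfsg.classInner (tau S (B.alpha a i j)) (B.img b) =
        (B.deg b : ℂ) * (x : ℂ) - (F.nn j : ℂ) * (if a = b then 1 else 0)) ∧
      Prime.sq (F.arr (tau S (B.alpha a i j))) + (∑ b, (B.deg b : ℤ) ^ 2) * x ^ 2 -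
        2 * F.nn j * x ≤ 2 := by
  set Γ := tau S (B.alpha a i j) with hΓ
  have hg : Cfsg.IsGeneralizedCharacter G Γ := tau_gen (B.alpha_gen a i j) (B.alpha_supp a i j)
  set x : ℤ := B.coef Γ a + F.nn j with hx
  have hval : ∀ b, Cfsg.classInner Γ (B.img b) =
      (B.deg b : ℂ) * (x : ℂ) - (F.nn j : ℂ) * (if a = b then 1 else 0) := by
    intro b
    have h := B.coef_prop (B.alpha_supp a i j) ha b
    rw [B.alpha_ch, B.alpha_ch, B.ch_inner, B.ch_inner, if_pos rfl, ← hΓ, B.coef_spec hg a] at h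
    rw [h, hx]
    push_cast
    ring
  have hcoef : ∀ b, B.coef Γ b = (B.deg b : ℤ) * x - F.nn j * (if a = b then 1 else 0) := by
    intro b
    have := (B.coef_spec hg b).symm.trans (hval b)
    by_cases e : a = b <;> simp only [e, if_true, if_false] at this ⊢ <;> exact_mod_cast this
  refine ⟨x, hval, ?_⟩
  have hz : Cfsg.classInner Γ Γ = ((2 + F.nn j ^ 2 : ℤ) : ℂ) := by
    rw [hΓ, tau_inner (B.alpha_supp a i j) (B.alpha_supp a i j), B.alpha_norm a i hj, ha]
    norm_num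
  have hb := (B.bound hg hz).1
  have hsum : ∑ b, B.coef Γ b ^ 2 =
      (∑ b, (B.deg b : ℤ) ^ 2) * x ^ 2 - 2 * F.nn j * x + F.nn j ^ 2 := by
    have : ∀ b, B.coef Γ b ^ 2 = (B.deg b : ℤ) ^ 2 * x ^ 2 +
        (if a = b then F.nn j ^ 2 - 2 * F.nn j * x * (B.deg b : ℤ) else 0) := fun b => by
      rw [hcoef b]; by_cases e : a = b <;> simp [e] <;> ring
    rw [Finset.sum_congr rfl fun b _ => this b, Finset.sum_add_distrib, Finset.sum_mul,
      Finset.sum_ite_eq, if_pos (Finset.mem_univ a), ha]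
    push_cast
    ring
  rw [hsum] at hb
  linarith

/-- A large weight makes every `x` vanish. -/
theorem Block.flat_of_weight {a : ι} (ha : B.deg a = 1)
    (hW : ∀ j : Ir₂ W₁ W₂, j ≠ 1 → 2 * F.nn j < ∑ b, (B.deg b : ℤ) ^ 2) :
    ∀ i, ∀ j, j ≠ 1 → Cfsg.classInner (tau S (B.alpha a i j)) (B.img a) = -(F.nn j : ℂ) := by
  classical
  intro i j hj
  obtain ⟨x, hval, hin⟩ := B.alpha_ineq ha i hj
  have h2 := (two_le_sq_alpha B ha i hj).1
  have hn := (F.two_le_nn hj).1
  have hx0 : x = 0 := by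
    by_contra hne
    have hw := hW j hj
    rcases lt_or_gt_of_ne hne with h | h
    · nlinarith
    · have h1 : (1 : ℤ) ≤ x := h
      have hW0 : 0 ≤ ∑ b, (B.deg b : ℤ) ^ 2 := Finset.sum_nonneg fun _ _ => sq_nonneg _
      nlinarith [mul_nonneg hW0 (mul_nonneg (by linarith : (0 : ℤ) ≤ x) (by linarith : (0 : ℤ) ≤ x - 1)),
        mul_pos (sub_pos.mpr hw) (by linarith : (0 : ℤ) < x)]
  rw [hval a, hx0, if_pos rfl]
  simp

/-- The difference of two columns in one row. -/
theorem Fam.mu_diff (i : Ir₁ W₁ W₂) {j : Ir₂ W₁ W₂} (hj : j ≠ 1) :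
    Supp S (F.mu i j - F.mu i j⁻¹) ∧
      tau S (F.mu i j - F.mu i j⁻¹) = (F.sgn j : ℂ) • (F.eta i j - F.eta i j⁻¹) := by
  classical
  have hne : j⁻¹ ≠ j := inv_ne_self₂ S hj
  have hg0 : Cfsg.IsGeneralizedCharacter M (F.mu i j - F.mu i j⁻¹) :=
    isGen_sub (isGen_of_irr (F.mu_irr i j)) (isGen_of_irr (F.mu_irr i j⁻¹))
  have hdeg : F.mu i j⁻¹ 1 = F.mu i j 1 := by
    have h := congrFun (F.mu_conj i⁻¹ j).1 1
    rw [inv_inv₁] at h
    rw [← h, Cfsg.conjFun, F.mu_apply_one, map_intCast, F.mu_apply_one]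
  have hs : Supp S (F.mu i j - F.mu i j⁻¹) := by
    refine supp_of (isClassFunction_of_isGen hg0) (by simp [hdeg]) fun w hw hw2 => ?_
    simp [F.mu_val i _ w hw2, F.sgn_inv, j.2 w hw]
  refine ⟨hs, ?_⟩
  set Γ := tau S (F.mu i j - F.mu i j⁻¹) with hΓ
  have hg : Cfsg.IsGeneralizedCharacter G Γ := tau_gen hg0 hs
  obtain ⟨r, hr, hab⟩ := F.arr_pattern hg i (j := j) (k := j⁻¹) (F.sgn j) fun w hw => by
    rw [hΓ, tau_val hs w hw]
    simp [F.mu_val i _ w hw.2.2, F.sgn_inv, F.eta_val i _ w hw]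
    ring
  have hz : Cfsg.classInner Γ Γ = ((2 : ℤ) : ℂ) := by
    rw [hΓ, tau_inner hs hs, classInner_sub_left, classInner_sub_right, classInner_sub_right,
      F.mu_inner, F.mu_inner, F.mu_inner, F.mu_inner]
    simp [hne, hne.symm]
    norm_num
  have hb : Prime.sq (F.arr Γ) ≤ 2 := by
    have h := (bessel_int (fun p : Ir₁ W₁ W₂ × Ir₂ W₁ W₂ => F.eta p.1 p.2)
      (fun p p' => by rw [F.eta_inner]; simp [Prod.ext_iff]) Γ (fun p => F.arr Γ p.1 p.2)
      (fun p => F.arr_spec hg _ _) hz).1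
    rwa [Fintype.sum_prod_type] at h
  have hA : ∀ x y, F.arr Γ x y = pat i j j⁻¹ (F.sgn j) x y := fun x y => by
    rw [hab, pattern_eq (three_le_card₁ S) (three_le_card₂ S) hr hne.symm (F.sgn_eq j) hab hb,
      zero_add]
  have hs2 : (F.sgn j : ℂ) * F.sgn j = 1 := by rcases F.sgn_eq j with h | h <;> simp [h]
  refine eq_of_inner hz ?_ ?_
  · simp only [classInner_sub_left, classInner_sub_right, classInner_smul_left,
      classInner_smul_right, F.eta_inner, map_intCast, hne, hne.symm, and_false, if_false,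
      and_self, if_true]
    push_cast
    linear_combination 2 * hs2
  · simp only [classInner_sub_right, classInner_smul_right, F.arr_spec hg, map_intCast, hA]
    simp only [pat, if_true, hne, hne.symm, if_false]
    push_cast
    linear_combination 2 * hs2

/-- `x` does not depend on the row. -/
theorem Block.x_row {a : ι} (ha : B.deg a = 1) (hall : ∀ b, B.deg b = 1) (hm : 2 ≤ Fintype.card ι)
    (i : Ir₁ W₁ W₂) {j : Ir₂ W₁ W₂} (hj : j ≠ 1) :
    Cfsg.classInner (tau S (B.alpha a i j)) (B.img a) =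
      Cfsg.classInner (tau S (B.alpha a 1 j)) (B.img a) := by
  classical
  by_cases hi : i = 1
  · rw [hi]
  set α := B.alpha a i j - B.alpha a 1 j with hα
  have hαs : Supp S α := supp_sub (B.alpha_supp a i j) (B.alpha_supp a 1 j)
  have hαg : Cfsg.IsGeneralizedCharacter M α := isGen_sub (B.alpha_gen a i j) (B.alpha_gen a 1 j)
  set Γ := tau S α with hΓ
  have hg : Cfsg.IsGeneralizedCharacter G Γ := tau_gen hαg hαs
  set D : G → ℂ := (F.sgn j : ℂ) • ((F.eta i j - F.eta i 1) - (F.eta 1 j - F.eta 1 1)) with hD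
  have hDg : Cfsg.IsGeneralizedCharacter G D := isGen_intCast_smul
    (isGen_sub (isGen_sub (F.eta_gen _ _) (F.eta_gen _ _))
      (isGen_sub (F.eta_gen _ _) (F.eta_gen _ _))) _
  have hrect : Rect 1 1 (F.arr (Γ - D)) := F.rect_of (isGen_sub hg hDg) fun w hw => by
    rw [Pi.sub_apply, hΓ, hα, tau_sub, Pi.sub_apply, B.alpha_val a i j w hw,
      B.alpha_val a 1 j w hw, ha, hD]
    simp
    ring
  have hz : Cfsg.classInner Γ Γ = ((4 : ℤ) : ℂ) := by
    rw [hΓ, tau_inner hαs hαs, hα]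
    simp only [Block.alpha, ha, Nat.cast_one, one_smul, sub_sub_sub_cancel_right]
    simp only [classInner_sub_left, classInner_sub_right, classInner_smul_left,
      classInner_smul_right, F.mu_inner, map_intCast, hi, Ne.symm hi, hj, Ne.symm hj,
      and_false, false_and, if_false, and_self, if_true]
    have hs2 : (F.sgn j : ℂ) * F.sgn j = 1 := by rcases F.sgn_eq j with h | h <;> simp [h]
    push_cast
    linear_combination 2 * hs2
  have hval : ∀ b, Cfsg.classInner Γ (B.img b) = Cfsg.classInner Γ (B.img a) := by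
    intro b
    have h := B.coef_prop hαs ha b
    have h0 : ∀ c, Cfsg.classInner α (B.ch c) = 0 := fun c => by
      rw [hα, classInner_sub_left, B.alpha_ch, B.alpha_ch, sub_self]
    rw [h0, h0, hall b, Nat.cast_one] at h
    simpa using h
  have hb := (B.bound hg hz).1
  have hc : ∀ b, B.coef Γ b = B.coef Γ a := fun b => by
    have := (B.coef_spec hg b).symm.trans ((hval b).trans (B.coef_spec hg a))
    exact_mod_cast this
  rw [Finset.sum_congr rfl fun b _ => by rw [hc b], Finset.sum_const, Finset.card_univ,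
    nsmul_eq_mul] at hb
  have e : ∀ x y, (F.arr (Γ - D) x y : ℂ) = (F.arr Γ x y : ℂ) - Cfsg.classInner D (F.eta x y) :=
    fun x y => by rw [← F.arr_spec (isGen_sub hg hDg), classInner_sub_left, F.arr_spec hg]
  have h4 : F.arr Γ i j - F.arr Γ i 1 - F.arr Γ 1 j + F.arr Γ 1 1 = 4 * F.sgn j := by
    have hd := congrArg (Int.cast : ℤ → ℂ) (hrect i j)
    push_cast at hd
    rw [e, e, e, e, hD] at hd
    simp only [classInner_smul_left, classInner_sub_left, F.eta_inner, hi, Ne.symm hi, hj,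
      Ne.symm hj, and_false, false_and, if_false, and_self, if_true] at hd
    have h' : ((F.arr Γ i j - F.arr Γ i 1 - F.arr Γ 1 j + F.arr Γ 1 1 : ℤ) : ℂ) =
        ((4 * F.sgn j : ℤ) : ℂ) := by push_cast; linear_combination hd
    exact_mod_cast h'
  have hsq : 4 ≤ Prime.sq (F.arr Γ) := by
    have h1 : ∑ x ∈ ({i, 1} : Finset (Ir₁ W₁ W₂)), ∑ y ∈ ({j, 1} : Finset (Ir₂ W₁ W₂)),
        F.arr Γ x y ^ 2 ≤ Prime.sq (F.arr Γ) :=
      le_trans (Finset.sum_le_sum fun x _ => Finset.sum_le_sum_of_subset_of_nonneg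
        (Finset.subset_univ _) fun _ _ _ => sq_nonneg _)
        (Finset.sum_le_sum_of_subset_of_nonneg (Finset.subset_univ _)
          fun _ _ _ => Finset.sum_nonneg fun _ _ => sq_nonneg _)
    rw [Finset.sum_pair hi, Finset.sum_pair hj, Finset.sum_pair hj] at h1
    have h16 : (F.arr Γ i j - F.arr Γ i 1 - F.arr Γ 1 j + F.arr Γ 1 1) ^ 2 = 16 := by
      rw [h4]; rcases F.sgn_eq j with h | h <;> rw [h] <;> norm_num
    nlinarith [sq_nonneg (F.arr Γ i j + F.arr Γ i 1), sq_nonneg (F.arr Γ 1 j + F.arr Γ 1 1),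
      sq_nonneg (F.arr Γ i j + F.arr Γ 1 j), sq_nonneg (F.arr Γ i 1 + F.arr Γ 1 1),
      sq_nonneg (F.arr Γ i j - F.arr Γ 1 1), sq_nonneg (F.arr Γ i 1 - F.arr Γ 1 j)]
  have hm' : (2 : ℤ) ≤ Fintype.card ι := by exact_mod_cast hm
  have hc0 : B.coef Γ a = 0 := by
    by_contra hne
    nlinarith [one_le_sq hne]
  have h := B.coef_spec hg a
  rw [hc0, Int.cast_zero, hΓ, hα, tau_sub, classInner_sub_left, sub_eq_zero] at h
  exact h

omit [Fintype (Ir₁ W₁ W₂)] [Fintype (Ir₂ W₁ W₂)] in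
/-- With two members the images may be exchanged. -/
theorem Block.exists_swap (hall : ∀ b, B.deg b = 1) (hm : Fintype.card ι = 2) :
    ∃ C : Block F ι, C.ch = B.ch ∧ C.deg = B.deg ∧ ∀ b, C.img b = -B.img (B.cj b) := by
  classical
  have hinv : ∀ b, B.cj (B.cj b) = b := fun b => B.inj (by
    rw [B.cj_ch, B.cj_ch, Coh.conjFun_conjFun])
  have htwo : ∀ x y : ι, y = x ∨ y = B.cj x := by
    intro x y
    by_contra h
    push Not at h
    have h3 : ({x, B.cj x, y} : Finset ι).card ≤ 2 := hm ▸ Finset.card_le_univ _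
    rw [Finset.card_insert_of_notMem (by simp [(B.cj_ne x).symm, h.1.symm]),
      Finset.card_pair h.2.symm] at h3
    omega
  refine ⟨{
    ch := B.ch
    deg := B.deg
    img := fun b => -B.img (B.cj b)
    cj := B.cj
    irr := B.irr
    inj := B.inj
    cj_ch := B.cj_ch
    cj_ne := B.cj_ne
    one := B.one
    off := B.off
    gen := fun b => isGen_neg (B.gen _)
    self := fun b => by rw [classInner_neg_left, classInner_neg_right, neg_neg, B.self]
    ortho := fun x y h => by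
      rw [classInner_neg_left, classInner_neg_right, neg_neg,
        B.ortho _ _ fun e => h (by rw [← hinv x, e, hinv])]
    link := fun x y => ?_ }, rfl, rfl, fun _ => rfl⟩
  rcases htwo x y with rfl | rfl
  · simp [tau_smul (S := S) (0 : ℂ) (0 : M → ℂ)]
    simpa using tau_smul (S := S) (0 : ℂ) (0 : M → ℂ)
  · rw [B.link, hinv, hall, hall, Nat.cast_one]
    simp only [one_smul]
    abel

/-- The first column when there are more columns than rows. -/
theorem Block.gamma₀_of_gt {a : ι} (hall : ∀ b, B.deg b = 1) (hm : 2 ≤ Fintype.card ι)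
    (hpq : Nat.card W₁ < Nat.card W₂) :
    ∃ C : Block F ι, C.ch = B.ch ∧ C.deg = B.deg ∧
      tau S (C.alpha₀ a) = (∑ i, F.eta i 1) - C.img a := by
  classical
  set Γ := tau S (B.alpha₀ a) with hΓ
  have ha := hall a
  have hg : Cfsg.IsGeneralizedCharacter G Γ := tau_gen (B.alpha₀_gen a) (B.alpha₀_supp a)
  have hz : Cfsg.classInner Γ Γ = ((Nat.card W₁ + 1 : ℤ) : ℂ) := by
    rw [hΓ, tau_inner (B.alpha₀_supp a) (B.alpha₀_supp a), B.alpha₀_norm, ha]
    norm_num
  set y : ℤ := B.coef Γ a + 1 with hy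
  have hcb : ∀ b, B.coef Γ b = y - (if a = b then 1 else 0) := by
    intro b
    have h := B.coef_prop (B.alpha₀_supp a) ha b
    rw [← hΓ, B.coef_spec hg, B.coef_spec hg, hall b, B.alpha₀_ch, B.alpha₀_ch, B.ch_inner,
      B.ch_inner, if_pos rfl, Nat.cast_one, one_mul] at h
    have h' : (B.coef Γ b : ℂ) = ((y - (if a = b then 1 else 0) : ℤ) : ℂ) := by
      rw [h, hy]; split_ifs <;> push_cast <;> ring
    exact_mod_cast h'
  have hsum : ∑ b, B.coef Γ b ^ 2 = (Fintype.card ι : ℤ) * y ^ 2 - 2 * y + 1 := by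
    have : ∀ b, B.coef Γ b ^ 2 = y ^ 2 + (if a = b then 1 - 2 * y else 0) := fun b => by
      rw [hcb b]; split_ifs <;> ring
    rw [Finset.sum_congr rfl fun b _ => this b, Finset.sum_add_distrib, Finset.sum_const,
      Finset.card_univ, nsmul_eq_mul, Finset.sum_ite_eq, if_pos (Finset.mem_univ a)]
    ring
  have hb := (B.bound hg hz).1
  rw [hsum] at hb
  have hm' : (2 : ℤ) ≤ Fintype.card ι := by exact_mod_cast hm
  have hy0 : 0 ≤ (Fintype.card ι : ℤ) * y ^ 2 - 2 * y := by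
    rcases le_or_gt y 0 with h | h
    · nlinarith [sq_nonneg y]
    · nlinarith
  have hrect : Rect 1 1 (F.arr Γ) := B.alpha₀_rect a
  have h00 : F.arr Γ 1 1 = 1 := by
    refine F.arr_eq ?_
    rw [F.eta_one, hΓ, tau_inner_one (B.alpha₀_supp a), ← F.mu_one_one.1, Block.alpha₀,
      classInner_sub_left, classInner_smul_left, muSum_inner, (B.ch_mu a 1 1).1, ha]
    simp
  have hq : (Fintype.card (Ir₁ W₁ W₂) : ℤ) = Nat.card W₁ := by
    rw [← Nat.card_eq_fintype_card, card_ir₁ S]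
  have hp : (Fintype.card (Ir₂ W₁ W₂) : ℤ) = Nat.card W₂ := by
    rw [← Nat.card_eq_fintype_card, card_ir₂ S]
  have hpq' : (Nat.card W₁ : ℤ) < Nat.card W₂ := by exact_mod_cast hpq
  obtain ⟨hcol, hsq⟩ := col_eq (three_le_card₂ S) hrect h00
    (rows_ne_zero hrect h00 (by linarith)) (by linarith)
  have hy1 : y = 0 ∨ (y = 1 ∧ Fintype.card ι = 2) := by
    rcases lt_trichotomy y 0 with h | h | h
    · exfalso; nlinarith
    · exact Or.inl h
    · rcases eq_or_lt_of_le (show (1 : ℤ) ≤ y from h) with h' | h'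
      · refine Or.inr ⟨h'.symm, le_antisymm ?_ hm⟩
        rw [← h', hsq, hq] at hb
        have : (Fintype.card ι : ℤ) ≤ 2 := by linarith
        exact_mod_cast this
      · exfalso; nlinarith
  have key : ∀ (C : Block F ι), C.ch = B.ch → C.deg = B.deg →
      Cfsg.classInner Γ (C.img a) = -1 → tau S (C.alpha₀ a) = (∑ i, F.eta i 1) - C.img a := by
    intro C hC hCd hi
    have e : C.alpha₀ a = B.alpha₀ a := by rw [Block.alpha₀, Block.alpha₀, hC, hCd]
    rw [e, ← hΓ]
    refine eq_of_inner hz ?_ ?_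
    · simp only [classInner_sub_left, classInner_sub_right, classInner_sum_left,
        classInner_sum_right, C.eta_orth, C.eta_orth', C.self, F.eta_inner]
      rw [← card_ir₁ S, Nat.card_eq_fintype_card]
      simp
    · simp only [classInner_sub_right, classInner_sum_right, F.arr_spec hg, hi, hcol, if_true]
      rw [← card_ir₁ S, Nat.card_eq_fintype_card]
      simp
  rcases hy1 with h | ⟨h, h2⟩
  · refine ⟨B, rfl, rfl, key B rfl rfl ?_⟩
    rw [B.coef_spec hg, hcb, if_pos rfl, h]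
    norm_num
  · obtain ⟨C, hC, hCd, hCi⟩ := B.exists_swap hall h2
    refine ⟨C, hC, hCd, key C hC hCd ?_⟩
    rw [hCi, classInner_neg_right, B.coef_spec hg, hcb, if_neg (B.cj_ne a).symm, h]
    norm_num

/-- More columns than rows and small `n` make every `x` vanish. -/
theorem Block.flat_of_gt {a : ι} (hall : ∀ b, B.deg b = 1) (hm : 2 ≤ Fintype.card ι)
    (hpq : Nat.card W₁ < Nat.card W₂)
    (hn : ∀ j : Ir₂ W₁ W₂, j ≠ 1 → F.nn j ≤ Fintype.card ι) :
    ∃ C : Block F ι, C.ch = B.ch ∧ C.deg = B.deg ∧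
      ∀ i, ∀ j, j ≠ 1 → Cfsg.classInner (tau S (C.alpha a i j)) (C.img a) = -(F.nn j : ℂ) := by
  classical
  obtain ⟨C, hC, hCd, h0⟩ := B.gamma₀_of_gt (a := a) hall hm hpq
  refine ⟨C, hC, hCd, fun i j hj => ?_⟩
  have hall' : ∀ b, C.deg b = 1 := fun b => by rw [hCd]; exact hall b
  rw [C.x_row (hall' a) hall' hm i hj]
  obtain ⟨x, hval, hin⟩ := C.alpha_ineq (hall' a) 1 hj
  set Γ := tau S (C.alpha a 1 j) with hΓ
  have hg : Cfsg.IsGeneralizedCharacter G Γ := tau_gen (C.alpha_gen a 1 j) (C.alpha_supp a 1 j)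
  have h2 := two_le_sq_alpha C (hall' a) 1 hj
  have hW : ∑ b, (C.deg b : ℤ) ^ 2 = Fintype.card ι := by simp [hall']
  rw [hW] at hin
  have hsum : (∑ z, F.arr Γ z 1) = x - F.sgn j := by
    have h := tau_inner (C.alpha_supp a 1 j) (C.alpha₀_supp a)
    rw [← hΓ, h0, classInner_sub_right, classInner_sum_right, hval a, if_pos rfl, hall' a,
      ← classInner_conj_symm (C.alpha₀ a) (C.alpha a 1 j), C.alpha₀_alpha a 1 hj, map_intCast,
      hall' a] at h
    simp only [F.arr_spec hg] at h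
    have h' : ((∑ z, F.arr Γ z 1 : ℤ) : ℂ) = ((x - F.sgn j : ℤ) : ℂ) := by
      push_cast at h ⊢
      linear_combination h
    exact_mod_cast h'
  have hsym : ∀ z, F.arr Γ z⁻¹ 1 = F.arr Γ z 1 := by
    intro z
    have hne : j⁻¹ ≠ 1 := fun e => hj (by
      rw [← inv_inv₂ j, e]; exact Subtype.ext (inv_one (G := ↥(W₁ ⊔ W₂) →* ℂˣ)))
    have e1 : (1 : Ir₁ W₁ W₂)⁻¹ = 1 := Subtype.ext (inv_one (G := ↥(W₁ ⊔ W₂) →* ℂˣ))
    have e2 : (1 : Ir₂ W₁ W₂)⁻¹ = 1 := Subtype.ext (inv_one (G := ↥(W₁ ⊔ W₂) →* ℂˣ))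
    have hcα : Cfsg.conjFun (C.alpha a 1 j) = C.alpha a 1 j - (F.mu 1 j - F.mu 1 j⁻¹) +
        (F.nn j : ℂ) • (C.ch a - C.ch (C.cj a)) := by
      funext w
      have hb1 := congrFun (C.cj_ch a) w
      have hb2 := congrFun (F.mu_conj 1 j).1 w
      have hb3 := congrFun (F.mu_conj 1 1).1 w
      rw [e1] at hb2
      rw [e1, e2] at hb3
      simp only [Cfsg.conjFun] at hb1 hb2 hb3
      simp only [Block.alpha, hall' a, Cfsg.conjFun, Pi.sub_apply, Pi.add_apply, Pi.smul_apply,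
        smul_eq_mul, map_sub, map_mul, map_intCast, map_natCast, hb2, hb3, ← hb1]
      push_cast
      ring
    have hcΓ : Cfsg.conjFun Γ = Γ - (F.sgn j : ℂ) • (F.eta 1 j - F.eta 1 j⁻¹) +
        (F.nn j : ℂ) • (C.img a - C.img (C.cj a)) := by
      rw [hΓ, ← tau_conj, hcα, tau_add, tau_sub, tau_smul, (F.mu_diff 1 hj).2,
        C.link_eq (by rw [hall', hall'])]
    have h := congrArg (fun f => Cfsg.classInner f (F.eta z⁻¹ 1)) hcΓ
    simp only [classInner_add_left, classInner_sub_left, classInner_smul_left, C.eta_orth,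
      F.eta_inner, hj, hne, and_false, if_false, sub_zero, mul_zero, add_zero,
      F.arr_spec hg] at h
    have e3 : F.eta z⁻¹ 1 = Cfsg.conjFun (F.eta z 1) := by rw [F.eta_conj, e2]
    rw [e3, Coh.classInner_conjFun, F.arr_spec hg, map_intCast] at h
    exact_mod_cast h.symm
  have h11 : F.arr Γ 1 1 = -F.sgn j := by
    refine F.arr_eq ?_
    rw [F.eta_one, hΓ, tau_inner_one (C.alpha_supp a 1 j), ← F.mu_one_one.1, Block.alpha,
      classInner_sub_left, classInner_smul_left, classInner_sub_left, classInner_smul_left,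
      F.mu_inner, F.mu_inner, classInner_smul_left, (C.ch_mu a 1 1).1, hall' a]
    simp [hj]
  have heven : (2 : ℤ) ∣ x := by
    have hd := sum_even_of_involution (1 : Ir₁ W₁ W₂) (fun z => z⁻¹) inv_inv₁
      (fun z hz => by_contra fun hne => inv_ne_self₁ S hne hz)
      (Subtype.ext (inv_one (G := ↥(W₁ ⊔ W₂) →* ℂˣ))) (fun z => F.arr Γ z 1) hsym
    rw [hsum, h11] at hd
    simpa using hd
  have hn' := hn j hj
  have hn0 := (F.two_le_nn hj).1
  have hx : x = 0 := by
    obtain ⟨c, rfl⟩ := heven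
    rcases lt_trichotomy c 0 with h | h | h
    · exfalso; nlinarith [h2.1]
    · rw [h, mul_zero]
    · rcases eq_or_lt_of_le (show (1 : ℤ) ≤ c from h) with h' | h'
      · subst h'
        have hle : Prime.sq (F.arr Γ) ≤ 2 := by nlinarith
        exfalso
        have e := h2.2 hle
        rw [Finset.sum_congr rfl fun z _ => e z 1] at hsum
        simp [pat, Ne.symm hj] at hsum
        omega
      · exfalso
        have hc2 : (2 : ℤ) ≤ c := h'
        have hm0 : (2 : ℤ) ≤ Fintype.card ι := by exact_mod_cast hm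
        nlinarith [h2.1, mul_le_mul_of_nonneg_right hn' (by linarith : (0 : ℤ) ≤ c),
          mul_nonneg (mul_nonneg (by linarith : (0 : ℤ) ≤ (Fintype.card ι : ℤ))
            (by linarith : (0 : ℤ) ≤ c)) (by linarith : (0 : ℤ) ≤ c - 2)]
  rw [hval a, hx, if_pos rfl]
  simp

end CfsgLib.OddChar.Prime
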