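import Cfsg.Agent.Lib.OddChar.Prime.FiveChars
import Cfsg.Agent.Lib.OddChar.Prime.Criteria
import Cfsg.Agent.Lib.OddChar.CentralCoh

/-!
# Type V with `W₂` not central in `M'`

For `Z` central in `M'`, normal in `M`, inside `M''` and meeting `W₂` trivially:
* `Fam.colRes_triv_central`: the columns are trivial on `Z`;
* `nzSet`, `nontriv_coherent`: the characters nontrivial on `Z` are coherent;
* `nontriv_coef`: their coefficients on a linear block are proportional to the degree;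
* `exists_glue`, `noncentral_flat`: together with a linear block they form a flat block.
-/

set_option autoImplicit false
set_option linter.unusedSectionVars false

namespace CfsgLib.OddChar.Prime

open CfsgLib.Char CfsgLib.CharNormal
open CfsgLib.OddChar
open CfsgLib.OddChar.Coh (deg deg_eq deg_spec)

universe u

variable {G : Type u} [Group G] [Fintype G] {M : Subgroup G} {W₁ W₂ : Subgroup G} {A₀ : Set G}
  {R : G → Subgroup G} [Fintype M] [Fintype (commutator M)] {S : Setup M W₁ W₂ A₀ R}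
  [Fintype (Ir₁ W₁ W₂)] [Fintype (Ir₂ W₁ W₂)]
  {p : ℕ} [Fact p.Prime] {P : Sylow p G}

/-- The hypotheses on the central subgroup. -/
structure CentSub (S : Setup M W₁ W₂ A₀ R) (Z : Subgroup M) : Prop where
  normal : Z.Normal
  ne_bot : Z ≠ ⊥
  le : Z ≤ ⁅commutator M, commutator M⁆
  cent : ∀ z ∈ Z, ∀ k ∈ commutator M, z * k = k * z
  inf : Z ⊓ W₂.subgroupOf M = ⊥

variable {Z : Subgroup M}

theorem CentSub.le_K (hZ : CentSub S Z) : Z ≤ commutator M :=
  hZ.le.trans (Subgroup.commutator_le_left _ _)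

/-- The columns are trivial on `Z`. -/
theorem Fam.colRes_triv_central (F : Fam S) (hZ : CentSub S Z) (j : Ir₂ W₁ W₂) :
    ∀ z : commutator M, (z : M) ∈ Z →
      (F.colRes j : commutator M → ℂ) z = (F.colRes j : commutator M → ℂ) 1 := by
  classical
  haveI := hZ.normal
  obtain ⟨lam, hlam⟩ := exists_scalar (Z.subgroupOf (commutator M))
    (fun z hz x => Subtype.ext (hZ.cent _ hz _ x.2)) (F.colRes j).2
  obtain ⟨a, ha, ha1⟩ := exists_mem_ne_one S.ne₁
  set w : M := ⟨a, S.le₁ ha⟩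
  have hw1 : w ≠ 1 := fun e => ha1 (congrArg Subtype.val e)
  let f : Z → Z := fun z => ⟨w * z * w⁻¹ * (z : M)⁻¹,
    Z.mul_mem (hZ.normal.conj_mem z z.2 w) (Z.inv_mem z.2)⟩
  have hf : Function.Injective f := by
    intro x y e
    have e' : w * x * w⁻¹ * (x : M)⁻¹ = w * y * w⁻¹ * (y : M)⁻¹ := congrArg Subtype.val e
    have hy : w * y * w⁻¹ ∈ Z := hZ.normal.conj_mem y y.2 w
    have hxy : (y : M)⁻¹ * x ∈ Z := Z.mul_mem (Z.inv_mem y.2) x.2
    have hc : w * ((y : M)⁻¹ * x) * w⁻¹ = (y : M)⁻¹ * x := by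
      calc w * ((y : M)⁻¹ * x) * w⁻¹ = (w * y * w⁻¹)⁻¹ * ((w * x * w⁻¹ * (x : M)⁻¹) * x) := by group
        _ = (w * y * w⁻¹)⁻¹ * ((w * y * w⁻¹) * (y : M)⁻¹ * x) := by rw [e']
        _ = (y : M)⁻¹ * x := by group
    have h2 : (y : M)⁻¹ * x ∈ commutator M ⊓ Subgroup.centralizer ({w} : Set M) := by
      refine ⟨hZ.le_K hxy, Subgroup.mem_centralizer_iff.mpr fun h hh => ?_⟩
      rw [Set.mem_singleton_iff.mp hh]
      exact mul_inv_eq_iff_eq_mul.mp hc
    rw [S.cent w ha hw1] at h2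
    have h3 : (y : M)⁻¹ * x ∈ Z ⊓ W₂.subgroupOf M := ⟨hxy, h2⟩
    rw [hZ.inf, Subgroup.mem_bot, inv_mul_eq_one] at h3
    exact Subtype.ext h3.symm
  intro z hz
  obtain ⟨u, hu⟩ := (Finite.injective_iff_surjective.mp hf) ⟨z, hz⟩
  set u' : commutator M := ⟨u, hZ.le_K u.2⟩
  set v' : commutator M := ⟨w * u * w⁻¹, hZ.le_K (hZ.normal.conj_mem u u.2 w)⟩
  have hzu : v' = z * u' := Subtype.ext (by
    have h : w * u * w⁻¹ * (u : M)⁻¹ = (z : M) := congrArg Subtype.val hu
    show w * u * w⁻¹ = (z : M) * u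
    rw [← h, inv_mul_cancel_right])
  have hz' : z ∈ Z.subgroupOf (commutator M) := hz
  have hu' : u' ∈ Z.subgroupOf (commutator M) := u.2
  have hval : (F.colRes j : commutator M → ℂ) v' = (F.colRes j : commutator M → ℂ) u' :=
    isClassFunction_of_isIrr (F.mu_irr 1 j) (u : M) w
  have h1 := hlam ⟨z, hz'⟩ u'
  have h2 := hlam ⟨u', hu'⟩ 1
  have h3 := hlam ⟨z, hz'⟩ 1
  simp only [mul_one] at h2 h3
  rw [← hzu, hval] at h1
  have hne : (F.colRes j : commutator M → ℂ) u' ≠ 0 := by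
    rw [h2]
    exact mul_ne_zero (Units.ne_zero _) (irr_one_ne_zero (F.colRes j).2)
  rw [h3, (mul_eq_right₀ hne).mp h1.symm, one_mul]

open Classical in
/-- The induced characters nontrivial on `Z`. -/
noncomputable def nzSet (Z : Subgroup M) [Z.Normal] : Finset (M → ℂ) :=
  (Above.above_finite (commutator M) ⊥).toFinset \ (Above.above_finite (commutator M) Z).toFinset

theorem nzSet_coe [Z.Normal] : (↑(nzSet Z) : Set (M → ℂ)) =
    Cfsg.inducedIrrAbove (commutator M) ⊥ \ Cfsg.inducedIrrAbove (commutator M) Z := by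
  simp [nzSet]

/-- The members are the irreducible characters nontrivial on `Z`. -/
theorem mem_nzSet (F : Fam S) (hZ : CentSub S Z) [Z.Normal] {φ : M → ℂ} :
    φ ∈ nzSet Z ↔ Cfsg.IsIrrCharacter M φ ∧ ∃ z ∈ Z, φ z ≠ φ 1 := by
  classical
  have hirr : ∀ χ ∈ Cfsg.inducedIrrAbove (commutator M) ⊥ \ Cfsg.inducedIrrAbove (commutator M) Z,
      Cfsg.IsIrrCharacter M χ := by
    rintro χ ⟨⟨θ, hθ, hne, -, rfl⟩, hnot⟩
    refine (F.irr_or_col ⟨θ, hθ⟩ hne).resolve_right fun ⟨j, _, e⟩ => hnot ⟨θ, hθ, hne, ?_, rfl⟩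
    have e' : θ = (F.colRes j : commutator M → ℂ) := congrArg Subtype.val e
    intro z hz
    rw [e']
    exact F.colRes_triv_central hZ j z hz
  rw [← Finset.mem_coe, nzSet_coe, Above.diff_eq (commutator M) Z hZ.le_K hirr]
  rfl

/-- A member is induced, of degree `e |W₁|` with `e ≥ 2`. -/
theorem nzSet_cases (F : Fam S) (hZ : CentSub S Z) [Z.Normal] {φ : M → ℂ} (hφ : φ ∈ nzSet Z) :
    (∀ x : M, x ∉ commutator M → φ x = 0) ∧
      ∃ e : ℕ, 2 ≤ e ∧ φ 1 = (e : ℂ) * (Nat.card W₁ : ℂ) := by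
  classical
  obtain ⟨hirr, z, hz, hne⟩ := (mem_nzSet F hZ).mp hφ
  rcases F.off_cases hirr with ⟨i, j, rfl⟩ | ⟨-, hoff, θ, e, heq, he1, hodd, he⟩
  · refine absurd ?_ hne
    rw [F.mu_res i 1 j z (hZ.le_K hz), F.mu_res i 1 j 1 (one_mem _)]
    exact F.colRes_triv_central hZ j ⟨z, hZ.le_K hz⟩ hz
  · refine ⟨hoff, e, ?_, he⟩
    by_contra hc
    obtain ⟨u, rfl⟩ := hodd
    obtain rfl : u = 0 := by omega
    refine hne ?_
    rw [heq, linear_val (S := S) θ.2 (by simpa using he1) (hZ.le hz), ← heq, he]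
    simp

theorem nzSet_conj (F : Fam S) (hZ : CentSub S Z) [Z.Normal] :
    ∀ φ ∈ nzSet Z, Cfsg.conjFun φ ∈ nzSet Z := by
  intro φ hφ
  obtain ⟨hirr, z, hz, hne⟩ := (mem_nzSet F hZ).mp hφ
  exact (mem_nzSet F hZ).mpr ⟨PairBessel.isIrr_conjFun hirr, z, hz,
    fun e => hne ((starRingEnd ℂ).injective e)⟩

theorem nzSet_wt [Z.Normal] :
    ∑ φ ∈ nzSet Z, Coh.wt φ =
      ((commutator M).index : ℝ) * ((Nat.card (commutator M) : ℝ) - (Z.relIndex (commutator M) : ℝ)) := by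
  classical
  unfold nzSet
  convert Above.sum_wt_diff (commutator M) Z using 2

theorem relIndex_mul_card (hZ : CentSub S Z) :
    Z.relIndex (commutator M) * Nat.card Z = Nat.card (commutator M) := by
  rw [← Nat.card_congr (Subgroup.subgroupOfEquivOfLe hZ.le_K).toEquiv]
  exact (Z.subgroupOf (commutator M)).index_mul_card

theorem three_le_card_cent (hZ : CentSub S Z) : 3 ≤ Nat.card Z := by
  have h1 : 1 < Nat.card Z := (Subgroup.one_lt_card_iff_ne_bot Z).mpr hZ.ne_bot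
  obtain ⟨v, hv⟩ := (odd_M S).of_dvd_nat (Subgroup.card_subgroup_dvd_card Z)
  omega

theorem nzSet_nonempty (hZ : CentSub S Z) [Z.Normal] : (nzSet Z).Nonempty := by
  rw [Finset.nonempty_iff_ne_empty]
  intro e
  have h := nzSet_wt (M := M) (Z := Z)
  rw [e, Finset.sum_empty, eq_comm, mul_eq_zero] at h
  rcases h with h | h
  · exact Subgroup.index_ne_zero_of_finite (Nat.cast_eq_zero.mp h)
  · have h2 := relIndex_mul_card hZ
    have h3 := three_le_card_cent hZ
    have h4 : Nat.card (commutator M) = Z.relIndex (commutator M) := by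
      exact_mod_cast sub_eq_zero.mp h
    rw [h4] at h2
    have h5 : 0 < Z.relIndex (commutator M) :=
      Nat.pos_of_ne_zero (Z.subgroupOf (commutator M)).index_ne_zero_of_finite
    nlinarith

include S in
theorem coprime_derived : (Nat.card W₁).Coprime (Nat.card (commutator M)) := by
  have h1 : (W₁.subgroupOf M).index * Nat.card (W₁.subgroupOf M) = Nat.card M :=
    Subgroup.index_mul_card _
  rw [Nat.card_congr (Subgroup.subgroupOfEquivOfLe S.le₁).toEquiv] at h1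
  have h2 := (commutator M).index_mul_card
  rw [index_commutator S, ← h1, mul_comm _ (Nat.card W₁)] at h2
  rw [Nat.eq_of_mul_eq_mul_left Nat.card_pos h2]
  exact S.hall

/-- The characters nontrivial on `Z` are coherent when `M'` is a `p`-group. -/
theorem nontriv_coherent (F : Fam S) (hZ : CentSub S Z) [Z.Normal] {n : ℕ}
    (hpn : Nat.card (commutator M) = p ^ n) :
    Cfsg.IsCoherent (↑(nzSet Z) : Set (M → ℂ)) {1}ᶜ (tau S) := by
  classical
  have hp : p.Prime := Fact.out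
  set K := commutator M
  set T := nzSet Z with hT
  have hTS : ↑T ⊆ Cfsg.inducedIrrAbove K ⊥ := nzSet_coe (Z := Z) ▸ Set.sdiff_subset
  have hTirr : ∀ φ ∈ T, Cfsg.IsIrrCharacter M φ := fun φ h => ((mem_nzSet F hZ).mp h).1
  have hTc := nzSet_conj F hZ
  have hne := nzSet_nonempty hZ
  obtain ⟨R', hS⟩ := exists_system (S := S) T hne hTirr hTc
    fun φ h => (nzSet_cases F hZ h).1
  have hidx : K.index = Nat.card W₁ := index_commutator S
  have he0 : 0 < K.index := Nat.pos_of_ne_zero K.index_ne_zero_of_finite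
  have he : (0 : ℝ) < (K.index : ℝ) := by exact_mod_cast he0
  obtain ⟨a, -, ha⟩ := (Nat.dvd_prime_pow hp).mp (hpn ▸ Subgroup.index_dvd_card (Z.subgroupOf K) :
    Z.relIndex K ∣ p ^ n)
  have hdeg : ∀ φ ∈ T, ∃ l, deg φ = K.index * p ^ l := fun φ h =>
    (Above.deg_above_prime_pow K ⊥ hp (by rw [Subgroup.relIndex_bot_left, hpn]) (hTS h)).imp
      fun _ h => h.2
  have hn0 : n ≠ 0 := fun e => by
    have h2 := relIndex_mul_card hZ
    have h3 := three_le_card_cent hZ
    rw [hpn, e, pow_zero] at h2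
    have := Nat.le_of_dvd one_pos (Dvd.intro_left _ h2)
    omega
  have hcop : Nat.Coprime K.index p := by
    rw [hidx]
    exact (hpn ▸ coprime_derived (S := S)).coprime_dvd_right (dvd_pow_self p hn0)
  have hp3 : 3 ≤ p := by
    have h : Odd p := ((odd_M S).of_dvd_nat (Subgroup.card_subgroup_dvd_card K)).of_dvd_nat
      (hpn ▸ dvd_pow_self p hn0)
    rcases h with ⟨v, hv⟩
    have := hp.two_le
    omega
  obtain ⟨χ₁, hχ₁, hmin⟩ := Finset.exists_min_image T deg hne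
  obtain ⟨k₀, hk₀⟩ := hdeg χ₁ hχ₁
  refine Coh.coherent_chain hS T subset_rfl hTc hχ₁ (fun φ hφ => ⟨hmin φ hφ, ?_⟩)
    (fun χ hχ hlt => ?_)
  · obtain ⟨l, hl⟩ := hdeg φ hφ
    have := hmin φ hφ
    rw [hk₀, hl] at this ⊢
    exact Nat.mul_dvd_mul_left _ (pow_dvd_pow p ((Nat.pow_le_pow_iff_right hp.one_lt).mp
      (Nat.le_of_mul_le_mul_left this he0)))
  obtain ⟨k, hk⟩ := hdeg χ hχ
  rw [hk, hk₀] at hlt ⊢
  have hkk : k₀ < k := (Nat.pow_lt_pow_iff_right hp.one_lt).mp (Nat.lt_of_mul_lt_mul_left hlt)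
  have hka : 2 * k ≤ a := Above.two_mul_le_of_central K Z hZ.le_K hZ.cent hp ha (hTS hχ) hk
  obtain ⟨J, hJ⟩ := Above.sum_large K T hTS (k := k) hp hdeg
  have hsum := Finset.sum_filter_add_sum_filter_not T (fun φ => deg φ < K.index * p ^ k) Coh.wt
  rw [hT, nzSet_wt, ← hT, hJ, hpn, ha] at hsum
  choose! l hl using hdeg
  set V : ℕ := ∑ φ ∈ T.filter (fun φ => deg φ < K.index * p ^ k), (p ^ l φ) ^ 2 with hV
  have hA : ∑ φ ∈ T.filter (fun φ => deg φ < K.index * p ^ k), Coh.wt φ =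
      (K.index : ℝ) ^ 2 * (V : ℝ) := by
    rw [hV, Nat.cast_sum, Finset.mul_sum]
    refine Finset.sum_congr rfl fun φ hφ => ?_
    have := (Finset.mem_filter.mp hφ).1
    rw [Above.wt_irr (hTirr φ this), hl φ this]
    push_cast
    ring
  rw [hA] at hsum ⊢
  have hV0 : 0 < V := by
    refine lt_of_lt_of_le (by have := hp.pos; positivity : 0 < (p ^ l χ₁) ^ 2) ?_
    rw [hV]
    exact Finset.single_le_sum (f := fun φ => (p ^ l φ) ^ 2) (fun _ _ => Nat.zero_le _)
      (Finset.mem_filter.mpr ⟨hχ₁, by rw [hk₀]; exact hlt⟩)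
  have hdvd : p ^ (2 * k) ∣ K.index * V := by
    have h1 : (K.index : ℝ) * ((K.index * V + p ^ (2 * k) * J + p ^ a : ℕ) : ℝ) =
        (K.index : ℝ) * ((p ^ n : ℕ) : ℝ) := by push_cast at hsum ⊢; linear_combination hsum
    have h2 : K.index * V + p ^ (2 * k) * J + p ^ a = p ^ n := by
      exact_mod_cast mul_left_cancel₀ he.ne' h1
    have hd2 : p ^ (2 * k) ∣ p ^ n := pow_dvd_pow p (hka.trans (by
      have : p ^ a ≤ p ^ n := by omega
      exact (Nat.pow_le_pow_iff_right hp.one_lt).mp this))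
    rw [← h2] at hd2
    exact (Nat.dvd_add_left (dvd_mul_right _ J)).mp
      ((Nat.dvd_add_left (pow_dvd_pow p hka)).mp hd2)
  have hVge : p ^ (2 * k) ≤ V :=
    Nat.le_of_dvd hV0 ((Nat.Coprime.pow_left _ hcop.symm).dvd_of_dvd_mul_left hdvd)
  have hstep : 2 * p ^ k₀ < p ^ k := by
    have := Nat.mul_le_mul hp3 (le_refl (p ^ k₀))
    have := pow_pos hp.pos k₀
    have : p ^ (k₀ + 1) ≤ p ^ k := Nat.pow_le_pow_right hp.pos hkk
    rw [pow_succ'] at this
    omega
  have h3 : 2 * (K.index * p ^ k) * (K.index * p ^ k₀) < K.index ^ 2 * V := by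
    refine lt_of_lt_of_le ?_ (Nat.mul_le_mul_left _ hVge)
    calc 2 * (K.index * p ^ k) * (K.index * p ^ k₀) = K.index ^ 2 * p ^ k * (2 * p ^ k₀) := by ring
      _ < K.index ^ 2 * p ^ k * p ^ k := Nat.mul_lt_mul_of_pos_left hstep
          (by have := hp.pos; positivity)
      _ = _ := by ring
  exact_mod_cast h3

variable {F : Fam S} {ι : Type*} [Fintype ι] [DecidableEq ι]

/-- The coefficients on the characters nontrivial on `Z` are proportional to the degree. -/
theorem nontriv_coef (hT : FiveTI S P) (hZ : CentSub S Z) [Z.Normal]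
    (hcoh : Cfsg.IsCoherent (↑(nzSet Z) : Set (M → ℂ)) {1}ᶜ (tau S))
    {B : Block F ι} (hB : IsLin B) (a : ι) :
    ∃ u : ℤ, ((Fintype.card ι : ℤ) * u ^ 2 - 2 * u ≤ 0) ∧ ∀ φ ∈ nzSet Z, ∀ e : ℕ,
      φ 1 = (e : ℂ) * (Nat.card W₁ : ℂ) → ∀ b,
        Cfsg.classInner (tau S ((e : ℂ) • B.ch a - φ)) (B.img b) =
          (((if a = b then (e : ℤ) else 0) - e * u : ℤ) : ℂ) := by
  classical
  set q := Nat.card W₁ with hq
  have hq0 : (q : ℂ) ≠ 0 := Nat.cast_ne_zero.mpr Nat.card_pos.ne'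
  set T := nzSet Z with hTdef
  have hTirr : ∀ φ ∈ T, Cfsg.IsIrrCharacter M φ := fun φ h => ((mem_nzSet F hZ).mp h).1
  have hoff : ∀ φ ∈ T, ∀ x : M, x ∉ commutator M → φ x = 0 := fun φ h => (nzSet_cases F hZ h).1
  obtain ⟨C, hC⟩ := exists_block F T hTirr (nzSet_conj F hZ)
    (fun φ h => conjFun_ne_of_off (S := S) (hTirr φ h) (hoff φ h))
    (fun φ h => (nzSet_cases F hZ h).2.imp fun _ he => he.2) hoff hcoh
  have hne : ∀ b, ∀ φ ∈ T, B.ch b ≠ φ := by
    intro b φ hφ e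
    obtain ⟨-, z, hz, hz1⟩ := (mem_nzSet F hZ).mp hφ
    refine hz1 ?_
    rw [← e, hB.val b z (hZ.le hz), B.one, hB.deg, Nat.cast_one, one_mul]
  set b₀ := B.cj a with hb₀
  have hb0 : ¬ a = b₀ := fun e => B.cj_ne a e.symm
  set ψ := B.img b₀ with hψ
  have hψc : Cfsg.IsClassFunction G ψ := isClassFunction_of_isGen (B.gen b₀)
  set ψM : M → ℂ := fun x => ψ x with hψM
  have hψMg : Cfsg.IsGeneralizedCharacter M ψM := isGen_res M (B.gen b₀)
  -- proportionality
  obtain ⟨φ₀, hφ₀⟩ := nzSet_nonempty hZ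
  set c₀ : ℂ := Cfsg.classInner ψM φ₀ / φ₀ 1 with hc₀
  have hprop : ∀ φ ∈ T, Cfsg.classInner ψM φ = c₀ * φ 1 := by
    intro φ hφ
    have hd : ∀ c : {φ : M → ℂ // φ ∈ T}, c.1 1 = (C.deg c : ℂ) * (q : ℂ) := fun c => by
      rw [← hC c]; exact C.one c
    have hlink := C.link ⟨φ₀, hφ₀⟩ ⟨φ, hφ⟩
    have hin := congrArg (fun f => Cfsg.classInner f ψ) hlink
    rw [tau_res hT (C.supp_link _ _) hψc, classInner_sub_left, classInner_sub_left,
      classInner_smul_left, classInner_smul_left, classInner_smul_left, classInner_smul_left,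
      hC, hC, ← hψM] at hin
    have hdis : ∀ c, Cfsg.classInner (C.img c) ψ = 0 := fun c => by
      rw [← classInner_conj_symm, hψ, B.disjoint C (fun b d => hC d ▸ hne b _ d.2) b₀ c, map_zero]
    rw [hdis, hdis, mul_zero, mul_zero, sub_zero, sub_eq_zero] at hin
    dsimp only at hin
    rw [← classInner_conj_symm ψM φ₀, ← classInner_conj_symm ψM φ] at hin
    have hin' := congrArg (starRingEnd ℂ) hin
    simp only [map_mul, map_natCast, Complex.conj_conj] at hin'
    have e1 : φ 1 = (C.deg ⟨φ, hφ⟩ : ℂ) * (q : ℂ) := hd ⟨φ, hφ⟩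
    have e2 : φ₀ 1 = (C.deg ⟨φ₀, hφ₀⟩ : ℂ) * (q : ℂ) := hd ⟨φ₀, hφ₀⟩
    rw [hc₀, e1, e2]
    have h0 : (C.deg ⟨φ₀, hφ₀⟩ : ℂ) ≠ 0 := Nat.cast_ne_zero.mpr (C.deg_pos _).ne'
    field_simp
    linear_combination -hin'
  -- the values on `Z`
  set U := Finset.univ.filter fun χ : Cfsg.IrrCharacter M => (χ : M → ℂ) ∈ T with hU
  set N := Finset.univ.filter fun χ : Cfsg.IrrCharacter M => ¬ (χ : M → ℂ) ∈ T with hN
  set s₁ : ℂ := ∑ χ ∈ N, Cfsg.classInner ψM χ * (χ : M → ℂ) 1
  set s₂ : ℂ := ∑ χ ∈ N, (χ : M → ℂ) 1 * (χ : M → ℂ) 1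
  have hval : ∀ z ∈ Z, ψM z = c₀ * (if z = 1 then (Nat.card M : ℂ) else 0) - c₀ * s₂ + s₁ := by
    intro z hz
    have hcst : ∀ χ ∈ N, (χ : M → ℂ) z = (χ : M → ℂ) 1 := fun χ hχ => by
      by_contra hc
      exact (Finset.mem_filter.mp hχ).2 ((mem_nzSet F hZ).mpr ⟨χ.2, z, hz, hc⟩)
    have h1 := congrFun (classFun_eq_sum (isClassFunction_of_isGen hψMg)) z
    simp only [Finset.sum_apply, Pi.smul_apply, smul_eq_mul] at h1
    have h2 := sum_degree_mul_apply (G := M) z
    rw [← Finset.sum_filter_add_sum_filter_not Finset.univ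
      (fun χ : Cfsg.IrrCharacter M => (χ : M → ℂ) ∈ T)] at h1 h2
    rw [Finset.sum_congr rfl (s₁ := N) fun χ hχ => by rw [hcst χ hχ]] at h1 h2
    rw [h1, ← h2, Finset.sum_congr rfl (s₁ := U) (g := fun χ : Cfsg.IrrCharacter M =>
      c₀ * ((χ : M → ℂ) 1 * (χ : M → ℂ) z)) fun χ hχ => by
        rw [hprop _ (Finset.mem_filter.mp hχ).2]; ring, ← Finset.mul_sum]
    ring
  obtain ⟨z₀, hz₀, hz₀1⟩ : ∃ z ∈ Z, z ≠ 1 := by
    obtain ⟨x, hx⟩ := exists_mem_ne_one hZ.ne_bot
    exact ⟨x, hx⟩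
  obtain ⟨kk, hkk⟩ := dvd_sub_of_const hT Z hZ.le_K hZ.cent (B.gen b₀) (B.self b₀)
    (fun z hz z' hz' e e' => by
      show ψM z = ψM z'
      rw [hval z hz, hval z' hz', if_neg e, if_neg e']) hz₀ hz₀1
  have hck : c₀ * (q : ℂ) = (kk : ℂ) := by
    have h1 : ψM 1 - ψM z₀ = (kk : ℂ) * (Nat.card (commutator M) : ℂ) := by
      rw [← hkk]; rfl
    rw [hval 1 (one_mem _), hval z₀ hz₀, if_pos rfl, if_neg hz₀1, ← (commutator M).index_mul_card,
      index_commutator S] at h1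
    have hK : (Nat.card (commutator M) : ℂ) ≠ 0 := Nat.cast_ne_zero.mpr Nat.card_pos.ne'
    refine mul_right_cancel₀ hK ?_
    push_cast at h1
    linear_combination h1
  obtain ⟨s, hs⟩ := classInner_gen_int (isGen_of_irr (B.irr a)) hψMg
  have hcoef : ∀ φ ∈ T, ∀ e : ℕ, φ 1 = (e : ℂ) * (q : ℂ) → ∃ t : ℤ,
      (∀ b, Cfsg.classInner (tau S ((e : ℂ) • B.ch a - φ)) (B.img b) =
        (((if a = b then (e : ℤ) else 0) - t : ℤ) : ℂ)) ∧ t = e * (kk - s) ∧
      (Fintype.card ι : ℤ) * t ^ 2 - 2 * e * t ≤ 1 := by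
    intro φ hφ e he
    obtain ⟨hsupp, t, ht, hin⟩ :=
      B.gamma_coef hB a (hTirr φ hφ) (hoff φ hφ) he fun b => hne b φ hφ
    refine ⟨t, ht, ?_, hin⟩
    have h1 := ht b₀
    rw [← hψ, tau_res hT hsupp hψc, if_neg hb0, zero_sub, classInner_sub_left,
      classInner_smul_left, hs] at h1
    rw [show Cfsg.classInner φ (fun x : M => ψ x) = (starRingEnd ℂ) (c₀ * ((e : ℂ) * (q : ℂ))) by
      rw [← he, ← hprop φ hφ, classInner_conj_symm]] at h1
    have h2 : (starRingEnd ℂ) (c₀ * ((e : ℂ) * (q : ℂ))) = (kk : ℂ) * (e : ℂ) := by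
      rw [show c₀ * ((e : ℂ) * (q : ℂ)) = (c₀ * (q : ℂ)) * (e : ℂ) by ring, hck]
      simp
    rw [h2] at h1
    have h3 : ((t : ℤ) : ℂ) = (((e : ℤ) * (kk - s) : ℤ) : ℂ) := by
      push_cast at h1 ⊢
      linear_combination h1
    exact_mod_cast h3
  refine ⟨kk - s, ?_, fun φ hφ e he b => ?_⟩
  · obtain ⟨e, he2, he⟩ := (nzSet_cases F hZ hφ₀).2
    obtain ⟨t, -, rfl, hin⟩ := hcoef φ₀ hφ₀ e he
    by_contra hc
    push Not at hc
    have he4 : (4 : ℤ) ≤ (e : ℤ) ^ 2 := by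
      have : (2 : ℤ) ≤ e := by exact_mod_cast he2
      nlinarith
    nlinarith
  · obtain ⟨t, ht, rfl, -⟩ := hcoef φ hφ e he
    exact ht b

/-- A linear block with no coefficient extends by the characters nontrivial on `Z`. -/
theorem exists_glue (hZ : CentSub S Z) [Z.Normal] {B : Block F ι} (hB : IsLin B) (a : ι)
    (h0 : ∀ φ ∈ nzSet Z, ∀ e : ℕ, φ 1 = (e : ℂ) * (Nat.card W₁ : ℂ) → ∀ b,
      Cfsg.classInner (tau S ((e : ℂ) • B.ch a - φ)) (B.img b) =
        if a = b then (e : ℂ) else 0) :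
    ∃ D : Block F (ι ⊕ {φ : M → ℂ // φ ∈ nzSet Z}), D.deg (Sum.inl a) = 1 ∧
      (∀ c, D.ch (Sum.inr c) = c.1) := by
  classical
  set q := Nat.card W₁
  set T := nzSet Z
  have hTirr : ∀ φ ∈ T, Cfsg.IsIrrCharacter M φ := fun φ h => ((mem_nzSet F hZ).mp h).1
  have hoff : ∀ φ ∈ T, ∀ x : M, x ∉ commutator M → φ x = 0 := fun φ h => (nzSet_cases F hZ h).1
  choose d hd2 hd using fun c : {φ : M → ℂ // φ ∈ T} => (nzSet_cases F hZ c.2).2
  have hne : ∀ b, ∀ φ ∈ T, B.ch b ≠ φ := by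
    intro b φ hφ e
    obtain ⟨-, z, hz, hz1⟩ := (mem_nzSet F hZ).mp hφ
    refine hz1 ?_
    rw [← e, hB.val b z (hZ.le hz), B.one, hB.deg, Nat.cast_one, one_mul]
  set γ : {φ : M → ℂ // φ ∈ T} → M → ℂ := fun c => (d c : ℂ) • B.ch a - c.1 with hγ
  have hγg : ∀ c, Cfsg.IsGeneralizedCharacter M (γ c) := fun c => by
    rw [hγ]
    exact isGen_sub (by
      rw [show (d c : ℂ) = ((d c : ℤ) : ℂ) by simp]
      exact isGen_intCast_smul (isGen_of_irr (B.irr a)) _) (isGen_of_irr (hTirr _ c.2))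
  have hγs : ∀ c, Supp S (γ c) := fun c => supp_off (isClassFunction_of_isGen (hγg c))
    (by simp [hγ, B.one, hB.deg a, hd c]) fun x hx => by
      simp [hγ, B.off a x hx, hoff _ c.2 x hx]
  have hγin : ∀ c c', Cfsg.classInner (γ c) (γ c') =
      (d c : ℂ) * (d c' : ℂ) + if c = c' then 1 else 0 := fun c c' => by
    have h1 : Cfsg.classInner c.1 c'.1 = if c = c' then 1 else 0 := by
      split_ifs with h
      · rw [h]; exact classInner_irr_self (hTirr _ c'.2)
      · exact classInner_irr_ne (hTirr _ c.2) (hTirr _ c'.2) fun e => h (Subtype.ext e)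
    simp only [hγ, classInner_sub_left, classInner_sub_right, classInner_smul_left,
      classInner_smul_right, classInner_irr_self (B.irr a), h1,
      classInner_irr_ne (B.irr a) (hTirr _ c'.2) (hne a _ c'.2),
      classInner_irr_ne (hTirr _ c.2) (B.irr a) (hne a _ c.2).symm, map_natCast]
    ring
  set im : {φ : M → ℂ // φ ∈ T} → G → ℂ :=
    fun c => (d c : ℂ) • B.img a - tau S (γ c) with him
  have hA : ∀ c b, Cfsg.classInner (tau S (γ c)) (B.img b) = if a = b then (d c : ℂ) else 0 :=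
    fun c b => h0 _ c.2 _ (hd c) b
  have hA' : ∀ c b, Cfsg.classInner (B.img b) (tau S (γ c)) = if a = b then (d c : ℂ) else 0 :=
    fun c b => by rw [← classInner_conj_symm, hA]; split_ifs <;> simp
  have himim : ∀ c c', Cfsg.classInner (im c) (im c') = if c = c' then 1 else 0 := fun c c' => by
    simp only [him, classInner_sub_left, classInner_sub_right, classInner_smul_left,
      classInner_smul_right, hA, hA', B.self, if_true, tau_inner (hγs c) (hγs c'), hγin,
      map_natCast]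
    ring
  have himB : ∀ c b, Cfsg.classInner (im c) (B.img b) = 0 := fun c b => by
    simp only [him, classInner_sub_left, classInner_smul_left, hA, B.img_inner]
    split_ifs <;> ring
  refine ⟨{
    ch := Sum.elim B.ch Subtype.val
    deg := Sum.elim B.deg d
    img := Sum.elim B.img im
    cj := Sum.elim (fun b => Sum.inl (B.cj b))
      (fun c => Sum.inr ⟨Cfsg.conjFun c.1, nzSet_conj F hZ _ c.2⟩)
    irr := fun c => c.rec B.irr fun c => hTirr _ c.2
    inj := B.inj.sumElim Subtype.val_injective fun b c => hne b _ c.2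
    cj_ch := fun c => c.rec B.cj_ch fun _ => rfl
    cj_ne := fun c => c.rec (fun b e => B.cj_ne b (Sum.inl.inj e)) fun c e =>
      conjFun_ne_of_off (S := S) (hTirr _ c.2) (hoff _ c.2) (congrArg Subtype.val (Sum.inr.inj e))
    one := fun c => c.rec B.one hd
    off := fun c => c.rec B.off fun c => hoff _ c.2
    gen := ?hgen
    self := fun c => c.rec B.self fun c => (himim c c).trans (if_pos rfl)
    ortho := ?hortho
    link := ?hlink }, hB.deg a, fun _ => rfl⟩
  case hgen =>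
    rintro (b | c)
    · exact B.gen b
    show Cfsg.IsGeneralizedCharacter G (im c)
    simp only [him]
    rw [show (d c : ℂ) = ((d c : ℤ) : ℂ) by simp]
    exact isGen_sub (isGen_intCast_smul (B.gen a) _) (tau_gen (hγg c) (hγs c))
  case hortho =>
    rintro (x | x) (y | y) h
    · exact B.ortho x y fun e => h (congrArg Sum.inl e)
    · show Cfsg.classInner (B.img x) (im y) = 0
      rw [← classInner_conj_symm, himB, map_zero]
    · exact himB x y
    · show Cfsg.classInner (im x) (im y) = 0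
      rw [himim, if_neg fun e => h (congrArg Sum.inr e)]
  case hlink =>
    intro x y
    -- linearity
    let δ : ι ⊕ {φ : M → ℂ // φ ∈ T} → M → ℂ :=
      Sum.elim (fun b => B.ch a - B.ch b) γ
    have hδ : ∀ x, tau S (δ x) =
        ((Sum.elim B.deg d x : ℕ) : ℂ) • B.img a - Sum.elim B.img im x := by
      rintro (b | c)
      · show tau S (B.ch a - B.ch b) = (B.deg b : ℂ) • B.img a - B.img b
        rw [B.link_eq (by rw [hB.deg, hB.deg]), hB.deg, Nat.cast_one, one_smul]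
      · show tau S (γ c) = (d c : ℂ) • B.img a - im c
        rw [him, sub_sub_cancel]
    have hδe : ∀ x, δ x = ((Sum.elim B.deg d x : ℕ) : ℂ) • B.ch a - Sum.elim B.ch Subtype.val x := by
      rintro (b | c)
      · simp [δ, hB.deg b]
      · rfl
    have e : ((Sum.elim B.deg d y : ℕ) : ℂ) • Sum.elim B.ch Subtype.val x -
        ((Sum.elim B.deg d x : ℕ) : ℂ) • Sum.elim B.ch Subtype.val y =
        ((Sum.elim B.deg d x : ℕ) : ℂ) • δ y - ((Sum.elim B.deg d y : ℕ) : ℂ) • δ x := by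
      rw [hδe, hδe]; module
    rw [e, tau_sub, tau_smul, tau_smul, hδ, hδ]
    module

/-- If `W₂` is not central, some linear character lies in a flat block. -/
theorem noncentral_flat (hT : FiveTI S P) (hZ : CentSub S Z) [Z.Normal] {n : ℕ}
    (hpn : Nat.card (commutator M) = p ^ n) {B : Block F ι} (hB : IsLin B) (a : ι) :
    ∃ D : Block F (ι ⊕ {φ : M → ℂ // φ ∈ nzSet Z}), D.deg (Sum.inl a) = 1 ∧
      ∀ i, ∀ j, j ≠ 1 → Cfsg.classInner (tau S (D.alpha (Sum.inl a) i j)) (D.img (Sum.inl a)) =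
        -(F.nn j : ℂ) := by
  classical
  have hcoh := nontriv_coherent F hZ hpn
  obtain ⟨u, hu, hco⟩ := nontriv_coef hT hZ hcoh hB a
  obtain ⟨B', hB', h0⟩ : ∃ B' : Block F ι, IsLin B' ∧ ∀ φ ∈ nzSet Z, ∀ e : ℕ,
      φ 1 = (e : ℂ) * (Nat.card W₁ : ℂ) → ∀ b,
        Cfsg.classInner (tau S ((e : ℂ) • B'.ch a - φ)) (B'.img b) = if a = b then (e : ℂ) else 0 := by
    have hm : (2 : ℤ) ≤ Fintype.card ι := by
      exact_mod_cast Fintype.one_lt_card_iff.mpr ⟨a, B.cj a, (B.cj_ne a).symm⟩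
    have hu01 : u = 0 ∨ (u = 1 ∧ Fintype.card ι = 2) := by
      rcases lt_trichotomy u 0 with h | h | h
      · nlinarith
      · exact Or.inl h
      · right
        have h1 : (Fintype.card ι : ℤ) * u ≤ 2 := by
          by_contra hc
          push Not at hc
          nlinarith
        have h2 : u = 1 := by nlinarith
        subst h2
        exact ⟨rfl, by omega⟩
    rcases hu01 with rfl | ⟨rfl, h2⟩
    · exact ⟨B, hB, fun φ hφ e he b => by rw [hco φ hφ e he b]; simp⟩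
    · obtain ⟨C, hCc, hCd, hCi⟩ := B.exists_swap hB.deg h2
      refine ⟨C, ⟨fun b => by rw [hCd]; exact hB.deg b, fun b z hz => by rw [hCc]; exact hB.val b z hz,
        fun σ b => by rw [hCc]; exact hB.gal σ b⟩, fun φ hφ e he b => ?_⟩
      have htwo : ∀ x, x = a ∨ x = B.cj a := by
        intro x
        by_contra h
        push Not at h
        have h3 : ({a, B.cj a, x} : Finset ι).card ≤ 2 := h2 ▸ Finset.card_le_univ _
        rw [Finset.card_insert_of_notMem (by simp [(B.cj_ne a).symm, h.1.symm]),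
          Finset.card_pair h.2.symm] at h3
        omega
      have hinv : B.cj (B.cj a) = a := B.inj (by rw [B.cj_ch, B.cj_ch, Coh.conjFun_conjFun])
      rw [hCc, hCi, classInner_neg_right, hco φ hφ e he]
      rcases htwo b with rfl | rfl
      · simp [(B.cj_ne _).symm]
      · simp [hinv, (B.cj_ne _).symm]
  obtain ⟨D, hDa, hDc⟩ := exists_glue hZ hB' a h0
  refine ⟨D, hDa, D.flat_of_weight hDa fun j hj => ?_⟩
  set q := Nat.card W₁ with hq
  set k := Nat.card (commutator M) with hk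
  set W := ∑ x, (D.deg x : ℤ) ^ 2 with hW
  have hwt : (q : ℝ) * ((k : ℝ) - (Z.relIndex (commutator M) : ℝ)) ≤ (q : ℝ) ^ 2 * (W : ℝ) := by
    have h := nzSet_wt (M := M) (Z := Z)
    rw [index_commutator S] at h
    rw [← h, hW, Fintype.sum_sum_type]
    push_cast
    rw [mul_add, Finset.mul_sum, Finset.mul_sum, ← Finset.sum_coe_sort (nzSet Z)]
    refine le_add_of_nonneg_of_le (Finset.sum_nonneg fun _ _ => by positivity)
      (le_of_eq (Finset.sum_congr rfl fun c _ => ?_))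
    rw [Above.wt_irr ((mem_nzSet F hZ).mp c.2).1, deg_eq (n := D.deg (Sum.inr c) * q) (by
      rw [← hDc c, D.one, Nat.cast_mul])]
    push_cast
    ring
  have hr := relIndex_mul_card hZ
  have hZ3 := three_le_card_cent hZ
  have hr3 : 3 * (Z.relIndex (commutator M) : ℝ) ≤ (k : ℝ) := by
    have : 3 * Z.relIndex (commutator M) ≤ k := by
      rw [hk, ← hr, mul_comm 3]; exact Nat.mul_le_mul_left _ hZ3
    exact_mod_cast this
  have hd : (F.sgn j + F.nn j * (q : ℤ)) ^ 2 ≤ (k : ℤ) := by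
    rw [← F.colRes_deg j]
    have h := sum_degree_sq (G := commutator M)
    have h' : ((∑ χ : Cfsg.IrrCharacter (commutator M), deg (χ : commutator M → ℂ) ^ 2 : ℕ) : ℂ) =
        ((k : ℕ) : ℂ) := by
      rw [← h]
      push_cast
      exact Finset.sum_congr rfl fun χ _ => by rw [deg_spec (isCharacter_of_isIrr χ.2)]
    have h2 : deg (F.colRes j : commutator M → ℂ) ^ 2 ≤ k := (Finset.single_le_sum
      (f := fun χ : Cfsg.IrrCharacter (commutator M) => deg (χ : commutator M → ℂ) ^ 2)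
      (fun _ _ => Nat.zero_le _) (Finset.mem_univ _)).trans (le_of_eq (Nat.cast_inj.mp h'))
    exact_mod_cast h2
  obtain ⟨hn2, -, hd5, -⟩ := F.two_le_nn hj
  have hq3 : (3 : ℝ) ≤ q := by exact_mod_cast three_le₁ S
  have hn2' : (2 : ℝ) ≤ F.nn j := by exact_mod_cast hn2
  have hd' : ((F.sgn j : ℝ) + (F.nn j : ℝ) * q) ^ 2 ≤ (k : ℝ) := by exact_mod_cast hd
  have hs : -1 ≤ (F.sgn j : ℝ) := by rcases F.sgn_eq j with h | h <;> rw [h] <;> norm_num
  have hkey : (2 : ℝ) * F.nn j < W := by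
    by_contra hc
    push Not at hc
    have h1 : (q : ℝ) ^ 2 * W ≤ (q : ℝ) ^ 2 * (2 * F.nn j) :=
      mul_le_mul_of_nonneg_left hc (sq_nonneg _)
    have h2 : 2 * (k : ℝ) ≤ 6 * ((F.nn j : ℝ) * q) := by
      refine le_of_mul_le_mul_left ?_ (by linarith : (0 : ℝ) < q)
      nlinarith
    have h3 : (6 : ℝ) ≤ F.nn j * q := by nlinarith
    nlinarith
  exact_mod_cast hkey

end CfsgLib.OddChar.Prime
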