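import Cfsg.Agent.Lib.OddChar.Prime.CentralCase
import Cfsg.Agent.Lib.OddChar.Prime.NoncentralCase
import Cfsg.Agent.Lib.OddChar.Prime.FiveBasic
import Cfsg.Agent.Lib.OddChar.Prime.Count
import Cfsg.Agent.Lib.OddChar.Prime.SigmaRank
import Cfsg.Agent.Lib.PGroup.Basic

/-!
# There is no maximal subgroup of type V

* `fiveTI_of`: the TI case;
* `not_V`, `sigmaRankProp`.
-/

set_option autoImplicit false
set_option linter.unusedSectionVars false

namespace CfsgLib.OddChar.Prime

open CfsgLib.OddLocal
open CfsgLib.OddChar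
open scoped commutatorElement

universe u

variable {G : Type u} [Group G]

/-- In type V, `M_F = M'`. -/
theorem fittingHallOf_eq_derived {M W₁ W₂ : Subgroup G} (hP : Cfsg.IsTypePWith M W₁ ⊥ W₂) :
    Cfsg.fittingHallOf M = ⁅M, M⁆ := by
  refine le_antisymm hP.U_compl.1 fun x hx => ?_
  obtain ⟨a, ha, b, hb, rfl⟩ := hP.U_compl.2.2.2 x hx
  rw [Subgroup.mem_bot] at hb
  simpa [hb] using ha

variable [Fintype G]

/-- The TI case. -/
theorem fiveTI_of (hG : Cfsg.IsMinSimpleOddOrder G) {M W₁ U W₂ : Subgroup G} (hM : IsCoatom M)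
    (hV : Cfsg.IsOfTypeV M) (hP : Cfsg.IsTypePWith M W₁ U W₂)
    (hKH : Cfsg.fittingHallOf M = ⁅M, M⁆) {p : ℕ} [Fact p.Prime]
    (hpK : IsPGroup p (commutator M)) (hpd : p ∣ Nat.card (commutator M))
    (hTI : Cfsg.IsTISubset (Cfsg.fittingHallOf M : Set G)) [Fintype M] [Fintype (commutator M)] :
    ∃ P : Sylow p G,
      FiveTI (setup_of_kernel (pre_of_minimal hG) hM (Or.inr (Or.inr hV)) hP) P := by
  classical
  have hP0 := pre_of_minimal hG
  have h : IsType345 M := Or.inr (Or.inr hV)
  set H := Cfsg.fittingHallOf M with hH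
  have hcard : Nat.card H = Nat.card (commutator M) := by
    rw [hKH, ← commutator_map, Subgroup.card_map_of_injective M.subtype_injective]
  have hHp : IsPGroup p H := by
    rw [hKH, ← commutator_map]
    exact hpK.map _
  have hcore : Cfsg.typeCore M = H := by
    unfold Cfsg.typeCore
    split_ifs
    · exact hKH.symm
    · rfl
  obtain ⟨T, hT⟩ := exists_sylow_le (N := M) (r := p) (hcard ▸ hpd) fun P hP1 => by
    have := hP0.sylowNorm M hM p Fact.out
    rw [hcore] at this
    exact this P hP1
  have hTH : (T : Subgroup G) = H := (T.3 hHp hT).symm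
  have hH1 : H ≠ ⊥ := fun e => by
    rw [e, Subgroup.card_bot] at hcard
    exact (Fact.out : p.Prime).not_dvd_one (hcard ▸ hpd)
  have hnorm : Subgroup.normalizer (H : Set G) = M := by
    rcases hM.le_iff.mp (le_normalizer_fittingHallOf M) with e | e
    · exfalso
      haveI : H.Normal := Subgroup.normalizer_eq_top_iff.mp e
      haveI := hG.2.1
      rcases IsSimpleGroup.eq_bot_or_eq_top_of_normal H inferInstance with e' | e'
      · exact hH1 e'
      · exact hM.1 (eq_top_iff.mpr (e' ▸ fittingHallOf_le M))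
    · exact e
  refine ⟨T, ⟨fun a ha => supportR_eq_bot ?_, by rw [hTH, hKH, commutator_map], by rw [hTH]; exact hTI,
    by rw [hTH, hnorm]⟩⟩
  rcases ha with ha | ⟨-, A, B, C, hP', m, hm, w, hw, hwA, hwC, rfl⟩
  · unfold Cfsg.typeA at ha
    rw [if_neg (not_I_II hP0 hM h).1] at ha
    obtain ⟨hak, ha1, -⟩ := ha
    rw [← hKH] at hak
    intro g hg
    by_contra hgM
    refine ha1 (hTI g (by rw [hnorm]; exact hgM) a hak ?_)
    rw [Subgroup.mem_centralizer_singleton_iff.mp hg, mul_inv_cancel_right]
    exact hak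
  · intro g hg
    have hc : m⁻¹ * g * m ∈ Subgroup.centralizer ({w} : Set G) := by
      rw [Subgroup.mem_centralizer_singleton_iff] at hg ⊢
      calc m⁻¹ * g * m * w = m⁻¹ * (g * (m * w * m⁻¹)) * m := by group
        _ = m⁻¹ * ((m * w * m⁻¹) * g) * m := by rw [hg]
        _ = w * (m⁻¹ * g * m) := by group
    have := TypeSets.typeP_W_le hP' (centralizer_vset hP'.selfNormalizing ⟨hw, hwA, hwC⟩ hc)
    have h2 := mul_mem (mul_mem hm this) (inv_mem hm)
    simpa [mul_assoc] using h2

/-- No maximal subgroup is of type V. -/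
theorem not_V (hG : Cfsg.IsMinSimpleOddOrder G) {M : Subgroup G} (hM : IsCoatom M) :
    ¬ Cfsg.IsOfTypeV M := by
  classical
  intro hV
  obtain ⟨W₁, U, W₂, hP, rfl, hcases⟩ := id hV
  have hP0 := pre_of_minimal hG
  have h : IsType345 M := Or.inr (Or.inr hV)
  have hKH := fittingHallOf_eq_derived hP
  have := Fintype.ofFinite M
  have := Fintype.ofFinite (commutator M)
  set S := setup_of_kernel hP0 hM h hP with hS
  have := finite_ir₁ S
  have := finite_ir₂ S
  have := Fintype.ofFinite (Ir₁ W₁ W₂)
  have := Fintype.ofFinite (Ir₂ W₁ W₂)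
  obtain ⟨F⟩ := exists_fam S
  have hmap : (commutator M).map M.subtype = Cfsg.fittingHallOf M := by rw [hKH, commutator_map]
  let e : commutator M ≃* Cfsg.fittingHallOf M :=
    ((commutator M).equivMapOfInjective M.subtype M.subtype_injective).trans
      (MulEquiv.subgroupCongr hmap)
  have hcard : Nat.card (Cfsg.fittingHallOf M) = Nat.card (commutator M) :=
    (Nat.card_congr e.toEquiv).symm
  haveI hnilH : Group.IsNilpotent (Cfsg.fittingHallOf M) := isNilpotent_fittingHallOf M
  haveI hnil : Group.IsNilpotent (commutator M) :=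
    Group.nilpotent_of_mulEquiv e.symm
  obtain ⟨-, -, -, -, -, -, hp⟩ := partner_II hP0 hM h hP
  set p := Nat.card W₂ with hpdef
  haveI := Fact.mk hp
  have hpd : p ∣ Nat.card (commutator M) := by
    rw [hpdef, ← Nat.card_congr (Subgroup.subgroupOfEquivOfLe S.le₂).toEquiv]
    exact Subgroup.card_dvd_of_le S.le_commutator
  obtain ⟨P, Q, hN⟩ := exists_nilSplit (K := commutator M) p
  set q := Nat.card W₁ with hq
  have hq3 : 3 ≤ q := three_le₁ S
  have hp3 : 3 ≤ p := three_le₂ S
  -- large weight
  have big : ∀ (T : Finset (M → ℂ)) (B : Block F {φ : M → ℂ // φ ∈ T}) (a : {φ : M → ℂ // φ ∈ T}),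
      B.deg a = 1 → (∀ j : Ir₂ W₁ W₂, j ≠ 1 → 2 * F.nn j < ∑ b, (B.deg b : ℤ) ^ 2) → False :=
    fun T B a ha hW => flat_absurd hP0 hM h hP B ha (B.flat_of_weight ha hW)
  by_cases hQ : Q = ⊥
  swap
  · obtain ⟨T, B, a, ha, hW⟩ := levels_block F hN rfl
      (Or.inl (two_mul_add_one_le_index F hN inferInstance hQ))
    exact big T B a ha hW
  subst hQ
  have hPtop : P = ⊤ := by
    have := hN.compl.card_mul_card
    rw [Subgroup.card_bot, mul_one] at this
    exact Subgroup.eq_top_of_card_eq _ this
  have hpK : IsPGroup p (commutator M) := by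
    have h1 : IsPGroup p (⊤ : Subgroup (commutator M)) := hPtop ▸ hN.isP
    exact h1.of_equiv Subgroup.topEquiv
  obtain ⟨n, hn⟩ := hpK.exists_card_eq
  have hr : ∀ r : ℕ, r.Prime → r ∣ Nat.card (Cfsg.fittingHallOf M) → r = p := fun r hr hd => by
    rw [hcard, hn] at hd
    exact (Nat.prime_dvd_prime_iff_eq hr hp).mp (hr.dvd_of_dvd_pow hd)
  rcases hcases with hTI | ⟨r, hr1, hr2, hdvd, -⟩ | ⟨r, hr1, hr2, hcube, hdvd, -⟩
  · obtain ⟨P', hT⟩ := fiveTI_of hG hM hV hP hKH hpK hpd hTI
    have hne : (degSet (M := M) 1).Nonempty := by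
      have hlin := card_linear_le S F
      have h2 : (commutator (commutator M)).index ≠ 1 := fun e' => by
        haveI : Nontrivial (commutator M) := by
          rw [← Finite.one_lt_card_iff_nontrivial]
          exact lt_of_lt_of_le hp.one_lt (Nat.le_of_dvd Nat.card_pos hpd)
        exact (IsSolvable.commutator_lt_top_of_nontrivial (commutator M)).ne
          (Subgroup.index_eq_one.mp e')
      have h3 : 0 < (commutator (commutator M)).index :=
        Nat.pos_of_ne_zero Subgroup.index_ne_zero_of_finite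
      rw [← Finset.card_pos]
      by_contra h0
      rw [show (degSet (M := M) 1).card = 0 by omega, mul_zero] at hlin
      omega
    obtain ⟨B, -, hB⟩ := exists_lin F hne
    obtain ⟨φ, hφ⟩ := hne
    by_cases hcent : ∀ z ∈ W₂.subgroupOf M, ∀ k ∈ commutator M, z * k = k * z
    · obtain ⟨C, hC, hx⟩ := central_flat hT hpdef.symm hcent hB ⟨φ, hφ⟩
      exact flat_absurd hP0 hM h hP C hC hx
    -- the central subgroup
    push Not at hcent
    obtain ⟨w, hw, k, hk, hwk⟩ := hcent
    set Z : Subgroup M := (Subgroup.center (commutator M) ⊓ commutator (commutator M)).map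
      (commutator M).subtype with hZdef
    haveI hZn : Z.Normal := by
      refine ⟨fun a ha g => ?_⟩
      obtain ⟨a, ⟨ha1, ha2⟩, rfl⟩ := ha
      let f : commutator M ≃* commutator M := MulAut.conjNormal g
      refine ⟨f a, ⟨?_, ?_⟩, rfl⟩
      · show f a ∈ Subgroup.center (commutator M)
        rw [← Subgroup.characteristic_iff_map_eq.mp (inferInstance :
          (Subgroup.center (commutator M)).Characteristic) f]
        exact ⟨a, ha1, rfl⟩
      · show f a ∈ commutator (commutator M)
        rw [← Subgroup.characteristic_iff_map_eq.mp (inferInstance :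
          (commutator (commutator M)).Characteristic) f]
        exact ⟨a, ha2, rfl⟩
    have hZc : ∀ z ∈ Z, ∀ x ∈ commutator M, z * x = x * z := by
      rintro _ ⟨a, ⟨ha, -⟩, rfl⟩ x hx
      exact (congrArg Subtype.val (Subgroup.mem_center_iff.mp ha ⟨x, hx⟩)).symm
    have hnab : commutator (commutator M) ≠ ⊥ := fun e' => hwk (by
      have h1 : ⁅(⟨w, S.le_commutator hw⟩ : commutator M), ⟨k, hk⟩⁆ ∈
          commutator (commutator M) :=
        Subgroup.commutator_mem_commutator (Subgroup.mem_top _) (Subgroup.mem_top _)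
      rw [e', Subgroup.mem_bot, commutatorElement_eq_one_iff_mul_comm] at h1
      exact congrArg Subtype.val h1)
    have hZ : CentSub S Z :=
      { normal := hZn
        ne_bot := fun e' => by
          have := CfsgLib.PGroup.inf_center_ne_bot hpK (commutator (commutator M)) hnab
          rw [hZdef, Subgroup.map_eq_bot_iff_of_injective _ (Subgroup.subtype_injective _),
            inf_comm] at e'
          exact this e'
        le := by
          rw [← Subgroup.map_subtype_commutator]
          exact Subgroup.map_mono inf_le_right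
        cent := hZc
        inf := by
          refine (Subgroup.eq_bot_iff_forall _).mpr fun x ⟨hxZ, hxW⟩ => ?_
          by_contra hx1
          have hcW : Nat.card (W₂.subgroupOf M) = p :=
            Nat.card_congr (Subgroup.subgroupOfEquivOfLe S.le₂).toEquiv
          have hgen : Subgroup.zpowers (⟨x, hxW⟩ : W₂.subgroupOf M) = ⊤ :=
            zpowers_eq_top_of_prime_card hcW fun e' => hx1 (congrArg Subtype.val e')
          obtain ⟨i, hi⟩ := Subgroup.mem_zpowers_iff.mp
            (hgen ▸ Subgroup.mem_top (⟨w, hw⟩ : W₂.subgroupOf M))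
          have hwx : x ^ i = w := congrArg Subtype.val hi
          exact hwk (hZc w (hwx ▸ Z.zpow_mem hxZ i) k hk) }
    obtain ⟨D, hD, hx⟩ := noncentral_flat hT hZ hn hB ⟨φ, hφ⟩
    exact flat_absurd hP0 hM h hP D hD hx
  · have hrp := hr r hr1 hr2
    rw [hrp] at hdvd
    obtain ⟨c, hc⟩ := hdvd
    have hpo : Odd p := hp.odd_of_ne_two (by omega)
    have hqo : Odd q := S.odd.of_dvd_nat (Subgroup.card_subgroup_dvd_card W₁)
    have h2 : 2 * q + 1 ≤ p := by
      have hc0 : c ≠ 0 := fun e' => by rw [e', mul_zero] at hc; omega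
      have hc1 : c ≠ 1 := fun e' => by
        rw [e', mul_one] at hc
        obtain ⟨u, hu⟩ := hpo
        obtain ⟨v, hv⟩ := hqo
        omega
      have := Nat.mul_le_mul_left q (show 2 ≤ c by omega)
      omega
    obtain ⟨T, B, a, ha, hW⟩ := levels_block F hN rfl (Or.inr h2)
    exact big T B a ha hW
  · have hrp := hr r hr1 hr2
    rw [hrp] at hdvd hcube
    have hcore : Cfsg.pCore p (Cfsg.fittingHallOf M) = ⊤ := by
      exact top_le_iff.mp
        (le_sSup ⟨inferInstance, (hpK.of_equiv e).of_equiv Subgroup.topEquiv.symm⟩)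
    rw [hcore, Subgroup.card_top, hcard] at hcube
    have h5 : 5 ≤ p := by
      by_contra hc
      have hle := Nat.le_of_dvd (by omega) hdvd
      obtain ⟨v, hv⟩ := S.odd.of_dvd_nat (Subgroup.card_subgroup_dvd_card W₁)
      rcases (show p = 3 ∨ p = 4 by omega) with e' | e'
      · rw [e'] at hdvd hle
        have : q = 3 := by omega
        rw [this] at hdvd
        norm_num at hdvd
      · exact absurd (e' ▸ hp) (by norm_num)
    obtain ⟨T, B, a, ha, hW⟩ := cube_block F hN rfl (by rw [hPtop, Subgroup.card_top, hcube]) h5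
    exact big T B a ha hW

/-- The rank condition on `M_σ`. -/
theorem sigmaRankProp (hG : Cfsg.IsMinSimpleOddOrder G) : PTypeCent.SigmaRankProp G :=
  sigmaRankProp_of hG fun _ hL => not_V hG hL

end CfsgLib.OddChar.Prime
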