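import Cfsg.Agent.Lib.OddChar.Prime.Block

/-!
# The test functions `α_ij` and `α₀` of a block

* `Block.alpha`, `Block.alpha₀`: `e (μ_ij - δ μ_i1) - n ξ` and `e Ind 1 - ξ`;
* their supports, values on `V`, inner products;
* `Block.coef`, `Block.bound`, `Block.bound₂`: Bessel on the `η` and the images.
-/

set_option autoImplicit false

namespace CfsgLib.OddChar.Prime

open CfsgLib.Char CfsgLib.CharNormal
open CfsgLib.OddChar
open scoped ComplexConjugate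

universe u

variable {G : Type u} [Group G] [Fintype G] {M : Subgroup G} {W₁ W₂ : Subgroup G} {A₀ : Set G}
  {R : G → Subgroup G} [Fintype M] {S : Setup M W₁ W₂ A₀ R} {F : Fam S} {ι : Type*} [Fintype ι]
  (B : Block F ι)

omit [Fintype M] in
theorem inv_ne_self₁ (S : Setup M W₁ W₂ A₀ R) {i : Ir₁ W₁ W₂} (hi : i ≠ 1) : i⁻¹ ≠ i := by
  intro e
  refine hi (Subtype.ext (MonoidHom.ext fun w => ?_))
  have h2 : (i.1 w) * (i.1 w) = 1 := by
    have := DFunLike.congr_fun (congrArg Subtype.val e) w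
    simp only [inv_val₁, MonoidHom.inv_apply] at this
    calc i.1 w * i.1 w = i.1 w * (i.1 w)⁻¹ := by rw [this]
      _ = 1 := mul_inv_cancel _
  have hodd : Odd (orderOf w) :=
    S.odd.of_dvd_nat (by rw [← Subgroup.orderOf_coe]; exact orderOf_dvd_natCard _)
  have h3 : orderOf (i.1 w) ∣ Nat.gcd 2 (orderOf w) :=
    Nat.dvd_gcd (orderOf_dvd_of_pow_eq_one (by rw [pow_two, h2])) (orderOf_map_dvd _ _)
  rw [(Nat.coprime_two_left.mpr hodd : Nat.gcd 2 (orderOf w) = 1), Nat.dvd_one,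
    orderOf_eq_one_iff] at h3
  simpa using h3

omit [Fintype G] [Fintype M] in
theorem notMem_W₂ {w : ↥(W₁ ⊔ W₂)} (hw : (w : G) ∈ vset W₁ W₂) : (w : G) ∉ W₂ := hw.2.2

omit [Fintype G] [Fintype M] in
theorem vset_notMem_commutator (S : Setup M W₁ W₂ A₀ R) {w : ↥(W₁ ⊔ W₂)}
    (hw : (w : G) ∈ vset W₁ W₂) : (⟨w, S.le w.2⟩ : M) ∉ commutator M := by
  intro hK
  obtain ⟨π₁, π₂, hπ, hπ₁, hπ₂, e₁, e₂⟩ := CTI.exists_proj S.sn
  have h1 : (⟨π₁ w, S.le (π₁ w).2⟩ : M) ∈ commutator M ⊓ W₁.subgroupOf M := by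
    refine ⟨?_, hπ₁ w⟩
    have : (⟨π₁ w, S.le (π₁ w).2⟩ : M) =
        ⟨w, S.le w.2⟩ * (⟨π₂ w, S.le (π₂ w).2⟩ : M)⁻¹ := by
      apply Subtype.ext
      show (π₁ w : G) = (w : G) * (π₂ w : G)⁻¹
      rw [eq_mul_inv_iff_mul_eq, ← Subgroup.coe_mul, hπ]
    rw [this]
    exact (commutator M).mul_mem hK
      ((commutator M).inv_mem (S.le_commutator (show ((π₂ w : G)) ∈ W₂ from hπ₂ w)))
  rw [S.inf_eq, Subgroup.mem_bot] at h1
  refine hw.2.2 ?_
  have h00 : (π₁ w : G) = 1 := congrArg Subtype.val h1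
  rw [← hπ w, Subgroup.coe_mul, h00, one_mul]
  exact hπ₂ w

theorem Block.off_V (a : ι) {w : ↥(W₁ ⊔ W₂)} (hw : (w : G) ∈ vset W₁ W₂) :
    B.ch a ⟨w, S.le w.2⟩ = 0 := B.off a _ (vset_notMem_commutator S hw)

theorem Block.off_W₁ (a : ι) {w : ↥(W₁ ⊔ W₂)} (h1 : (w : G) ∈ W₁) (h2 : (w : G) ∉ W₂) :
    B.ch a ⟨w, S.le w.2⟩ = 0 := B.off a _ (notMem_commutator S h1 h2)

theorem Block.ch_ne_mu (a : ι) (i : Ir₁ W₁ W₂) (j : Ir₂ W₁ W₂) : B.ch a ≠ F.mu i j := by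
  intro e
  obtain ⟨w, hw⟩ := exists_w_off S
  exact F.mu_val_ne i j w hw.2.2 (by rw [← e, B.off_V a hw])

theorem Block.ch_mu (a : ι) (i : Ir₁ W₁ W₂) (j : Ir₂ W₁ W₂) :
    Cfsg.classInner (B.ch a) (F.mu i j) = 0 ∧ Cfsg.classInner (F.mu i j) (B.ch a) = 0 :=
  ⟨classInner_irr_ne (B.irr a) (F.mu_irr i j) (B.ch_ne_mu a i j),
    classInner_irr_ne (F.mu_irr i j) (B.irr a) (B.ch_ne_mu a i j).symm⟩

theorem Fam.mu_inner (F : Fam S) (i i' : Ir₁ W₁ W₂) (j j' : Ir₂ W₁ W₂)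
    [Decidable (i = i' ∧ j = j')] :
    Cfsg.classInner (F.mu i j) (F.mu i' j') = if i = i' ∧ j = j' then 1 else 0 := by
  split_ifs with h
  · rw [h.1, h.2]; exact classInner_irr_self (F.mu_irr i' j')
  · exact classInner_irr_ne (F.mu_irr i j) (F.mu_irr i' j') fun e => h (F.mu_inj _ _ _ _ e)

/-- `e (μ_ij - δ μ_i1) - n ξ`. -/
noncomputable def Block.alpha (a : ι) (i : Ir₁ W₁ W₂) (j : Ir₂ W₁ W₂) : M → ℂ :=
  (B.deg a : ℂ) • (F.mu i j - (F.sgn j : ℂ) • F.mu i 1) - (F.nn j : ℂ) • B.ch a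

theorem Block.alpha_gen (a : ι) (i : Ir₁ W₁ W₂) (j : Ir₂ W₁ W₂) :
    Cfsg.IsGeneralizedCharacter M (B.alpha a i j) := by
  have h1 : ((B.deg a : ℕ) : ℂ) = (((B.deg a : ℕ) : ℤ) : ℂ) := by simp
  rw [Block.alpha, h1]
  exact isGen_sub (isGen_intCast_smul (isGen_sub (isGen_of_irr (F.mu_irr i j))
    (isGen_intCast_smul (isGen_of_irr (F.mu_irr i 1)) _)) _)
    (isGen_intCast_smul (isGen_of_irr (B.irr a)) _)

theorem Block.alpha_supp (a : ι) (i : Ir₁ W₁ W₂) (j : Ir₂ W₁ W₂) : Supp S (B.alpha a i j) := by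
  refine supp_of (isClassFunction_of_isGen (B.alpha_gen a i j)) ?_ fun w hw hw2 => ?_
  · simp only [Block.alpha, Pi.sub_apply, Pi.smul_apply, smul_eq_mul, B.one,
      F.res_one i (one_mem _)]
    simp only [F.mu_apply_one]
    push_cast
    ring
  · simp only [Block.alpha, Pi.sub_apply, Pi.smul_apply, smul_eq_mul, B.off_W₁ a hw hw2,
      F.mu_val i j w hw2, F.mu_val i 1 w hw2, F.sgn_one, j.2 w hw, one_val₂,
      MonoidHom.one_apply]
    simp

theorem Block.alpha_val (a : ι) (i : Ir₁ W₁ W₂) (j : Ir₂ W₁ W₂) (w : ↥(W₁ ⊔ W₂))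
    (hw : (w : G) ∈ vset W₁ W₂) :
    tau S (B.alpha a i j) w =
      (((B.deg a : ℤ) * F.sgn j : ℤ) : ℂ) * (F.eta i j w - F.eta i 1 w) := by
  rw [tau_val (B.alpha_supp a i j) w hw]
  simp only [Block.alpha, Pi.sub_apply, Pi.smul_apply, smul_eq_mul, B.off_V a hw,
    F.mu_val i j w hw.2.2, F.mu_val i 1 w hw.2.2, F.sgn_one, F.eta_val i j w hw,
    F.eta_val i 1 w hw]
  push_cast
  ring

theorem Block.alpha_norm (a : ι) (i : Ir₁ W₁ W₂) {j : Ir₂ W₁ W₂} (hj : j ≠ 1) :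
    Cfsg.classInner (B.alpha a i j) (B.alpha a i j) =
      ((2 * (B.deg a : ℤ) ^ 2 + F.nn j ^ 2 : ℤ) : ℂ) := by
  classical
  simp only [Block.alpha, classInner_sub_left, classInner_sub_right, classInner_smul_left,
    classInner_smul_right, F.mu_inner, (B.ch_mu a _ _).1, (B.ch_mu a _ _).2,
    classInner_irr_self (B.irr a), map_natCast, map_intCast, hj, Ne.symm hj, and_false, if_false,
    and_self, if_true]
  have hs : (F.sgn j : ℂ) * F.sgn j = 1 := by rcases F.sgn_eq j with h | h <;> simp [h]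
  push_cast
  linear_combination (B.deg a : ℂ) ^ 2 * hs

theorem Block.alpha_ch (a : ι) (i : Ir₁ W₁ W₂) (j : Ir₂ W₁ W₂) {κ : Type*} [Fintype κ]
    (C : Block F κ) (b : κ) :
    Cfsg.classInner (B.alpha a i j) (C.ch b) =
      -(F.nn j : ℂ) * Cfsg.classInner (B.ch a) (C.ch b) := by
  simp only [Block.alpha, classInner_sub_left, classInner_smul_left, (C.ch_mu b _ _).2]
  ring

variable [Fintype (Ir₁ W₁ W₂)]

/-- `e Ind 1 - ξ`. -/
noncomputable def Block.alpha₀ (a : ι) : M → ℂ := (B.deg a : ℂ) • F.muSum 1 - B.ch a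

theorem Block.alpha₀_gen (a : ι) : Cfsg.IsGeneralizedCharacter M (B.alpha₀ a) := by
  have h1 : ((B.deg a : ℕ) : ℂ) = (((B.deg a : ℕ) : ℤ) : ℂ) := by simp
  rw [Block.alpha₀, h1]
  exact isGen_sub (isGen_intCast_smul (isGen_sum _ fun i _ => isGen_of_irr (F.mu_irr i 1)) _)
    (isGen_of_irr (B.irr a))

theorem muSum_one_val {w : ↥(W₁ ⊔ W₂)} (hw : (w : G) ∉ W₂) (F : Fam S) :
    F.muSum 1 ⟨w, S.le w.2⟩ = 0 := by
  classical
  obtain ⟨π₁, π₂, hπ, hπ₁, hπ₂, e₁, e₂⟩ := CTI.exists_proj S.sn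
  have := Fintype.ofFinite ↥(W₁ ⊔ W₂)
  simp only [Fam.muSum, Finset.sum_apply, F.mu_val _ 1 w hw, F.sgn_one, one_val₂,
    MonoidHom.one_apply, Units.val_one, mul_one, Int.cast_one, one_mul]
  obtain ⟨i₀, hi₀⟩ : ∃ i₀ : Ir₁ W₁ W₂, i₀.1 w ≠ 1 := by
    by_contra hall
    push Not at hall
    have hπ1 : π₁ w ≠ 1 := fun e => hw (by rw [← hπ w, e, one_mul]; exact hπ₂ w)
    have hc := CTI.commute_of_mem S.sn
    have := CTI.finite_hom hc
    have := Fintype.ofFinite (↥(W₁ ⊔ W₂) →* ℂˣ)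
    have h := CTI.sum_lin hc (π₁ w)
    rw [if_neg hπ1] at h
    have h1 : ∀ ω : ↥(W₁ ⊔ W₂) →* ℂˣ, CTI.lin ω (π₁ w) = 1 := fun ω => by
      have := hall ⟨ω.comp π₁, fun v hv => by simp [(e₂ v hv).1]⟩
      simp only [MonoidHom.comp_apply] at this
      simp [CTI.lin, this]
    simp [h1] at h
  let e : Ir₁ W₁ W₂ ≃ Ir₁ W₁ W₂ := {
    toFun := fun i => ⟨i₀.1 * i.1, fun v hv => by simp [i₀.2 v hv, i.2 v hv]⟩
    invFun := fun i => ⟨i₀.1⁻¹ * i.1, fun v hv => by simp [i₀.2 v hv, i.2 v hv]⟩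
    left_inv := fun i => Subtype.ext (inv_mul_cancel_left i₀.1 i.1)
    right_inv := fun i => Subtype.ext (mul_inv_cancel_left i₀.1 i.1) }
  have h2 := Equiv.sum_comp e (fun i : Ir₁ W₁ W₂ => (i.1 w : ℂ))
  simp only [e, Equiv.coe_fn_mk, MonoidHom.mul_apply, Units.val_mul, ← Finset.mul_sum] at h2
  by_contra hne
  exact hi₀ (Units.ext (mul_eq_right₀ hne |>.mp h2))

theorem Block.alpha₀_supp (a : ι) : Supp S (B.alpha₀ a) := by
  refine supp_of (isClassFunction_of_isGen (B.alpha₀_gen a)) ?_ fun w hw hw2 => ?_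
  · simp only [Block.alpha₀, Pi.sub_apply, Pi.smul_apply, smul_eq_mul, B.one, Fam.muSum,
      Finset.sum_apply, F.res_one _ (one_mem _), Finset.sum_const, Finset.card_univ,
      ← Nat.card_eq_fintype_card, card_ir₁ S, nsmul_eq_mul]
    ring
  · simp [Block.alpha₀, B.off_W₁ a hw hw2, muSum_one_val hw2 F]

theorem Block.alpha₀_val (a : ι) (w : ↥(W₁ ⊔ W₂)) (hw : (w : G) ∈ vset W₁ W₂) :
    tau S (B.alpha₀ a) w = 0 := by
  rw [tau_val (B.alpha₀_supp a) w hw]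
  simp [Block.alpha₀, B.off_V a hw, muSum_one_val hw.2.2 F]

theorem muSum_inner (F : Fam S) (i : Ir₁ W₁ W₂) (j j' : Ir₂ W₁ W₂) [Decidable (j = j')] :
    Cfsg.classInner (F.muSum j) (F.mu i j') = if j = j' then 1 else 0 := by
  classical
  simp only [Fam.muSum, classInner_sum_left, F.mu_inner]
  by_cases h : j = j' <;> simp [h]

theorem Block.muSum_ch (a : ι) (j : Ir₂ W₁ W₂) : Cfsg.classInner (F.muSum j) (B.ch a) = 0 := by
  simp [Fam.muSum, classInner_sum_left, (B.ch_mu a _ _).2]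

theorem Block.alpha₀_norm (a : ι) :
    Cfsg.classInner (B.alpha₀ a) (B.alpha₀ a) =
      (((B.deg a : ℤ) ^ 2 * Nat.card W₁ + 1 : ℤ) : ℂ) := by
  classical
  have h1 : Cfsg.classInner (F.muSum 1) (F.muSum 1) = (Nat.card W₁ : ℂ) := by
    conv_lhs => arg 2; unfold Fam.muSum
    rw [classInner_sum_right]
    rw [← card_ir₁ S, Nat.card_eq_fintype_card]
    simp [muSum_inner]
  have h2 : Cfsg.classInner (B.ch a) (F.muSum 1) = 0 := by
    rw [← classInner_conj_symm, B.muSum_ch, map_zero]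
  simp only [Block.alpha₀, classInner_sub_left, classInner_sub_right, classInner_smul_left,
    classInner_smul_right, h1, h2, B.muSum_ch, classInner_irr_self (B.irr a), map_natCast]
  push_cast
  ring

theorem Block.alpha₀_ch (a : ι) {κ : Type*} [Fintype κ] (C : Block F κ) (b : κ) :
    Cfsg.classInner (B.alpha₀ a) (C.ch b) = -Cfsg.classInner (B.ch a) (C.ch b) := by
  simp only [Block.alpha₀, classInner_sub_left, classInner_smul_left, C.muSum_ch]
  ring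

/-- `(α₀, α_ij)`. -/
theorem Block.alpha₀_alpha (a : ι) (i : Ir₁ W₁ W₂) {j : Ir₂ W₁ W₂} (hj : j ≠ 1) :
    Cfsg.classInner (B.alpha₀ a) (B.alpha a i j) =
      ((F.nn j - (B.deg a : ℤ) ^ 2 * F.sgn j : ℤ) : ℂ) := by
  classical
  simp only [Block.alpha₀, Block.alpha, classInner_sub_left, classInner_sub_right,
    classInner_smul_left, classInner_smul_right, muSum_inner, B.muSum_ch, (B.ch_mu a _ _).1,
    classInner_irr_self (B.irr a), map_natCast, map_intCast, Ne.symm hj, if_false, if_true]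
  push_cast
  ring

omit [Fintype (Ir₁ W₁ W₂)]

open Classical in
/-- The coefficient on an image. -/
noncomputable def Block.coef (θ : G → ℂ) (b : ι) : ℤ :=
  if h : ∃ z : ℤ, Cfsg.classInner θ (B.img b) = z then h.choose else 0

theorem Block.coef_spec {θ : G → ℂ} (hθ : Cfsg.IsGeneralizedCharacter G θ) (b : ι) :
    Cfsg.classInner θ (B.img b) = (B.coef θ b : ℂ) := by
  have h : ∃ z : ℤ, Cfsg.classInner θ (B.img b) = z := classInner_gen_int hθ (B.gen b)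
  rw [Block.coef, dif_pos h]
  exact h.choose_spec

theorem Block.eta_orth' (a : ι) (i : Ir₁ W₁ W₂) (j : Ir₂ W₁ W₂) :
    Cfsg.classInner (F.eta i j) (B.img a) = 0 := by
  rw [← classInner_conj_symm, B.eta_orth, map_zero]

variable [Fintype (Ir₁ W₁ W₂)] [Fintype (Ir₂ W₁ W₂)]

/-- Bessel on the `η` and one block. -/
theorem Block.bound {θ : G → ℂ} (hθ : Cfsg.IsGeneralizedCharacter G θ) {z : ℤ}
    (hz : Cfsg.classInner θ θ = (z : ℂ)) :
    Prime.sq (F.arr θ) + ∑ b, B.coef θ b ^ 2 ≤ z ∧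
      (Prime.sq (F.arr θ) + ∑ b, B.coef θ b ^ 2 = z →
        θ = ∑ i, ∑ j, (F.arr θ i j : ℂ) • F.eta i j + ∑ b, (B.coef θ b : ℂ) • B.img b) := by
  classical
  let v : (Ir₁ W₁ W₂ × Ir₂ W₁ W₂) ⊕ ι → G → ℂ := Sum.elim (fun p => F.eta p.1 p.2) B.img
  have hon : ∀ x y, Cfsg.classInner (v x) (v y) = if x = y then 1 else 0 := by
    rintro (p | b) (p' | b')
    · simp only [v, Sum.elim_inl, F.eta_inner, Sum.inl.injEq, Prod.ext_iff]
    · simp [v, B.eta_orth']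
    · simp [v, B.eta_orth]
    · simp only [v, Sum.elim_inr, B.img_inner, Sum.inr.injEq]
  have h := bessel_int v (fun x y => by convert hon x y) θ (Sum.elim (fun p => F.arr θ p.1 p.2) (B.coef θ)) (fun x => by
    rcases x with p | b
    · exact F.arr_spec hθ _ _
    · exact B.coef_spec hθ b) hz
  simp only [Fintype.sum_sum_type, Sum.elim_inl, Sum.elim_inr, Fintype.sum_prod_type, v] at h
  exact h

/-- Bessel on the `η` and two disjoint blocks. -/
theorem Block.bound₂ {κ : Type*} [Fintype κ] (C : Block F κ) (hd : ∀ a b, B.ch a ≠ C.ch b)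
    {θ : G → ℂ} (hθ : Cfsg.IsGeneralizedCharacter G θ) {z : ℤ}
    (hz : Cfsg.classInner θ θ = (z : ℂ)) :
    Prime.sq (F.arr θ) + ∑ b, B.coef θ b ^ 2 + ∑ c, C.coef θ c ^ 2 ≤ z := by
  classical
  let v : (Ir₁ W₁ W₂ × Ir₂ W₁ W₂) ⊕ ι ⊕ κ → G → ℂ :=
    Sum.elim (fun p => F.eta p.1 p.2) (Sum.elim B.img C.img)
  have hBC : ∀ a b, Cfsg.classInner (B.img a) (C.img b) = 0 := B.disjoint C hd
  have hCB : ∀ a b, Cfsg.classInner (C.img b) (B.img a) = 0 := fun a b => by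
    rw [← classInner_conj_symm, hBC, map_zero]
  have hon : ∀ x y, Cfsg.classInner (v x) (v y) = if x = y then 1 else 0 := by
    rintro (p | b | c) (p' | b' | c')
    · simp only [v, Sum.elim_inl, F.eta_inner, Sum.inl.injEq, Prod.ext_iff]
    · simp [v, B.eta_orth']
    · simp [v, C.eta_orth']
    · simp [v, B.eta_orth]
    · simp only [v, Sum.elim_inr, Sum.elim_inl, B.img_inner, Sum.inr.injEq, Sum.inl.injEq]
    · simp [v, hBC]
    · simp [v, C.eta_orth]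
    · simp [v, hCB]
    · simp only [v, Sum.elim_inr, C.img_inner, Sum.inr.injEq]
  have h := (bessel_int v (fun x y => by convert hon x y) θ (Sum.elim (fun p => F.arr θ p.1 p.2)
    (Sum.elim (B.coef θ) (C.coef θ))) (fun x => by
    rcases x with p | b | c
    · exact F.arr_spec hθ _ _
    · exact B.coef_spec hθ b
    · exact C.coef_spec hθ c) hz).1
  simp only [Fintype.sum_sum_type, Sum.elim_inl, Sum.elim_inr, Fintype.sum_prod_type] at h
  simp only [Prime.sq]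
  linarith

end CfsgLib.OddChar.Prime
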