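import Mathlib.Algebra.BigOperators.Ring.Finset
import Mathlib.Algebra.Order.BigOperators.Group.Finset
import Mathlib.Data.ZMod.Basic
import Mathlib.Tactic.Linarith
import Mathlib.Tactic.Ring
import Mathlib.Tactic.LinearCombination

/-!
# Integer arrays on the grid `Irr W₁ × Irr W₂`

* `rect_eq_zero`: a rectangle array of square sum at most two is zero;
* `pattern_eq`: rectangle plus `±(E_ij - E_ik)` of square sum at most two has no rectangle part;
* `slack`: lower bound for rectangle plus `e (E_ij - E_ik)`;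
* `col_eq`, `rows_ne_zero`: the first column;
* `sum_even_of_involution`: parity.
-/

set_option autoImplicit false

namespace CfsgLib.OddChar.Prime

variable {I J : Type*} [Fintype I] [Fintype J]

/-- The rectangle rule. -/
def Rect (i₀ : I) (j₀ : J) (a : I → J → ℤ) : Prop :=
  ∀ x y, a x y + a i₀ j₀ = a x j₀ + a i₀ y

/-- The sum of the squares of the entries. -/
def sq (a : I → J → ℤ) : ℤ := ∑ x, ∑ y, a x y ^ 2

theorem sq_nonneg' (a : I → J → ℤ) : 0 ≤ sq a :=
  Finset.sum_nonneg fun _ _ => Finset.sum_nonneg fun _ _ => sq_nonneg _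

theorem one_le_sq {n : ℤ} (h : n ≠ 0) : 1 ≤ n ^ 2 := (pow_two_pos_of_ne_zero h)

variable {i₀ : I} {j₀ : J} {a b : I → J → ℤ}

theorem Rect.diff (ha : Rect i₀ j₀ a) (x x' : I) (y y' : J) :
    a x y - a x y' = a x' y - a x' y' := by
  linarith [ha x y, ha x y', ha x' y, ha x' y']

open Classical in
theorem rect_eq_zero (hI : 3 ≤ Fintype.card I) (hJ : 3 ≤ Fintype.card J) (ha : Rect i₀ j₀ a)
    (hsq : sq a ≤ 2) : ∀ x y, a x y = 0 := by
  have hconst : ∀ x, a x j₀ = a i₀ j₀ := by
    intro x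
    by_contra hne
    have hx : x ≠ i₀ := fun e => hne (by rw [e])
    have h1 : ∀ y, 1 ≤ a x y ^ 2 + a i₀ y ^ 2 := by
      intro y
      rcases eq_or_ne (a i₀ y) 0 with h | h
      · have : a x y ≠ 0 := fun e => hne (by linarith [ha x y])
        nlinarith [one_le_sq this, sq_nonneg (a i₀ y)]
      · nlinarith [one_le_sq h, sq_nonneg (a x y)]
    have h2 : (Fintype.card J : ℤ) ≤ sq a := by
      calc (Fintype.card J : ℤ) = ∑ _y : J, (1 : ℤ) := by simp
        _ ≤ ∑ y, (a x y ^ 2 + a i₀ y ^ 2) := Finset.sum_le_sum fun y _ => h1 y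
        _ = ∑ r ∈ ({x, i₀} : Finset I), ∑ y, a r y ^ 2 := by
          rw [Finset.sum_pair hx, Finset.sum_add_distrib]
        _ ≤ sq a := Finset.sum_le_sum_of_subset_of_nonneg (Finset.subset_univ _)
          fun _ _ _ => Finset.sum_nonneg fun _ _ => sq_nonneg _
    have : (3 : ℤ) ≤ Fintype.card J := by exact_mod_cast hJ
    linarith
  intro x y
  by_contra hne
  have h2 : (Fintype.card I : ℤ) ≤ sq a := by
    calc (Fintype.card I : ℤ) = ∑ _r : I, (1 : ℤ) := by simp
      _ ≤ ∑ r, a r y ^ 2 := Finset.sum_le_sum fun r _ => by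
        refine one_le_sq ?_
        have h : a r y = a x y := by linarith [ha r y, ha x y, hconst r, hconst x]
        rw [h]; exact hne
      _ ≤ sq a := Finset.sum_le_sum fun r _ =>
        Finset.single_le_sum (f := fun y => a r y ^ 2) (fun _ _ => sq_nonneg _) (Finset.mem_univ y)
  have : (3 : ℤ) ≤ Fintype.card I := by exact_mod_cast hI
  linarith

open Classical in
/-- `e (E_ij - E_ik)`. -/
noncomputable def pat (i : I) (j k : J) (e : ℤ) (x : I) (y : J) : ℤ :=
  if x = i then (if y = j then e else 0) - (if y = k then e else 0) else 0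

omit [Fintype I] [Fintype J] in
theorem pat_off {i : I} {j k : J} {e : ℤ} {x : I} (hx : x ≠ i) (y : J) : pat i j k e x y = 0 := by
  simp [pat, hx]

omit [Fintype I] in
open Classical in
theorem two_le_row {x : I} {j k : J} (hjk : j ≠ k) :
    (a x j - a x k) ^ 2 ≤ 2 * ∑ y, a x y ^ 2 := by
  have h : a x j ^ 2 + a x k ^ 2 ≤ ∑ y, a x y ^ 2 := by
    rw [← Finset.sum_pair (f := fun y => a x y ^ 2) hjk]
    exact Finset.sum_le_sum_of_subset_of_nonneg (Finset.subset_univ _) fun _ _ _ => sq_nonneg _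
  nlinarith [sq_nonneg (a x j + a x k)]

open Classical in
/-- Rectangle plus `e (E_ij - E_ik)`. -/
theorem slack_aux (hb : Rect i₀ j₀ b) {i : I} {j k : J} (hjk : j ≠ k) {e : ℤ}
    (hab : ∀ x y, a x y = b x y + pat i j k e x y) :
    ((Fintype.card I : ℤ) - 1) * (b i j - b i k) ^ 2 + (b i j - b i k + 2 * e) ^ 2 ≤ 2 * sq a := by
  have hrow : ∀ x, (if x = i then (b i j - b i k + 2 * e) ^ 2 else (b i j - b i k) ^ 2) ≤
      2 * ∑ y, a x y ^ 2 := by
    intro x
    refine le_trans (le_of_eq ?_) (two_le_row hjk)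
    rw [hab x j, hab x k]
    split_ifs with hx
    · subst hx
      simp [pat, hjk, Ne.symm hjk]
      ring
    · rw [pat_off hx, pat_off hx, add_zero, add_zero, hb.diff x i j k]
  calc ((Fintype.card I : ℤ) - 1) * (b i j - b i k) ^ 2 + (b i j - b i k + 2 * e) ^ 2
      = ∑ x, (if x = i then (b i j - b i k + 2 * e) ^ 2 else (b i j - b i k) ^ 2) := by
        rw [Finset.sum_ite, Finset.filter_eq' Finset.univ i, if_pos (Finset.mem_univ i),
          Finset.filter_ne' Finset.univ i, Finset.sum_singleton, Finset.sum_const, nsmul_eq_mul,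
          Finset.card_erase_of_mem (Finset.mem_univ i), Finset.card_univ]
        rw [Nat.cast_sub (Fintype.card_pos_iff.mpr ⟨i⟩)]
        push_cast
        ring
    _ ≤ ∑ x, 2 * ∑ y, a x y ^ 2 := Finset.sum_le_sum fun x _ => hrow x
    _ = 2 * sq a := by rw [sq, Finset.mul_sum]

/-- `|rect + e (E_ij - E_ik)|² ≥ 2e²(1 - 1/q)`. -/
theorem slack (hb : Rect i₀ j₀ b) {i : I} {j k : J} (hjk : j ≠ k) {e : ℤ}
    (hab : ∀ x y, a x y = b x y + pat i j k e x y) :
    2 * e ^ 2 * ((Fintype.card I : ℤ) - 1) ≤ Fintype.card I * sq a := by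
  have h := slack_aux hb hjk hab
  nlinarith [sq_nonneg ((Fintype.card I : ℤ) * (b i j - b i k) + 2 * e),
    mul_le_mul_of_nonneg_left h (Nat.cast_nonneg (Fintype.card I) : (0 : ℤ) ≤ Fintype.card I)]

open Classical in
theorem pattern_eq (hI : 3 ≤ Fintype.card I) (hJ : 3 ≤ Fintype.card J) (hb : Rect i₀ j₀ b) {i : I}
    {j k : J} (hjk : j ≠ k) {e : ℤ} (he : e = 1 ∨ e = -1)
    (hab : ∀ x y, a x y = b x y + pat i j k e x y) (hsq : sq a ≤ 2) :
    ∀ x y, b x y = 0 := by
  have h := slack_aux hb hjk hab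
  set w := b i j - b i k with hw
  have hI' : (2 : ℤ) ≤ (Fintype.card I : ℤ) - 1 := by
    have : (3 : ℤ) ≤ Fintype.card I := by exact_mod_cast hI
    linarith
  have he2 : e ^ 2 = 1 := by rcases he with rfl | rfl <;> norm_num
  have hw1 : w = 0 := by
    by_contra hne
    have h1 := one_le_sq hne
    -- every row has a nonzero entry
    have hodd : ∀ x, 1 ≤ ∑ y, a x y ^ 2 := by
      intro x
      by_contra hlt
      have h0 : ∀ y, a x y = 0 := fun y => by
        by_contra hy
        exact hlt ((one_le_sq hy).trans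
          (Finset.single_le_sum (f := fun y => a x y ^ 2) (fun _ _ => sq_nonneg _) (Finset.mem_univ y)))
      by_cases hx : x = i
      · have e1 : w + 2 * e = 0 := by
          have hj := hab i j
          have hk := hab i k
          rw [← hx, h0] at hj hk
          simp [pat, hx, hjk, Ne.symm hjk] at hj hk
          linarith
        have h4 : w ^ 2 = 4 := by
          rw [show w = -(2 * e) by linarith, neg_sq, mul_pow, he2]; norm_num
        nlinarith
      · have e1 := hab x j
        have e2 := hab x k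
        rw [h0, pat_off hx] at e1 e2
        exact hne (by rw [hw, ← hb.diff x i j k]; linarith)
    have : (Fintype.card I : ℤ) ≤ sq a := by
      calc (Fintype.card I : ℤ) = ∑ _r : I, (1 : ℤ) := by simp
        _ ≤ sq a := Finset.sum_le_sum fun r _ => hodd r
    linarith
  -- the row `i` takes everything
  have hrow : 2 ≤ ∑ y, a i y ^ 2 := by
    have h2 := two_le_row (a := a) (x := i) hjk
    have hd : a i j - a i k = 2 * e := by
      rw [hab, hab]
      simp [pat, hjk, Ne.symm hjk]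
      linarith
    rw [hd] at h2
    nlinarith
  have hzero : ∀ x, x ≠ i → ∀ y, a x y = 0 := by
    intro x hx y
    by_contra hy
    have h3 : ∑ r ∈ ({i, x} : Finset I), ∑ y, a r y ^ 2 ≤ sq a :=
      Finset.sum_le_sum_of_subset_of_nonneg (Finset.subset_univ _)
        fun _ _ _ => Finset.sum_nonneg fun _ _ => sq_nonneg _
    rw [Finset.sum_pair (Ne.symm hx)] at h3
    have h4 := (one_le_sq hy).trans
      (Finset.single_le_sum (f := fun y => a x y ^ 2) (fun _ _ => sq_nonneg _) (Finset.mem_univ y))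
    linarith
  have hb0 : ∀ x, x ≠ i → ∀ y, b x y = 0 := fun x hx y => by
    have := hab x y
    rw [hzero x hx y, pat_off hx, add_zero] at this
    exact this.symm
  obtain ⟨x₁, hx₁⟩ := Fintype.exists_ne_of_one_lt_card (by omega : 1 < Fintype.card I) i
  obtain ⟨y₁, -, hy₁⟩ : ∃ y ∈ (Finset.univ : Finset J), y ∉ ({j, k} : Finset J) :=
    Finset.exists_mem_notMem_of_card_lt_card (by
      rw [Finset.card_univ]
      exact lt_of_le_of_lt Finset.card_le_two (by omega))
  simp only [Finset.mem_insert, Finset.mem_singleton, not_or] at hy₁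
  have hi1 : b i y₁ = 0 := by
    by_contra hy
    have ha1 : a i y₁ ≠ 0 := by rw [hab]; simpa [pat, hy₁.1, hy₁.2] using hy
    have h3 : ∑ y ∈ ({y₁, j, k} : Finset J), a i y ^ 2 ≤ ∑ y, a i y ^ 2 :=
      Finset.sum_le_sum_of_subset_of_nonneg (Finset.subset_univ _) fun _ _ _ => sq_nonneg _
    have h4 : ∑ y, a i y ^ 2 ≤ sq a :=
      Finset.single_le_sum (f := fun x => ∑ y, a x y ^ 2)
        (fun _ _ => Finset.sum_nonneg fun _ _ => sq_nonneg _) (Finset.mem_univ i)
    rw [Finset.sum_insert (by simp [hy₁.1, hy₁.2]), Finset.sum_pair hjk] at h3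
    have hd : a i j - a i k = 2 * e := by
      rw [hab, hab]
      simp [pat, hjk, Ne.symm hjk]
      linarith
    have hd2 : (a i j - a i k) ^ 2 = 4 := by rw [hd, mul_pow, he2]; norm_num
    nlinarith [one_le_sq ha1, sq_nonneg (a i j + a i k)]
  intro x y
  by_cases hx : x = i
  · subst hx
    linarith [hb.diff x x₁ y y₁, hb0 x₁ hx₁ y, hb0 x₁ hx₁ y₁]
  · exact hb0 x hx y

open Classical in
/-- The first column, from the bound `q`. -/
theorem col_eq (hJ : 3 ≤ Fintype.card J) (ha : Rect i₀ j₀ a) (h00 : a i₀ j₀ = 1)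
    (hrow : ∀ x, ∃ y, a x y ≠ 0) (hsq : sq a ≤ Fintype.card I) :
    (∀ x y, a x y = if y = j₀ then 1 else 0) ∧ sq a = Fintype.card I := by
  have hge : ∀ x, 1 ≤ ∑ y, a x y ^ 2 := fun x => by
    obtain ⟨y, hy⟩ := hrow x
    exact (one_le_sq hy).trans
      (Finset.single_le_sum (f := fun y => a x y ^ 2) (fun _ _ => sq_nonneg _) (Finset.mem_univ y))
  have hsum : (∑ _x : I, (1 : ℤ)) = Fintype.card I := by simp
  have heq : ∀ x, ∑ y, a x y ^ 2 = 1 := by
    intro x
    by_contra hne
    have hlt : 1 < ∑ y, a x y ^ 2 := lt_of_le_of_ne (hge x) (Ne.symm hne)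
    have h5 : (∑ _x : I, (1 : ℤ)) < sq a :=
      Finset.sum_lt_sum (fun r _ => hge r) ⟨x, Finset.mem_univ x, hlt⟩
    linarith
  have h0 : ∀ y, y ≠ j₀ → a i₀ y = 0 := by
    intro y hy
    have h3 : ∑ z ∈ ({j₀, y} : Finset J), a i₀ z ^ 2 ≤ 1 := by
      rw [← heq i₀]
      exact Finset.sum_le_sum_of_subset_of_nonneg (Finset.subset_univ _) fun _ _ _ => sq_nonneg _
    rw [Finset.sum_pair (Ne.symm hy), h00] at h3
    have := sq_nonneg (a i₀ y)
    exact pow_eq_zero_iff (two_ne_zero) |>.mp (by linarith : a i₀ y ^ 2 = 0)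
  have hcol : ∀ x, a x j₀ = 1 := by
    intro x
    by_contra hne
    obtain ⟨y₁, y₂, hy₁, hy₂, hy12⟩ : ∃ y₁ y₂ : J, y₁ ≠ j₀ ∧ y₂ ≠ j₀ ∧ y₁ ≠ y₂ := by
      have : 1 < (Finset.univ.erase j₀).card := by
        rw [Finset.card_erase_of_mem (Finset.mem_univ _), Finset.card_univ]; omega
      obtain ⟨y₁, h₁, y₂, h₂, h12⟩ := Finset.one_lt_card.mp this
      exact ⟨y₁, y₂, Finset.ne_of_mem_erase h₁, Finset.ne_of_mem_erase h₂, h12⟩
    have h3 : ∑ z ∈ ({y₁, y₂} : Finset J), a x z ^ 2 ≤ 1 := by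
      rw [← heq x]
      exact Finset.sum_le_sum_of_subset_of_nonneg (Finset.subset_univ _) fun _ _ _ => sq_nonneg _
    rw [Finset.sum_pair hy12] at h3
    have e1 : a x y₁ ≠ 0 := fun e => hne (by linarith [ha x y₁, h0 y₁ hy₁])
    have e2 : a x y₂ ≠ 0 := fun e => hne (by linarith [ha x y₂, h0 y₂ hy₂])
    linarith [one_le_sq e1, one_le_sq e2]
  refine ⟨fun x y => ?_, ?_⟩
  · split_ifs with hy
    · rw [hy]; exact hcol x
    · linarith [ha x y, hcol x, h0 y hy]
  · rw [sq, Finset.sum_congr rfl fun x _ => heq x, hsum]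

open Classical in
/-- No row is zero when there are more columns than the bound. -/
theorem rows_ne_zero (ha : Rect i₀ j₀ a) (h00 : a i₀ j₀ = 1) (hsq : sq a < Fintype.card J) :
    ∀ x, ∃ y, a x y ≠ 0 := by
  intro x
  by_contra hall
  push Not at hall
  have h1 : ∀ y, a i₀ y = 1 := fun y => by linarith [ha x y, hall y, hall j₀]
  have : (Fintype.card J : ℤ) ≤ sq a := by
    calc (Fintype.card J : ℤ) = ∑ y, a i₀ y ^ 2 := by simp [h1]
      _ ≤ sq a := Finset.single_le_sum (f := fun x => ∑ y, a x y ^ 2)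
        (fun _ _ => Finset.sum_nonneg fun _ _ => sq_nonneg _) (Finset.mem_univ i₀)
  linarith

open Classical in
/-- A function invariant under an involution with one fixed point. -/
theorem sum_even_of_involution {α : Type*} [Fintype α] (x₀ : α) (σ : α → α)
    (hinv : ∀ x, σ (σ x) = x) (hfix : ∀ x, σ x = x → x = x₀) (h₀ : σ x₀ = x₀) (f : α → ℤ)
    (hf : ∀ x, f (σ x) = f x) : (2 : ℤ) ∣ (∑ x, f x) - f x₀ := by
  rw [← Finset.add_sum_erase _ _ (Finset.mem_univ x₀), add_sub_cancel_left]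
  have h : ((∑ x ∈ Finset.univ.erase x₀, f x : ℤ) : ZMod 2) = 0 := by
    push_cast
    refine Finset.sum_involution (fun x _ => σ x) (fun x _ => ?_) (fun x hx _ => ?_)
      (fun x hx => ?_) (fun x _ => hinv x)
    · rw [hf]; exact CharTwo.add_self_eq_zero _
    · exact fun e => Finset.ne_of_mem_erase hx (hfix x e)
    · refine Finset.mem_erase.mpr ⟨fun e => Finset.ne_of_mem_erase hx ?_, Finset.mem_univ _⟩
      rw [← hinv x, e, h₀]
  exact_mod_cast (ZMod.intCast_zmod_eq_zero_iff_dvd _ 2).mp h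

end CfsgLib.OddChar.Prime
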