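import Cfsg.Agent.Lib.OddChar.Prime.Setup
import Cfsg.Agent.Lib.CharNormal.Kernel
import Cfsg.Agent.Lib.Char.Integral
import Cfsg.Agent.Lib.OddChar.Coherence
import Cfsg.Agent.Lib.OddChar.PairBessel
import Cfsg.Agent.S1513

/-!
# The characters μ and η of a prime Dade setting

* `card_ir₁`, `card_ir₂`, `three_le₁`, `three_le₂`;
* `mu_one_one`, `sgn_one`, `mu_apply_one`, `mu_conj`, `eta_conj`;
* `muSum`, `indFun_res`, `exists_eq_res`, `mem_cases`: the members of `inducedIrrAbove (commutator M) ⊥`;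
* `two_le_nn`: `d = δ + n q` with `n ≥ 2` even.
-/

set_option autoImplicit false

namespace CfsgLib.OddChar.Prime

open CfsgLib.Char CfsgLib.CharNormal
open CfsgLib.OddChar

universe u

variable {G : Type u} [Group G] [Fintype G] {M : Subgroup G} {W₁ W₂ : Subgroup G} {A₀ : Set G}
  {R : G → Subgroup G} {S : Setup M W₁ W₂ A₀ R}

theorem finite_ir₁ (S : Setup M W₁ W₂ A₀ R) : Finite (Ir₁ W₁ W₂) := by
  have := Fintype.ofFinite ↥(W₁ ⊔ W₂)
  have := CTI.finite_hom (CTI.commute_of_mem S.sn)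
  infer_instance

theorem finite_ir₂ (S : Setup M W₁ W₂ A₀ R) : Finite (Ir₂ W₁ W₂) := by
  have := Fintype.ofFinite ↥(W₁ ⊔ W₂)
  have := CTI.finite_hom (CTI.commute_of_mem S.sn)
  infer_instance

theorem card_ir₁ (S : Setup M W₁ W₂ A₀ R) : Nat.card (Ir₁ W₁ W₂) = Nat.card W₁ := by
  obtain ⟨π₁, π₂, hπ, hπ₁, hπ₂, e₁, e₂⟩ := CTI.exists_proj S.sn
  refine CTI.card_trivial W₁ W₂ le_sup_left (CTI.commute_of_mem S.sn) π₁ hπ₁
    (fun w hw => (e₁ w hw).1) (fun w hw => (e₂ w hw).1) fun φ hφ => MonoidHom.ext fun w => ?_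
  conv_rhs => rw [← hπ w]
  simp [hφ _ (hπ₂ w)]

theorem card_ir₂ (S : Setup M W₁ W₂ A₀ R) : Nat.card (Ir₂ W₁ W₂) = Nat.card W₂ := by
  obtain ⟨π₁, π₂, hπ, hπ₁, hπ₂, e₁, e₂⟩ := CTI.exists_proj S.sn
  refine CTI.card_trivial W₂ W₁ le_sup_right (CTI.commute_of_mem S.sn) π₂ hπ₂
    (fun w hw => (e₂ w hw).2) (fun w hw => (e₁ w hw).2) fun φ hφ => MonoidHom.ext fun w => ?_
  conv_rhs => rw [← hπ w]
  simp [hφ _ (hπ₁ w)]

theorem three_le_card {H : Subgroup G} (hodd : Odd (Nat.card G)) (h : H ≠ ⊥) : 3 ≤ Nat.card H := by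
  have h1 : 1 < Nat.card H := (Subgroup.one_lt_card_iff_ne_bot H).mpr h
  obtain ⟨k, hk⟩ := hodd.of_dvd_nat (Subgroup.card_subgroup_dvd_card H)
  omega

theorem three_le₁ (S : Setup M W₁ W₂ A₀ R) : 3 ≤ Nat.card W₁ := three_le_card S.odd S.ne₁

theorem three_le₂ (S : Setup M W₁ W₂ A₀ R) : 3 ≤ Nat.card W₂ := three_le_card S.odd S.ne₂

theorem odd_M (S : Setup M W₁ W₂ A₀ R) : Odd (Nat.card M) := S.odd_sub M

theorem inv_inv₁ (i : Ir₁ W₁ W₂) : i⁻¹⁻¹ = i := Subtype.ext (inv_inv i.1)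

theorem inv_inv₂ (j : Ir₂ W₁ W₂) : j⁻¹⁻¹ = j := Subtype.ext (inv_inv j.1)

omit [Fintype G] in
theorem ir₂_eq_one {j : Ir₂ W₁ W₂} (h : ∀ w : ↥(W₁ ⊔ W₂), (w : G) ∈ W₂ → j.1 w = 1)
    [Finite G] : j = 1 := by
  have := Fintype.ofFinite ↥(W₁ ⊔ W₂)
  exact Subtype.ext (CTI.hom_eq_one j.2 h)

theorem inv_ne_self₂ (S : Setup M W₁ W₂ A₀ R) {j : Ir₂ W₁ W₂} (hj : j ≠ 1) : j⁻¹ ≠ j := by
  intro e
  refine hj (Subtype.ext (MonoidHom.ext fun w => ?_))
  have h2 : (j.1 w) * (j.1 w) = 1 := by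
    have := DFunLike.congr_fun (congrArg Subtype.val e) w
    simp only [inv_val₂, MonoidHom.inv_apply] at this
    calc j.1 w * j.1 w = j.1 w * (j.1 w)⁻¹ := by rw [this]
      _ = 1 := mul_inv_cancel _
  have hodd : Odd (orderOf w) :=
    S.odd.of_dvd_nat (by rw [← Subgroup.orderOf_coe]; exact orderOf_dvd_natCard _)
  have h3 : orderOf (j.1 w) ∣ Nat.gcd 2 (orderOf w) :=
    Nat.dvd_gcd (orderOf_dvd_of_pow_eq_one (by rw [pow_two, h2])) (orderOf_map_dvd _ _)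
  rw [(Nat.coprime_two_left.mpr hodd : Nat.gcd 2 (orderOf w) = 1), Nat.dvd_one,
    orderOf_eq_one_iff] at h3
  simpa using h3

variable (F : Fam S)

/-- The degree datum `n` of a column. -/
noncomputable def Fam.nn (j : Ir₂ W₁ W₂) : ℤ := Classical.choose (F.mu_deg 1 j)

theorem Fam.mu_apply_one (i : Ir₁ W₁ W₂) (j : Ir₂ W₁ W₂) :
    F.mu i j 1 = ((F.sgn j + F.nn j * Nat.card W₁ : ℤ) : ℂ) := by
  have h := Classical.choose_spec (F.mu_deg 1 j)
  rw [F.mu_res i 1 j 1 (one_mem _)]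
  push_cast
  rw [Fam.nn, ← h]
  ring

/-- A value at an element of `W₁ # W₂`. -/
theorem Fam.mu_val_ne (i : Ir₁ W₁ W₂) (j : Ir₂ W₁ W₂) (w : ↥(W₁ ⊔ W₂)) (hw : (w : G) ∉ W₂) :
    F.mu i j ⟨w, S.le w.2⟩ ≠ 0 := by
  rw [F.mu_val i j w hw]
  refine mul_ne_zero ?_ (mul_ne_zero (Units.ne_zero _) (Units.ne_zero _))
  rcases F.sgn_eq j with h | h <;> simp [h]

theorem exists_w_off (S : Setup M W₁ W₂ A₀ R) : ∃ w : ↥(W₁ ⊔ W₂), (w : G) ∈ vset W₁ W₂ := by
  obtain ⟨a, ha, ha1⟩ := exists_mem_ne_one S.ne₁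
  obtain ⟨b, hb, hb1⟩ := exists_mem_ne_one S.ne₂
  exact ⟨⟨a * b, mul_mem (Subgroup.mem_sup_left ha) (Subgroup.mem_sup_right hb)⟩,
    mul_mem_vset S.sn.2.2.1 ha hb ha1 hb1⟩

/-- An irreducible character with the values of `f ω` off `W₂` is a `μ`. -/
theorem Fam.eq_mu (θ : M → ℂ) (hθ : Cfsg.IsIrrCharacter M θ) (i : Ir₁ W₁ W₂) (j : Ir₂ W₁ W₂)
    (f : ℤ) (hf : f ≠ 0)
    (hval : ∀ w : ↥(W₁ ⊔ W₂), (w : G) ∈ vset W₁ W₂ →
      θ ⟨w, S.le w.2⟩ = f * ((i.1 w : ℂ) * (j.1 w : ℂ))) :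
    θ = F.mu i j ∧ F.sgn j = f := by
  obtain ⟨i', j', e⟩ : ∃ i' j', θ = F.mu i' j' := by
    by_contra h
    push Not at h
    obtain ⟨w, hw⟩ := exists_w_off S
    have h0 := F.mu_only θ hθ h w hw.2.2
    rw [hval w hw] at h0
    simp [hf] at h0
  subst e
  have hs0 : (F.sgn j' : ℂ) ≠ 0 := by rcases F.sgn_eq j' with h | h <;> simp [h]
  obtain ⟨e1, e2⟩ := lin_eq_of_vset (W₁ := W₁) (W₂ := W₂) S.odd S.sn (ν := i'.1 * j'.1)
    (ω := i.1 * j.1) hs0 (g := (f : ℂ)) fun w hw => by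
      rw [MonoidHom.mul_apply, MonoidHom.mul_apply, Units.val_mul, Units.val_mul,
        ← F.mu_val i' j' w hw.2.2, hval w hw]
  have := Fintype.ofFinite ↥(W₁ ⊔ W₂)
  obtain ⟨a, b⟩ := CTI.hom_ext_of_sup i'.2 i.2 j'.2 j.2 e2
  obtain rfl : i' = i := Subtype.ext a
  obtain rfl : j' = j := Subtype.ext b
  exact ⟨rfl, by exact_mod_cast e1⟩

theorem Fam.mu_one_one : F.mu 1 1 = (fun _ => 1) ∧ F.sgn 1 = 1 := by
  obtain ⟨h1, h2⟩ := F.eq_mu (fun _ => 1) isIrrCharacter_one 1 1 1 one_ne_zero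
    (fun w _ => by simp)
  exact ⟨h1.symm, h2⟩

theorem Fam.sgn_one : F.sgn 1 = 1 := F.mu_one_one.2

theorem Fam.res_one (i : Ir₁ W₁ W₂) {k : M} (hk : k ∈ commutator M) : F.mu i 1 k = 1 := by
  rw [F.mu_res i 1 1 k hk, F.mu_one_one.1]

/-- Complex conjugation on the μ. -/
theorem Fam.mu_conj (i : Ir₁ W₁ W₂) (j : Ir₂ W₁ W₂) :
    Cfsg.conjFun (F.mu i j) = F.mu i⁻¹ j⁻¹ ∧ F.sgn j⁻¹ = F.sgn j := by
  have := Fintype.ofFinite M
  have hc : Cfsg.IsIrrCharacter M (Cfsg.conjFun (F.mu i j)) :=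
    PairBessel.isIrr_conjFun (F.mu_irr i j)
  refine F.eq_mu _ hc i⁻¹ j⁻¹ (F.sgn j) ?_ fun w hw => ?_
  · rcases F.sgn_eq j with h | h <;> simp [h]
  · have hchar := isCharacter_of_isIrr (F.mu_irr i j)
    show starRingEnd ℂ _ = _
    rw [← char_inv hchar]
    have hw' : ((w⁻¹ : ↥(W₁ ⊔ W₂)) : G) ∉ W₂ := fun h => hw.2.2 (by simpa using h)
    rw [show (⟨(w : G), S.le w.2⟩ : M)⁻¹ = ⟨((w⁻¹ : ↥(W₁ ⊔ W₂)) : G), S.le (w⁻¹).2⟩ from
      Subtype.ext rfl, F.mu_val i j w⁻¹ hw']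
    simp

theorem Fam.sgn_inv (j : Ir₂ W₁ W₂) : F.sgn j⁻¹ = F.sgn j := (F.mu_conj 1 j).2

/-- Complex conjugation on the η. -/
theorem Fam.eta_conj (i : Ir₁ W₁ W₂) (j : Ir₂ W₁ W₂) :
    Cfsg.conjFun (F.eta i j) = F.eta i⁻¹ j⁻¹ := by
  classical
  have := finite_ir₁ S
  have := finite_ir₂ S
  obtain ⟨s, hs, hirr⟩ : ∃ s : ℤ, (s = 1 ∨ s = -1) ∧
      Cfsg.IsIrrCharacter G ((s : ℂ) • F.eta i j) := by
    rcases F.eta_irr i j with h | h
    · exact ⟨1, Or.inl rfl, by simpa using h⟩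
    · exact ⟨-1, Or.inr rfl, by simpa using h⟩
  set θ := Cfsg.conjFun ((s : ℂ) • F.eta i j) with hθdef
  have hθ : Cfsg.IsIrrCharacter G θ := PairBessel.isIrr_conjFun hirr
  have hθv : ∀ w : ↥(W₁ ⊔ W₂), (w : G) ∈ vset W₁ W₂ →
      θ w = s * ((i⁻¹.1 w : ℂ) * (j⁻¹.1 w : ℂ)) := by
    intro w hw
    show starRingEnd ℂ _ = _
    rw [← char_inv (isCharacter_of_isIrr hirr)]
    have hw' : ((w⁻¹ : ↥(W₁ ⊔ W₂)) : G) ∈ vset W₁ W₂ :=
      ⟨by simp, fun h => hw.2.1 (by simpa using h), fun h => hw.2.2 (by simpa using h)⟩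
    rw [show ((w : G))⁻¹ = ((w⁻¹ : ↥(W₁ ⊔ W₂)) : G) from rfl, Pi.smul_apply, smul_eq_mul,
      F.eta_val i j w⁻¹ hw']
    simp
  obtain ⟨i', j', hne⟩ : ∃ i' j', Cfsg.classInner θ (F.eta i' j') ≠ 0 := by
    by_contra h
    push Not at h
    obtain ⟨w, hw⟩ := exists_w_off S
    have h0 := F.eta_cover θ hθ h w hw
    rw [hθv w hw] at h0
    rcases hs with rfl | rfl <;> simp at h0
  obtain ⟨f, hf, hfe⟩ : ∃ f : ℤ, f ≠ 0 ∧ θ = (f : ℂ) • F.eta i' j' := by
    rcases F.eta_irr i' j' with h | h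
    · by_cases e : θ = F.eta i' j'
      · exact ⟨1, one_ne_zero, by simpa using e⟩
      · exact absurd (classInner_irr_ne hθ h e) hne
    · by_cases e : θ = -F.eta i' j'
      · exact ⟨-1, by norm_num, by simpa using e⟩
      · have := classInner_irr_ne hθ h e
        rw [classInner_neg_right, neg_eq_zero] at this
        exact absurd this hne
  obtain ⟨e1, e2⟩ := lin_eq_of_vset (W₁ := W₁) (W₂ := W₂) S.odd S.sn (ν := i'.1 * j'.1)
    (ω := i⁻¹.1 * j⁻¹.1) (f := (f : ℂ)) (by exact_mod_cast hf) (g := (s : ℂ)) fun w hw => by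
      rw [MonoidHom.mul_apply, MonoidHom.mul_apply, Units.val_mul, Units.val_mul, ← hθv w hw, hfe,
        Pi.smul_apply, smul_eq_mul, F.eta_val i' j' w hw]
  have := Fintype.ofFinite ↥(W₁ ⊔ W₂)
  obtain ⟨a, b⟩ := CTI.hom_ext_of_sup i'.2 i⁻¹.2 j'.2 j⁻¹.2 e2
  obtain rfl : i' = i⁻¹ := Subtype.ext a
  obtain rfl : j' = j⁻¹ := Subtype.ext b
  funext x
  have := congrFun hfe x
  simp only [hθdef, Cfsg.conjFun, Pi.smul_apply, smul_eq_mul, map_mul, map_intCast, e1] at this ⊢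
  exact mul_left_cancel₀ (by rcases hs with rfl | rfl <;> simp) this

variable [Fintype M] [Fintype (Ir₁ W₁ W₂)]

/-- `μ_j = Σ_i μ_ij`. -/
def Fam.muSum (j : Ir₂ W₁ W₂) : M → ℂ := ∑ i, F.mu i j

theorem Fam.mu_orth {i i' : Ir₁ W₁ W₂} {j j' : Ir₂ W₁ W₂} (h : (i, j) ≠ (i', j')) :
    Cfsg.classInner (F.mu i j) (F.mu i' j') = 0 :=
  classInner_irr_ne (F.mu_irr i j) (F.mu_irr i' j') fun e => h (by
    obtain ⟨a, b⟩ := F.mu_inj _ _ _ _ e; rw [a, b])

variable [Fintype (commutator M)]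

/-- The invariant characters of `K` are the restrictions of the μ. -/
theorem Fam.res_irr (j : Ir₂ W₁ W₂) :
    Cfsg.IsIrrCharacter (commutator M) (fun k => F.mu 1 j k) ∧
      Cfsg.indFun (commutator M) (fun k => F.mu 1 j k) = F.muSum j := by
  classical
  have := Fintype.ofFinite ↥(W₁.subgroupOf M ⊔ W₂.subgroupOf M)
  have h13 := Cfsg.Agent.S1513.result (commutator M) (W₁.subgroupOf M) (W₂.subgroupOf M)
    S.inf_eq S.sup_eq (subgroupOf_ne_bot S.le₁ S.ne₁) S.semi.cyclic₁ S.semi.hall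
    (subgroupOf_ne_bot S.le₂ S.ne₂) S.semi.cyclic₂ S.le_commutator S.cent
    ((odd_M S).of_dvd_nat (Subgroup.card_subgroup_dvd_card _))
  obtain ⟨hirr, -, hfix⟩ := h13
  have hres : Cfsg.IsCharacter (commutator M) (fun k => F.mu 1 j k) :=
    isCharacter_res _ (isCharacter_of_isIrr (F.mu_irr 1 j))
  have h1 : (fun k : commutator M => F.mu 1 j k) ≠ 0 := fun e =>
    irr_one_ne_zero (F.mu_irr 1 j) (congrFun e 1)
  obtain ⟨θf, hθI, hθ0⟩ := exists_constituent hres h1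
  let θ : Cfsg.IrrCharacter (commutator M) := ⟨θf, hθI⟩
  have hinn : ∀ i : Ir₁ W₁ W₂,
      Cfsg.classInner (Cfsg.indFun (commutator M) (θ : commutator M → ℂ)) (F.mu i j) ≠ 0 := by
    intro i
    rw [frobenius_reciprocity _ _ (isClassFunction_of_isIrr (F.mu_irr i j)),
      show (fun k : commutator M => F.mu i j k) = fun k : commutator M => F.mu 1 j k from
        funext fun k => F.mu_res i 1 j k k.2, ← classInner_conj_symm]
    intro h
    exact hθ0 (by simpa using h)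
  obtain ⟨a, ha, ha1⟩ := exists_mem_ne_one S.ne₁
  let w : ↥(W₁ ⊔ W₂) := ⟨a, Subgroup.mem_sup_left ha⟩
  have hw : (w : G) ∉ W₂ := fun h => ha1 (by
    have : a ∈ W₁ ⊓ W₂ := ⟨ha, h⟩
    rwa [S.sn.2.2.1, Subgroup.mem_bot] at this)
  have hinv : ∀ x ∈ W₁.subgroupOf M, (fun k : commutator M => (θ : commutator M → ℂ)
      ⟨x * k * x⁻¹, (inferInstance : (commutator M).Normal).conj_mem (k : M) k.2 x⟩) = θ := by
    by_contra hc
    push Not at hc
    have hI := hirr θ θ.2 hc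
    have e : Cfsg.indFun (commutator M) (θ : commutator M → ℂ) = F.mu 1 j := by
      by_contra hne
      exact hinn 1 (classInner_irr_ne hI (F.mu_irr 1 j) hne)
    refine F.mu_val_ne 1 j w hw ?_
    rw [← e, indFun_apply, Finset.sum_eq_zero, mul_zero]
    intro y _
    refine extendByZero_of_notMem _ fun hy => ?_
    have : (⟨w, S.le w.2⟩ : M) ∈ commutator M ⊓ W₁.subgroupOf M := ⟨by
      have := (inferInstance : (commutator M).Normal).conj_mem _ hy y
      simpa [mul_assoc] using this, ha⟩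
    rw [S.inf_eq, Subgroup.mem_bot] at this
    exact ha1 (congrArg Subtype.val this)
  obtain ⟨C, hCcard, hCirr, hCind⟩ := hfix θ θ.2 hinv
  have hmem : ∀ i : Ir₁ W₁ W₂, F.mu i j ∈ C := by
    intro i
    by_contra hn
    refine hinn i ?_
    rw [hCind, classInner_sum_left]
    exact Finset.sum_eq_zero fun ν hν =>
      classInner_irr_ne (hCirr ν hν) (F.mu_irr i j) fun e => hn (e ▸ hν)
  have hCeq : C = Finset.univ.image fun i => F.mu i j := by
    refine (Finset.eq_of_subset_of_card_le (fun ν hν => ?_) ?_).symm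
    · obtain ⟨i, -, rfl⟩ := Finset.mem_image.mp hν
      exact hmem i
    · rw [hCcard, Finset.card_image_of_injective _ fun i i' e => (F.mu_inj _ _ _ _ e).1,
        Finset.card_univ, ← Nat.card_eq_fintype_card, card_ir₁ S,
        Nat.card_congr (Subgroup.subgroupOfEquivOfLe S.le₁).toEquiv]
  have hind : Cfsg.indFun (commutator M) (θ : commutator M → ℂ) = F.muSum j := by
    rw [hCind, hCeq, Finset.sum_image fun i _ i' _ e => (F.mu_inj _ _ _ _ e).1]
    rfl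
  -- degrees force equality
  have hidx : ((commutator M).index : ℂ) = (Nat.card W₁ : ℂ) := by
    have hc : Subgroup.IsComplement' (commutator M) (W₁.subgroupOf M) :=
      Subgroup.isComplement'_of_disjoint_and_mul_eq_univ (disjoint_iff.mpr S.inf_eq)
        (by rw [← Subgroup.normal_mul, S.sup_eq, Subgroup.coe_top])
    rw [hc.symm.index_eq_card, Nat.card_congr (Subgroup.subgroupOfEquivOfLe S.le₁).toEquiv]
  have hdeg : (θ : commutator M → ℂ) 1 = F.mu 1 j 1 := by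
    have h := congrFun hind 1
    rw [indFun_one, hidx] at h
    simp only [Fam.muSum, Finset.sum_apply] at h
    rw [Finset.sum_congr rfl fun i _ => F.mu_res i 1 j 1 (one_mem _), Finset.sum_const,
      Finset.card_univ, ← Nat.card_eq_fintype_card, card_ir₁ S, nsmul_eq_mul] at h
    exact mul_left_cancel₀ (Nat.cast_ne_zero.mpr (Nat.card_pos (α := W₁)).ne') h
  obtain ⟨m, hm, -⟩ := char_decomp hres
  have hθeq : (fun k : commutator M => F.mu 1 j k) = θ := by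
    have hsum := congrFun hm 1
    simp only [Finset.sum_apply, Pi.smul_apply, smul_eq_mul] at hsum
    rw [show F.mu 1 j ((1 : commutator M) : M) = (θ : commutator M → ℂ) 1 from hdeg.symm] at hsum
    choose d hd hd1 using fun χ : Cfsg.IrrCharacter (commutator M) => exists_degree_pos χ.2
    simp only [hd1] at hsum
    have hsum' : d θ = ∑ χ, m χ * d χ := by exact_mod_cast hsum
    have hmθ : 1 ≤ m θ := by
      rcases Nat.eq_zero_or_pos (m θ) with h0 | h0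
      · exfalso
        refine hθ0 ?_
        rw [hm, classInner_sum_left, Finset.sum_eq_zero]
        intro χ _
        rw [classInner_smul_left]
        by_cases e : χ = θ
        · simp [e, h0]
        · rw [classInner_irr_ne χ.2 θ.2 fun e' => e (Subtype.ext e'), mul_zero]
      · exact h0
    rw [← Finset.add_sum_erase _ _ (Finset.mem_univ θ)] at hsum'
    have h2 : 1 * d θ ≤ m θ * d θ := Nat.mul_le_mul_right _ hmθ
    have hmθ1 : m θ = 1 := by
      refine le_antisymm (Nat.le_of_mul_le_mul_right (a := m θ) (b := 1) (c := d θ) ?_ (hd θ)) hmθ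
      omega
    have hrest : ∀ χ ∈ Finset.univ.erase θ, m χ = 0 := by
      intro χ hχ
      have h3 : ∑ χ ∈ Finset.univ.erase θ, m χ * d χ = 0 := by rw [hmθ1] at hsum'; omega
      rcases Nat.mul_eq_zero.mp ((Finset.sum_eq_zero_iff).mp h3 χ hχ) with h | h
      · exact h
      · exact absurd h (hd χ).ne'
    rw [hm, Finset.sum_eq_single θ (fun χ _ hne => by simp [hrest χ (by simp [hne])]) (by simp),
      hmθ1]
    simp
  exact ⟨hθeq ▸ θ.2, by rw [hθeq]; exact hind⟩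

/-- An invariant irreducible character of `K` is the restriction of a `μ`. -/
theorem Fam.exists_eq_res [Fintype (Ir₂ W₁ W₂)] {θ : commutator M → ℂ}
    (hθ : Cfsg.IsIrrCharacter (commutator M) θ)
    (hinv : ∀ x ∈ W₁.subgroupOf M, (fun k : commutator M =>
      θ ⟨x * k * x⁻¹, (inferInstance : (commutator M).Normal).conj_mem (k : M) k.2 x⟩) = θ) :
    ∃ j : Ir₂ W₁ W₂, (fun k : commutator M => F.mu 1 j k) = θ := by
  classical
  have := Fintype.ofFinite ↥(W₁.subgroupOf M ⊔ W₂.subgroupOf M)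
  have h13 := Cfsg.Agent.S1513.result (commutator M) (W₁.subgroupOf M) (W₂.subgroupOf M)
    S.inf_eq S.sup_eq (subgroupOf_ne_bot S.le₁ S.ne₁) S.semi.cyclic₁ S.semi.hall
    (subgroupOf_ne_bot S.le₂ S.ne₂) S.semi.cyclic₂ S.le_commutator S.cent
    ((odd_M S).of_dvd_nat (Subgroup.card_subgroup_dvd_card _))
  obtain ⟨-, hcount, -⟩ := h13
  let Fix := {φ : Cfsg.IrrCharacter (commutator M) //
    ∀ x ∈ W₁.subgroupOf M, (fun k : commutator M => (φ : commutator M → ℂ)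
      ⟨x * k * x⁻¹, (inferInstance : (commutator M).Normal).conj_mem (k : M) k.2 x⟩) = φ}
  let f : Ir₂ W₁ W₂ → Fix := fun j => ⟨⟨_, (F.res_irr j).1⟩, fun x _ => by
    funext k
    exact isClassFunction_of_isIrr (F.mu_irr 1 j) (k : M) x⟩
  have hfinj : Function.Injective f := fun j j' e => by
    have e1 : (fun k : commutator M => F.mu 1 j k) = fun k : commutator M => F.mu 1 j' k :=
      congrArg (fun φ : Fix => (φ.1 : commutator M → ℂ)) e
    by_contra hne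
    have h1 : Cfsg.classInner (F.muSum j) (F.mu 1 j) = 0 := by
      rw [← (F.res_irr j).2, e1, (F.res_irr j').2, Fam.muSum, classInner_sum_left]
      exact Finset.sum_eq_zero fun i _ => F.mu_orth (by simp [Ne.symm hne])
    rw [Fam.muSum, classInner_sum_left, Finset.sum_eq_single 1
      (fun i _ hi => F.mu_orth (by simp [hi])) (by simp),
      classInner_irr_self (F.mu_irr 1 j)] at h1
    exact one_ne_zero h1
  have hbij : Function.Bijective f := by
    refine (Nat.bijective_iff_injective_and_card f).mpr ⟨hfinj, ?_⟩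
    rw [card_ir₂ S, hcount, Nat.card_congr (Subgroup.subgroupOfEquivOfLe S.le₂).toEquiv]
  obtain ⟨j, hj⟩ := hbij.2 ⟨⟨θ, hθ⟩, hinv⟩
  exact ⟨j, congrArg (fun φ : Fix => (φ.1 : commutator M → ℂ)) hj⟩

/-- The members of `S(M)`. -/
theorem Fam.mem_cases [Fintype (Ir₂ W₁ W₂)] {χ : M → ℂ}
    (h : χ ∈ Cfsg.inducedIrrAbove (commutator M) ⊥) :
    (Cfsg.IsIrrCharacter M χ ∧ ∀ i j, χ ≠ F.mu i j) ∨
      ∃ j : Ir₂ W₁ W₂, j ≠ 1 ∧ χ = F.muSum j := by
  classical
  have := Fintype.ofFinite ↥(W₁.subgroupOf M ⊔ W₂.subgroupOf M)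
  obtain ⟨θ, hθ, hθ1, -, rfl⟩ := h
  have h13 := Cfsg.Agent.S1513.result (commutator M) (W₁.subgroupOf M) (W₂.subgroupOf M)
    S.inf_eq S.sup_eq (subgroupOf_ne_bot S.le₁ S.ne₁) S.semi.cyclic₁ S.semi.hall
    (subgroupOf_ne_bot S.le₂ S.ne₂) S.semi.cyclic₂ S.le_commutator S.cent
    ((odd_M S).of_dvd_nat (Subgroup.card_subgroup_dvd_card _))
  obtain ⟨hirr, -, -⟩ := h13
  by_cases hinv : ∀ x ∈ W₁.subgroupOf M, (fun k : commutator M =>
      θ ⟨x * k * x⁻¹, (inferInstance : (commutator M).Normal).conj_mem (k : M) k.2 x⟩) = θ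
  · right
    obtain ⟨j, hj'⟩ := F.exists_eq_res hθ hinv
    refine ⟨j, ?_, by rw [← hj']; exact (F.res_irr j).2⟩
    rintro rfl
    exact hθ1 (by rw [← hj']; exact funext fun k => F.res_one 1 k.2)
  · left
    push Not at hinv
    refine ⟨hirr θ hθ hinv, fun i j e => ?_⟩
    obtain ⟨a, ha, ha1⟩ := exists_mem_ne_one S.ne₁
    let w : ↥(W₁ ⊔ W₂) := ⟨a, Subgroup.mem_sup_left ha⟩
    have hw : (w : G) ∉ W₂ := fun h => ha1 (by
      have : a ∈ W₁ ⊓ W₂ := ⟨ha, h⟩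
      rwa [S.sn.2.2.1, Subgroup.mem_bot] at this)
    refine F.mu_val_ne i j w hw ?_
    rw [← e, indFun_apply, Finset.sum_eq_zero, mul_zero]
    intro y _
    refine extendByZero_of_notMem _ fun hy => ?_
    have : (⟨w, S.le w.2⟩ : M) ∈ commutator M ⊓ W₁.subgroupOf M := ⟨by
      have := (inferInstance : (commutator M).Normal).conj_mem _ hy y
      simpa [mul_assoc] using this, ha⟩
    rw [S.inf_eq, Subgroup.mem_bot] at this
    exact ha1 (congrArg Subtype.val this)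

omit [Fintype M] [Fintype (Ir₁ W₁ W₂)] [Fintype (commutator M)] in
/-- `d = δ + n q` with `n ≥ 2` even, for a nontrivial column. -/
theorem Fam.two_le_nn {j : Ir₂ W₁ W₂} (hj : j ≠ 1) :
    2 ≤ F.nn j ∧ Even (F.nn j) ∧ 2 * (Nat.card W₁ : ℤ) - 1 ≤ F.sgn j + F.nn j * Nat.card W₁ ∧
      Odd (F.sgn j + F.nn j * Nat.card W₁) := by
  classical
  have := Fintype.ofFinite M
  obtain ⟨d, hd, hd1⟩ := exists_degree_pos (F.mu_irr 1 j)
  have hdd : (d : ℤ) = F.sgn j + F.nn j * Nat.card W₁ := by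
    have := F.mu_apply_one 1 j
    rw [hd1] at this
    exact_mod_cast this
  have hdodd : Odd d := (odd_M S).of_dvd_nat (degree_dvd_card (F.mu_irr 1 j) hd1)
  have hdne : d ≠ 1 := by
    rintro rfl
    refine hj (ir₂_eq_one fun w hw => ?_)
    have hχ := isCharacter_of_isIrr (F.mu_irr 1 j)
    have h11 : F.mu 1 j 1 = 1 := by simpa using hd1
    let f := linearHom hχ h11
    have hle : commutator M ≤ f.ker := Abelianization.commutator_subset_ker f
    have hy : (⟨w, S.le w.2⟩ : M) ∈ f.ker :=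
      hle (Subgroup.commutator_le_left (commutator M) _ (S.le_derived₂ hw))
    obtain ⟨a, ha, ha1⟩ := exists_mem_ne_one S.ne₁
    let x : ↥(W₁ ⊔ W₂) := ⟨a, Subgroup.mem_sup_left ha⟩
    have hx : (x : G) ∉ W₂ := fun h => ha1 (by
      have : a ∈ W₁ ⊓ W₂ := ⟨ha, h⟩
      rwa [S.sn.2.2.1, Subgroup.mem_bot] at this)
    have hxw : ((x * w : ↥(W₁ ⊔ W₂)) : G) ∉ W₂ := fun h => hx (by
      have := mul_mem h (inv_mem hw)
      simpa using this)
    have e1 := F.mu_val 1 j (x * w) hxw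
    rw [show (⟨((x * w : ↥(W₁ ⊔ W₂)) : G), S.le (x * w).2⟩ : M) =
      (⟨x, S.le x.2⟩ : M) * ⟨w, S.le w.2⟩ from rfl, linear_map_mul hχ h11,
      F.mu_val 1 j x hx] at e1
    have hker : F.mu 1 j ⟨w, S.le w.2⟩ = 1 := by
      have := congrArg Units.val (MonoidHom.mem_ker.mp hy)
      simpa [f, linearHom_apply] using this
    rw [hker, mul_one, map_mul, map_mul, Units.val_mul, Units.val_mul, one_val₁] at e1
    simp only [MonoidHom.one_apply, Units.val_one, one_mul] at e1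
    have hs : (F.sgn j : ℂ) ≠ 0 := by rcases F.sgn_eq j with h | h <;> simp [h]
    have e2 := mul_left_cancel₀ hs e1
    exact Units.ext (mul_eq_left₀ (Units.ne_zero _) |>.mp e2.symm)
  have hq := three_le₁ S
  have hqodd : Odd (Nat.card W₁) := S.odd_sub W₁
  obtain ⟨a, ha⟩ := hdodd
  obtain ⟨b, hb⟩ := hqodd
  have hd3 : (3 : ℤ) ≤ d := by omega
  have hq' : (3 : ℤ) ≤ Nat.card W₁ := by exact_mod_cast hq
  have hs : F.sgn j ≤ 1 ∧ -1 ≤ F.sgn j := by rcases F.sgn_eq j with h | h <;> omega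
  have hn1 : 1 ≤ F.nn j := by
    by_contra hn
    push Not at hn
    have : F.nn j * (Nat.card W₁ : ℤ) ≤ 0 :=
      mul_nonpos_of_nonpos_of_nonneg (by omega) (by omega)
    omega
  have heven : Even (F.nn j) := by
    rcases Int.even_or_odd (F.nn j) with h | ⟨c, hc⟩
    · exact h
    · exfalso
      have hprod : F.nn j * (Nat.card W₁ : ℤ) = 2 * (2 * c * b + c + b) + 1 := by
        rw [hc, hb]; push_cast; ring
      rcases F.sgn_eq j with h | h <;> omega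
  have hn2 : 2 ≤ F.nn j := by
    obtain ⟨c, hc⟩ := heven
    omega
  refine ⟨hn2, heven, ?_, ?_⟩
  · have : 2 * (Nat.card W₁ : ℤ) ≤ F.nn j * Nat.card W₁ :=
      mul_le_mul_of_nonneg_right hn2 (by omega)
    omega
  · rw [← hdd]; exact ⟨a, by omega⟩

end CfsgLib.OddChar.Prime
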