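import Cfsg.Agent.Lib.OddChar.Prime.Tau
import Cfsg.Agent.S1517
import Cfsg.Agent.S1518
import Cfsg.Agent.Lib.Char.PermLemma

/-!
# Coherent blocks of irreducible characters and their images

* `unit_cases`, `bessel_int`: integer Bessel inequality;
* `Block`, `Block.link_eq`, `Block.eta_orth`, `Block.img_conj`, `Block.prop`, `Block.disjoint`;
* `exists_block`: from coherence; `exists_block_equal`: from equal degrees.
-/

set_option autoImplicit false

namespace CfsgLib.OddChar.Prime

open CfsgLib.Char CfsgLib.CharNormal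
open CfsgLib.OddChar
open scoped ComplexConjugate

universe u

variable {G : Type u} [Group G] [Fintype G]

/-- Two virtual characters of norm one are orthogonal or equal up to sign. -/
theorem unit_cases {A B : G → ℂ} (hA : Cfsg.IsGeneralizedCharacter G A)
    (hA1 : Cfsg.classInner A A = 1) (hB : Cfsg.IsGeneralizedCharacter G B)
    (hB1 : Cfsg.classInner B B = 1) : Cfsg.classInner A B = 0 ∨ A = B ∨ A = -B := by
  rcases gen_norm_one hA hA1 with hA' | hA' <;> rcases gen_norm_one hB hB1 with hB' | hB'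
  · by_cases e : A = B
    · exact Or.inr (Or.inl e)
    · exact Or.inl (classInner_irr_ne hA' hB' e)
  · by_cases e : A = -B
    · exact Or.inr (Or.inr e)
    · refine Or.inl ?_
      have := classInner_irr_ne hA' hB' e
      rwa [classInner_neg_right, neg_eq_zero] at this
  · by_cases e : A = -B
    · exact Or.inr (Or.inr e)
    · refine Or.inl ?_
      have := classInner_irr_ne hA' hB' fun h => e (by rw [← h, neg_neg])
      rwa [classInner_neg_left, neg_eq_zero] at this
  · by_cases e : A = B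
    · exact Or.inr (Or.inl e)
    · refine Or.inl ?_
      have := classInner_irr_ne hA' hB' fun h => e (neg_inj.mp h)
      rwa [classInner_neg_left, classInner_neg_right, neg_neg] at this

theorem unit_one_ne {A : G → ℂ} (hA : Cfsg.IsGeneralizedCharacter G A)
    (hA1 : Cfsg.classInner A A = 1) : A 1 ≠ 0 := by
  rcases gen_norm_one hA hA1 with h | h
  · exact irr_one_ne_zero h
  · intro e
    exact irr_one_ne_zero h (by simp [e])

/-- Bessel with integer coefficients. -/
theorem bessel_int {ι : Type*} [Fintype ι] [DecidableEq ι] (v : ι → G → ℂ)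
    (hon : ∀ a b, Cfsg.classInner (v a) (v b) = if a = b then 1 else 0) (θ : G → ℂ) (c : ι → ℤ)
    (hc : ∀ a, Cfsg.classInner θ (v a) = (c a : ℂ)) {z : ℤ}
    (hz : Cfsg.classInner θ θ = (z : ℂ)) :
    ∑ a, c a ^ 2 ≤ z ∧ (∑ a, c a ^ 2 = z → θ = ∑ a, (c a : ℂ) • v a) := by
  set P : G → ℂ := ∑ a, (c a : ℂ) • v a with hP
  have hPv : ∀ a, Cfsg.classInner P (v a) = (c a : ℂ) := by
    intro a
    rw [hP, classInner_sum_left, Finset.sum_eq_single a
      (fun b _ hb => by rw [classInner_smul_left, hon, if_neg hb, mul_zero]) (by simp),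
      classInner_smul_left, hon, if_pos rfl, mul_one]
  have hθP : Cfsg.classInner θ P = ((∑ a, c a ^ 2 : ℤ) : ℂ) := by
    rw [hP, classInner_sum_right]
    push_cast
    exact Finset.sum_congr rfl fun a _ => by rw [classInner_smul_right, hc, map_intCast, pow_two]
  have hPP : Cfsg.classInner P P = ((∑ a, c a ^ 2 : ℤ) : ℂ) := by
    conv_lhs => arg 2; rw [hP]
    rw [classInner_sum_right]
    push_cast
    exact Finset.sum_congr rfl fun a _ => by rw [classInner_smul_right, hPv, map_intCast, pow_two]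
  have hPθ : Cfsg.classInner P θ = ((∑ a, c a ^ 2 : ℤ) : ℂ) := by
    rw [← classInner_conj_symm, hθP, map_intCast]
  have hd : Cfsg.classInner (θ - P) (θ - P) = ((z - ∑ a, c a ^ 2 : ℤ) : ℂ) := by
    rw [classInner_sub_left, classInner_sub_right, classInner_sub_right, hz, hθP, hPP, hPθ]
    push_cast
    ring
  refine ⟨?_, fun he => sub_eq_zero.mp (eq_zero_of_classInner_self_eq_zero (by
    rw [hd, he, sub_self, Int.cast_zero]))⟩
  have h0 := Coh.nsq_nonneg (θ - P)
  rw [Coh.nsq, hd, Complex.intCast_re, ← Int.cast_zero, Int.cast_le] at h0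
  linarith

variable {M : Subgroup G} {W₁ W₂ : Subgroup G} {A₀ : Set G} {R : G → Subgroup G} [Fintype M]
  {S : Setup M W₁ W₂ A₀ R}

omit [Fintype G] [Fintype M] in
theorem notMem_commutator (S : Setup M W₁ W₂ A₀ R) {w : ↥(W₁ ⊔ W₂)} (h1 : (w : G) ∈ W₁)
    (h2 : (w : G) ∉ W₂) : (⟨w, S.le w.2⟩ : M) ∉ commutator M := fun hK => by
  have : (⟨w, S.le w.2⟩ : M) ∈ commutator M ⊓ W₁.subgroupOf M := ⟨hK, h1⟩
  rw [S.inf_eq, Subgroup.mem_bot] at this
  exact h2 (by rw [congrArg Subtype.val this]; exact one_mem W₂)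

/-- Class functions vanishing at one and off `K`. -/
theorem supp_off {α : M → ℂ} (hα : Cfsg.IsClassFunction M α) (h1 : α 1 = 0)
    (hoff : ∀ x : M, x ∉ commutator M → α x = 0) : Supp S α :=
  supp_of hα h1 fun _ hw hw2 => hoff _ (notMem_commutator S hw hw2)

/-- A coherent set of irreducible characters with its images. -/
structure Block (F : Fam S) (ι : Type*) [Fintype ι] where
  ch : ι → M → ℂ
  deg : ι → ℕ
  img : ι → G → ℂ
  cj : ι → ι
  irr : ∀ a, Cfsg.IsIrrCharacter M (ch a)
  inj : Function.Injective ch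
  cj_ch : ∀ a, ch (cj a) = Cfsg.conjFun (ch a)
  cj_ne : ∀ a, cj a ≠ a
  one : ∀ a, ch a 1 = (deg a : ℂ) * (Nat.card W₁ : ℂ)
  off : ∀ a, ∀ x : M, x ∉ commutator M → ch a x = 0
  gen : ∀ a, Cfsg.IsGeneralizedCharacter G (img a)
  self : ∀ a, Cfsg.classInner (img a) (img a) = 1
  ortho : ∀ a b, a ≠ b → Cfsg.classInner (img a) (img b) = 0
  link : ∀ a b, tau S ((deg b : ℂ) • ch a - (deg a : ℂ) • ch b) =
    (deg b : ℂ) • img a - (deg a : ℂ) • img b

variable {F : Fam S} {ι : Type*} [Fintype ι] (B : Block F ι)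

theorem Block.deg_pos (a : ι) : 0 < B.deg a :=
  Nat.pos_of_ne_zero fun h => irr_one_ne_zero (B.irr a) (by rw [B.one, h]; simp)

theorem Block.supp_link (a b : ι) :
    Supp S ((B.deg b : ℂ) • B.ch a - (B.deg a : ℂ) • B.ch b) :=
  supp_off (fun g c => by
      simp only [Pi.sub_apply, Pi.smul_apply, isClassFunction_of_isIrr (B.irr a) g c,
        isClassFunction_of_isIrr (B.irr b) g c])
    (by simp [B.one]; ring) fun x hx => by simp [B.off _ x hx]

theorem Block.deg_cj (a : ι) : B.deg (B.cj a) = B.deg a := by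
  have h := B.one (B.cj a)
  rw [B.cj_ch, Cfsg.conjFun, B.one, map_mul, map_natCast, map_natCast] at h
  have hq : (Nat.card W₁ : ℂ) ≠ 0 := Nat.cast_ne_zero.mpr Nat.card_pos.ne'
  exact_mod_cast (mul_right_cancel₀ hq h).symm

theorem Block.supp_diff {a b : ι} (h : B.deg a = B.deg b) : Supp S (B.ch a - B.ch b) :=
  supp_off (fun g c => by
      simp only [Pi.sub_apply, isClassFunction_of_isIrr (B.irr a) g c,
        isClassFunction_of_isIrr (B.irr b) g c])
    (by simp [B.one, h]) fun x hx => by simp [B.off _ x hx]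

theorem Block.link_eq {a b : ι} (h : B.deg a = B.deg b) :
    tau S (B.ch a - B.ch b) = B.img a - B.img b := by
  have e := B.link a b
  rw [h, ← smul_sub, ← smul_sub, tau_smul] at e
  exact smul_right_injective _ (Nat.cast_ne_zero.mpr (B.deg_pos b).ne') e

theorem Block.ch_inner [DecidableEq ι] (a b : ι) :
    Cfsg.classInner (B.ch a) (B.ch b) = if a = b then 1 else 0 := by
  split_ifs with h
  · rw [h]; exact classInner_irr_self (B.irr b)
  · exact classInner_irr_ne (B.irr a) (B.irr b) fun e => h (B.inj e)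

theorem Block.img_inner [DecidableEq ι] (a b : ι) :
    Cfsg.classInner (B.img a) (B.img b) = if a = b then 1 else 0 := by
  split_ifs with h
  · rw [h]; exact B.self b
  · exact B.ortho a b h

/-- The images are orthogonal to the `η`. -/
theorem Block.eta_orth (a : ι) (i : Ir₁ W₁ W₂) (j : Ir₂ W₁ W₂) :
    Cfsg.classInner (B.img a) (F.eta i j) = 0 := by
  classical
  have := finite_ir₁ S
  have := finite_ir₂ S
  have := Fintype.ofFinite (Ir₁ W₁ W₂)
  have := Fintype.ofFinite (Ir₂ W₁ W₂)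
  set b := B.cj a with hb
  have hd : B.deg a = B.deg b := (B.deg_cj a).symm
  set D := B.img a - B.img b with hD
  have hDg : Cfsg.IsGeneralizedCharacter G D := isGen_sub (B.gen a) (B.gen b)
  have hDV : ∀ w : ↥(W₁ ⊔ W₂), (w : G) ∈ vset W₁ W₂ → D w = 0 := by
    intro w hw
    rw [hD, ← B.link_eq hd, tau_val (B.supp_diff hd) w hw]
    obtain ⟨g, hg⟩ : ∃ x : M, x = ⟨w, S.le w.2⟩ := ⟨_, rfl⟩
    have hK : (⟨w, S.le w.2⟩ : M) ∉ commutator M := by
      intro hK
      obtain ⟨π₁, π₂, hπ, hπ₁, hπ₂, e₁, e₂⟩ := CTI.exists_proj S.sn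
      have h2 : (⟨π₂ w, S.le (π₂ w).2⟩ : M) ∈ commutator M :=
        S.le_commutator (show ((π₂ w : G)) ∈ W₂ from hπ₂ w)
      have h1 : (⟨π₁ w, S.le (π₁ w).2⟩ : M) ∈ commutator M := by
        have : (⟨π₁ w, S.le (π₁ w).2⟩ : M) =
            ⟨w, S.le w.2⟩ * (⟨π₂ w, S.le (π₂ w).2⟩ : M)⁻¹ := by
          apply Subtype.ext
          show (π₁ w : G) = (w : G) * (π₂ w : G)⁻¹
          rw [eq_mul_inv_iff_mul_eq, ← Subgroup.coe_mul, hπ]
        rw [this]
        exact mul_mem hK (inv_mem h2)
      have h0 : (⟨π₁ w, S.le (π₁ w).2⟩ : M) ∈ commutator M ⊓ W₁.subgroupOf M :=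
        ⟨h1, hπ₁ w⟩
      rw [S.inf_eq, Subgroup.mem_bot] at h0
      refine hw.2.2 ?_
      have h00 : (π₁ w : G) = 1 := congrArg Subtype.val h0
      rw [← hπ w, Subgroup.coe_mul, h00, one_mul]
      exact hπ₂ w
    simp [B.off _ _ hK]
  have hsq : sq (F.arr D) ≤ 2 := by
    have := (bessel_int (fun p : Ir₁ W₁ W₂ × Ir₂ W₁ W₂ => F.eta p.1 p.2)
      (fun p q => by rw [F.eta_inner]; simp [Prod.ext_iff]) D (fun p => F.arr D p.1 p.2)
      (fun p => F.arr_spec hDg _ _) (z := 2) (by
        rw [hD, classInner_sub_left, classInner_sub_right, classInner_sub_right, B.img_inner,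
          B.img_inner, B.img_inner, B.img_inner]
        simp [hb, B.cj_ne a, (B.cj_ne a).symm]; norm_num)).1
    rwa [Fintype.sum_prod_type] at this
  have h0 := rect_eq_zero (by rw [← Nat.card_eq_fintype_card, card_ir₁ S]; exact three_le₁ S)
    (by rw [← Nat.card_eq_fintype_card, card_ir₂ S]; exact three_le₂ S) (F.rect_of hDg hDV) hsq i j
  have e := F.arr_spec hDg i j
  rw [h0, Int.cast_zero, hD, classInner_sub_left, sub_eq_zero] at e
  rcases unit_cases (B.gen a) (B.self a) (F.eta_gen i j) (F.eta_self i j) with h | h | h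
  · exact h
  all_goals
    exfalso
    rw [h] at e
    have h2 : Cfsg.classInner (B.img b) (B.img a) = 0 := B.ortho b a (B.cj_ne a)
    rw [h] at h2
    simp only [classInner_neg_left, classInner_neg_right, F.eta_self, neg_eq_zero] at e h2
    rw [h2] at e
    norm_num at e

/-- Conjugation commutes with the images. -/
theorem Block.img_conj (a : ι) : Cfsg.conjFun (B.img a) = B.img (B.cj a) := by
  classical
  set b := B.cj a with hb
  have hd : B.deg b = B.deg a := B.deg_cj a
  set A := B.img a with hA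
  set A' := B.img b with hA'
  have e : Cfsg.conjFun A - Cfsg.conjFun A' = A' - A := by
    rw [← B.link_eq hd]
    have h := congrArg Cfsg.conjFun (B.link_eq hd.symm)
    rw [← tau_conj] at h
    have h2 : Cfsg.conjFun (B.ch a - B.ch b) = B.ch b - B.ch a := by
      rw [hb, B.cj_ch]
      funext x
      simp [Cfsg.conjFun]
    rw [h2] at h
    rw [h]
    funext x
    simp [Cfsg.conjFun, hA, hA']
  have hgc : ∀ {f : G → ℂ}, Cfsg.IsGeneralizedCharacter G f → Cfsg.classInner f f = 1 →
      Cfsg.IsGeneralizedCharacter G (Cfsg.conjFun f) ∧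
        Cfsg.classInner (Cfsg.conjFun f) (Cfsg.conjFun f) = 1 := by
    intro f hf h1
    refine ⟨?_, by rw [Coh.classInner_conjFun, h1, map_one]⟩
    rcases gen_norm_one hf h1 with h | h
    · exact isGen_of_irr (PairBessel.isIrr_conjFun h)
    · have := isGen_neg (isGen_of_irr (PairBessel.isIrr_conjFun h))
      have e : -Cfsg.conjFun (-f) = Cfsg.conjFun f := by funext x; simp [Cfsg.conjFun]
      rwa [e] at this
  obtain ⟨g1, n1⟩ := hgc (B.gen a) (B.self a)
  obtain ⟨g2, n2⟩ := hgc (B.gen b) (B.self b)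
  have hone : ∀ {f : G → ℂ}, Cfsg.IsGeneralizedCharacter G f → Cfsg.conjFun f 1 = f 1 := by
    intro f hf
    obtain ⟨z, hz⟩ := gen_one_int hf
    simp [Cfsg.conjFun, hz]
  have key := congrArg (fun f => Cfsg.classInner f A) e
  simp only [classInner_sub_left] at key
  rw [show Cfsg.classInner A' A = 0 from B.ortho b a (B.cj_ne a),
    show Cfsg.classInner A A = 1 from B.self a] at key
  rcases unit_cases g2 n2 (B.gen a) (B.self a) with h | h | h
  · rw [h, sub_zero, zero_sub] at key
    rcases unit_cases g1 n1 (B.gen a) (B.self a) with h' | h' | h'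
    · rw [h'] at key; norm_num at key
    · rw [h', B.self a] at key; norm_num at key
    · exfalso
      have h1 := congrFun h' 1
      rw [hone (B.gen a)] at h1
      simp only [Pi.neg_apply] at h1
      exact unit_one_ne (B.gen a) (B.self a) (by linear_combination h1 / 2)
  · rw [show A = Cfsg.conjFun A' from h.symm, Coh.conjFun_conjFun]
  · exfalso
    have h1 := congrFun h 1
    rw [hone (B.gen b)] at h1
    have h2 := congrFun (B.link_eq hd) 1
    rw [tau_apply_one] at h2
    simp only [Pi.sub_apply, Pi.neg_apply] at h1 h2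
    exact unit_one_ne (B.gen a) (B.self a) (by linear_combination h1 / 2 + h2 / 2)

/-- `((τα, img) - (α, ch))` is proportional to the degree. -/
theorem Block.prop {α : M → ℂ} (hα : Supp S α) (a b : ι) :
    (B.deg b : ℂ) * (Cfsg.classInner (tau S α) (B.img a) - Cfsg.classInner α (B.ch a)) =
      (B.deg a : ℂ) * (Cfsg.classInner (tau S α) (B.img b) - Cfsg.classInner α (B.ch b)) := by
  have h := tau_inner hα (B.supp_link a b)
  rw [B.link, classInner_sub_right, classInner_sub_right, classInner_smul_right,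
    classInner_smul_right, classInner_smul_right, classInner_smul_right] at h
  simp only [map_natCast] at h
  linear_combination h

/-- Disjoint blocks have orthogonal images. -/
theorem Block.disjoint {κ : Type*} [Fintype κ] (C : Block F κ) (h : ∀ a b, B.ch a ≠ C.ch b)
    (a : ι) (b : κ) : Cfsg.classInner (B.img a) (C.img b) = 0 := by
  classical
  have hBa := B.deg_cj a
  have hCb := C.deg_cj b
  have h0 := tau_inner (B.supp_diff hBa.symm) (C.supp_diff hCb.symm)
  rw [B.link_eq hBa.symm, C.link_eq hCb.symm] at h0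
  have hz : ∀ x y, Cfsg.classInner (B.ch x) (C.ch y) = 0 := fun x y =>
    classInner_irr_ne (B.irr x) (C.irr y) (h x y)
  simp only [classInner_sub_left, classInner_sub_right, hz, sub_zero] at h0
  rcases unit_cases (B.gen a) (B.self a) (C.gen b) (C.self b) with e | e | e
  · exact e
  all_goals
    exfalso
    have e2 : Cfsg.classInner (B.img a) (C.img (C.cj b)) = 0 := by
      rw [e]; simp [classInner_neg_left, C.ortho b (C.cj b) (C.cj_ne b).symm]
    have e3 : Cfsg.classInner (B.img (B.cj a)) (C.img b) = 0 := by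
      have := B.ortho (B.cj a) a (B.cj_ne a)
      rw [e] at this
      simpa [classInner_neg_right] using this
    rw [e2, e3, sub_zero, zero_sub, sub_neg_eq_add] at h0
    have hl := congrFun (B.link_eq hBa.symm) 1
    have hl' := congrFun (C.link_eq hCb.symm) 1
    rw [tau_apply_one] at hl hl'
    simp only [Pi.sub_apply] at hl hl'
    rcases unit_cases (B.gen (B.cj a)) (B.self _) (C.gen (C.cj b)) (C.self _) with e' | e' | e' <;>
      simp only [e, e', classInner_neg_left, C.self, neg_zero, add_zero] at h0 <;>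
      first
      | (norm_num at h0; done)
      | (rw [e, e'] at hl
         simp only [Pi.neg_apply] at hl
         exact unit_one_ne (C.gen b) (C.self b) (by linear_combination -hl / 2 - hl' / 2))
      | (rw [e, e'] at hl
         simp only [Pi.neg_apply] at hl
         exact unit_one_ne (C.gen b) (C.self b) (by linear_combination hl / 2 - hl' / 2))

section Make

variable (F) (T : Finset (M → ℂ)) (hirr : ∀ φ ∈ T, Cfsg.IsIrrCharacter M φ)
  (hconj : ∀ φ ∈ T, Cfsg.conjFun φ ∈ T) (hne : ∀ φ ∈ T, Cfsg.conjFun φ ≠ φ)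
  (hdeg : ∀ φ ∈ T, ∃ n : ℕ, φ 1 = (n : ℂ) * (Nat.card W₁ : ℂ))
  (hoff : ∀ φ ∈ T, ∀ x : M, x ∉ commutator M → φ x = 0)

include hirr hoff in
theorem supp_zspanOn {α : M → ℂ} (hα : α ∈ Cfsg.zspanOn (↑T : Set (M → ℂ)) {1}ᶜ) :
    Supp S α ∧ Cfsg.IsGeneralizedCharacter M α := by
  have h : Cfsg.IsGeneralizedCharacter M α ∧ ∀ x : M, x ∉ commutator M → α x = 0 := by
    obtain ⟨hs, -⟩ := hα
    induction hs using Submodule.span_induction with
    | mem x hx => exact ⟨isGen_of_irr (hirr x hx), hoff x hx⟩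
    | zero => exact ⟨isGen_zero, fun _ _ => rfl⟩
    | add x y _ _ hx hy => exact ⟨isGen_add hx.1 hy.1, fun z hz => by simp [hx.2 z hz, hy.2 z hz]⟩
    | smul n x _ hx =>
      rw [← Int.cast_smul_eq_zsmul ℂ]
      exact ⟨isGen_intCast_smul hx.1 n, fun z hz => by simp [hx.2 z hz]⟩
  exact ⟨supp_off (isClassFunction_of_isGen h.1) (Coh.apply_one_of_mem hα) h.2, h.1⟩

include hirr hconj hne hdeg hoff in
/-- A coherent set gives a block. -/
theorem exists_block (hcoh : Cfsg.IsCoherent (↑T : Set (M → ℂ)) {1}ᶜ (tau S)) :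
    ∃ B : Block F {φ : M → ℂ // φ ∈ T}, ∀ a, B.ch a = a.1 := by
  classical
  obtain ⟨-, τ₁, ⟨hadd, hsmul, hinn, hgen⟩, hag⟩ := hcoh
  choose d hd using hdeg
  have hm : ∀ a : {φ : M → ℂ // φ ∈ T}, a.1 ∈ Cfsg.zspan (↑T : Set (M → ℂ)) :=
    fun a => Coh.mem_zspan a.2
  refine ⟨{
    ch := fun a => a.1
    deg := fun a => d a.1 a.2
    img := fun a => τ₁ a.1
    cj := fun a => ⟨Cfsg.conjFun a.1, hconj _ a.2⟩
    irr := fun a => hirr _ a.2
    inj := Subtype.val_injective
    cj_ch := fun _ => rfl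
    cj_ne := fun a e => hne _ a.2 (congrArg Subtype.val e)
    one := fun a => hd _ a.2
    off := fun a => hoff _ a.2
    gen := fun a => hgen _ (hm a)
    self := fun a => by rw [hinn _ (hm a) _ (hm a), classInner_irr_self (hirr _ a.2)]
    ortho := fun a b h => by
      rw [hinn _ (hm a) _ (hm b),
        classInner_irr_ne (hirr _ a.2) (hirr _ b.2) fun e => h (Subtype.ext e)]
    link := fun a b => ?_ }, fun _ => rfl⟩
  have hz : ∀ (n : ℕ) (c : {φ : M → ℂ // φ ∈ T}), τ₁ ((n : ℂ) • c.1) = (n : ℂ) • τ₁ c.1 := by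
    intro n c
    have := hsmul _ (hm c) (n : ℤ)
    simpa [← Int.cast_smul_eq_zsmul ℂ] using this
  have hns : ∀ (n : ℕ) (c : {φ : M → ℂ // φ ∈ T}),
      (n : ℂ) • c.1 ∈ Cfsg.zspan (↑T : Set (M → ℂ)) := by
    intro n c
    rw [Nat.cast_smul_eq_nsmul]
    exact Submodule.smul_of_tower_mem (Submodule.span ℤ (↑T : Set (M → ℂ))) n (hm c)
  have hmem : (d b.1 b.2 : ℂ) • a.1 - (d a.1 a.2 : ℂ) • b.1 ∈ Cfsg.zspan (↑T : Set (M → ℂ)) :=
    Submodule.sub_mem _ (hns _ a) (hns _ b)
  rw [← hag _ (Coh.mem_zspanOn_one hmem (by simp [hd _ a.2, hd _ b.2]; ring))]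
  have h := hadd _ hmem _ (hns (d a.1 a.2) b)
  rw [sub_add_cancel, hz, hz] at h
  exact eq_sub_of_add_eq h.symm

include hirr hconj hne hdeg hoff in
/-- A set of equal degrees gives a block. -/
theorem exists_block_equal (hT : T.Nonempty) (heq : ∀ φ ∈ T, ∀ ψ ∈ T, φ 1 = ψ 1) :
    ∃ B : Block F {φ : M → ℂ // φ ∈ T}, ∀ a, B.ch a = a.1 := by
  classical
  refine exists_block F T hirr hconj hne hdeg hoff ?_
  have hsupp : ∀ φ ∈ T, ∀ x : M, x ≠ 1 → (x : G) ∉ A₀ → φ x = 0 := fun φ hφ x hx1 hx =>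
    hoff φ hφ x fun hK => hx (S.kernel_mem x hK hx1)
  have hmu : ∀ φ ∈ T, ∃ μ : G → ℂ, Cfsg.IsIrrCharacter G μ ∧
      tau S (φ - Cfsg.conjFun φ) = μ - Cfsg.conjFun μ :=
    fun φ hφ => Cfsg.Agent.S1518.result A₀ M R S.dade φ (hirr φ hφ) (hsupp φ hφ)
  choose μ hμ hμe using hmu
  let R' : (M → ℂ) → Finset (G → ℂ) := fun φ =>
    if h : φ ∈ T then {μ φ h, -Cfsg.conjFun (μ φ h)} else ∅
  have hmem : ∀ φ ∈ T, φ - Cfsg.conjFun φ ∈ Cfsg.zspanOn (↑T : Set (M → ℂ)) {1}ᶜ := fun φ hφ =>
    Coh.mem_zspanOn_one (Submodule.sub_mem _ (Coh.mem_zspan hφ) (Coh.mem_zspan (hconj φ hφ)))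
      (by simp [heq _ hφ _ (hconj φ hφ)])
  have hin : ∀ φ (hφ : φ ∈ T) ψ (hψ : ψ ∈ T),
      Cfsg.classInner (μ φ hφ - Cfsg.conjFun (μ φ hφ)) (μ ψ hψ - Cfsg.conjFun (μ ψ hψ)) =
      Cfsg.classInner (φ - Cfsg.conjFun φ) (ψ - Cfsg.conjFun ψ) := by
    intro φ hφ ψ hψ
    rw [← hμe φ hφ, ← hμe ψ hψ,
      tau_inner (supp_zspanOn T hirr hoff (hmem φ hφ)).1 (supp_zspanOn T hirr hoff (hmem ψ hψ)).1]
  have hμne : ∀ φ (hφ : φ ∈ T), Cfsg.conjFun (μ φ hφ) ≠ μ φ hφ := by
    intro φ hφ e
    have h := hin φ hφ φ hφ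
    rw [e, sub_self, classInner_zero_left, classInner_sub_left, classInner_sub_right,
      classInner_sub_right, classInner_irr_self (hirr φ hφ),
      classInner_irr_self (hirr _ (hconj φ hφ)),
      classInner_irr_ne (hirr φ hφ) (hirr _ (hconj φ hφ)) (hne φ hφ).symm,
      classInner_irr_ne (hirr _ (hconj φ hφ)) (hirr φ hφ) (hne φ hφ)] at h
    norm_num at h
  have hneg : ∀ φ (hφ : φ ∈ T), μ φ hφ ≠ -Cfsg.conjFun (μ φ hφ) := by
    intro φ hφ e
    obtain ⟨n, hn, hn1⟩ := exists_degree_pos (hμ φ hφ)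
    have := congrFun e 1
    simp only [Pi.neg_apply, Cfsg.conjFun, hn1, map_natCast] at this
    have h2 : ((2 * n : ℕ) : ℂ) = 0 := by push_cast; linear_combination this
    exact absurd (Nat.cast_eq_zero.mp h2) (by omega)
  refine Cfsg.Agent.S1517.result (↑T : Set (M → ℂ)) (tau S) R'
    { nonempty := hT
      isCharacter := fun φ hφ => isCharacter_of_isIrr (hirr φ hφ)
      conj_mem := hconj
      conj_ne := hne
      isometry := ⟨fun a _ b _ => tau_add a b, fun a _ n => ?_, fun a ha b hb => ?_, fun a ha => ?_⟩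
      map_one := fun a _ => tau_apply_one a
      orthogonal := fun φ hφ ψ hψ e => classInner_irr_ne (hirr φ hφ) (hirr ψ hψ) e
      orthonormal := fun φ hφ α hα β hβ => ?_
      virtual := fun φ hφ α hα => ?_
      sum_eq := fun φ hφ => ?_
      disjoint := fun φ hφ ψ hψ h1 h2 α hα β hβ => ?_ } heq
  · rw [← Int.cast_smul_eq_zsmul ℂ, tau_smul, Int.cast_smul_eq_zsmul]
  · exact tau_inner (supp_zspanOn T hirr hoff ha).1 (supp_zspanOn T hirr hoff hb).1
  · exact tau_gen (supp_zspanOn (S := S) T hirr hoff ha).2 (supp_zspanOn (S := S) T hirr hoff ha).1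
  · have hφ' : φ ∈ T := hφ
    simp only [R', dif_pos hφ', Finset.mem_insert, Finset.mem_singleton] at hα hβ
    have hI := hμ φ hφ'
    have hI' := PairBessel.isIrr_conjFun hI
    rcases hα with rfl | rfl <;> rcases hβ with rfl | rfl
    · rw [if_pos rfl, classInner_irr_self hI]
    · rw [if_neg (hneg φ hφ'), classInner_neg_right,
        classInner_irr_ne hI hI' (hμne φ hφ').symm, neg_zero]
    · rw [if_neg (hneg φ hφ').symm, classInner_neg_left,
        classInner_irr_ne hI' hI (hμne φ hφ'), neg_zero]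
    · rw [if_pos rfl, classInner_neg_left, classInner_neg_right, neg_neg, classInner_irr_self hI']
  · have hφ' : φ ∈ T := hφ
    simp only [R', dif_pos hφ', Finset.mem_insert, Finset.mem_singleton] at hα
    rcases hα with rfl | rfl
    · exact isGen_of_irr (hμ φ hφ')
    · exact isGen_neg (isGen_of_irr (PairBessel.isIrr_conjFun (hμ φ hφ')))
  · have hφ' : φ ∈ T := hφ
    simp only [R', dif_pos hφ']
    rw [Finset.sum_pair (hneg φ hφ'), hμe φ hφ', sub_eq_add_neg]
  · have hφ' : φ ∈ T := hφ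
    have hψ' : ψ ∈ T := hψ
    have d1 : ψ ≠ φ := fun e => by rw [e, classInner_irr_self (hirr φ hφ')] at h1; norm_num at h1
    have d2 : ψ ≠ Cfsg.conjFun φ := fun e => by
      rw [e, classInner_irr_self (hirr _ (hconj φ hφ'))] at h2; norm_num at h2
    have d3 : Cfsg.conjFun ψ ≠ φ := fun e => d2 (by rw [← e, Coh.conjFun_conjFun])
    have d4 : Cfsg.conjFun ψ ≠ Cfsg.conjFun φ := fun e => d1 (by
      rw [← Coh.conjFun_conjFun ψ, e, Coh.conjFun_conjFun])
    have h0 : Cfsg.classInner (ψ - Cfsg.conjFun ψ) (φ - Cfsg.conjFun φ) = 0 := by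
      simp only [classInner_sub_left, classInner_sub_right,
        classInner_irr_ne (hirr ψ hψ') (hirr φ hφ') d1,
        classInner_irr_ne (hirr ψ hψ') (hirr _ (hconj φ hφ')) d2,
        classInner_irr_ne (hirr _ (hconj ψ hψ')) (hirr φ hφ') d3,
        classInner_irr_ne (hirr _ (hconj ψ hψ')) (hirr _ (hconj φ hφ')) d4, sub_zero]
    rw [← hin ψ hψ' φ hφ'] at h0
    set p := μ φ hφ' with hp
    set r := μ ψ hψ' with hr
    have hIp := hμ φ hφ'
    have hIr := hμ ψ hψ'
    have hne1 : r ≠ p := fun e => by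
      rw [e, classInner_sub_left, classInner_sub_right, classInner_sub_right,
        classInner_irr_self hIp, classInner_irr_self (PairBessel.isIrr_conjFun hIp),
        classInner_irr_ne hIp (PairBessel.isIrr_conjFun hIp) (hμne φ hφ').symm,
        classInner_irr_ne (PairBessel.isIrr_conjFun hIp) hIp (hμne φ hφ')] at h0
      norm_num at h0
    have hne2 : r ≠ Cfsg.conjFun p := fun e => by
      rw [e, Coh.conjFun_conjFun, classInner_sub_left, classInner_sub_right, classInner_sub_right,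
        classInner_irr_self hIp, classInner_irr_self (PairBessel.isIrr_conjFun hIp),
        classInner_irr_ne hIp (PairBessel.isIrr_conjFun hIp) (hμne φ hφ').symm,
        classInner_irr_ne (PairBessel.isIrr_conjFun hIp) hIp (hμne φ hφ')] at h0
      norm_num at h0
    have hne3 : Cfsg.conjFun r ≠ p := fun e => hne2 (by rw [← e, Coh.conjFun_conjFun])
    have hne4 : Cfsg.conjFun r ≠ Cfsg.conjFun p := fun e => hne1 (by
      rw [← Coh.conjFun_conjFun r, e, Coh.conjFun_conjFun])
    simp only [R', dif_pos hφ', dif_pos hψ', Finset.mem_insert, Finset.mem_singleton] at hα hβ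
    rw [← hr] at hIr
    rw [← hp] at hIp
    rcases hα with rfl | rfl <;> rcases hβ with rfl | rfl
    · exact classInner_irr_ne hIr hIp hne1
    · rw [classInner_neg_right,
        classInner_irr_ne hIr (PairBessel.isIrr_conjFun hIp) hne2, neg_zero]
    · rw [classInner_neg_left,
        classInner_irr_ne (PairBessel.isIrr_conjFun hIr) hIp hne3, neg_zero]
    · rw [classInner_neg_left, classInner_neg_right, neg_neg,
        classInner_irr_ne (PairBessel.isIrr_conjFun hIr) (PairBessel.isIrr_conjFun hIp) hne4]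

end Make

end CfsgLib.OddChar.Prime
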