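import Cfsg.Agent.Lib.OddChar.Prime.FiveChars
import Cfsg.Agent.Lib.OddChar.Prime.NoFlat
import Cfsg.Agent.Lib.OddChar.Prime.Criteria

/-!
# Type V with `W₂` central in `M'`

* `central_bound`: the arithmetic;
* `central_column`: for each column `l = y` with `d (∑ x + δ y) + q ∑ e t = l h`;
* `central_flat`: a linear block is flat, possibly after the sign swap.
-/

set_option autoImplicit false
set_option linter.unusedSectionVars false

namespace CfsgLib.OddChar.Prime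

open CfsgLib.Char CfsgLib.CharNormal
open CfsgLib.OddChar

universe u

/-- The arithmetic of `d (X + δ y) + q E = l h`. -/
theorem central_bound {q d h m n δ y l X E' H' : ℤ} (hq : 3 ≤ q) (hδ : δ = 1 ∨ δ = -1)
    (hd : d = δ + n * q) (hd5 : 2 * q - 1 ≤ d) (hh : h = d ^ 2 + q * H')
    (hm : 2 ≤ m) (hy : m * y ^ 2 - 2 * y ≤ q - 3) (hX0 : 0 ≤ X) (hX : m * X ≤ 2 * n * q)
    (hE0 : 0 ≤ E') (hH0 : 0 ≤ H') (hE : 3 * (m * E') ≤ 7 * H')
    (heq : d * (X + δ * y) + q * E' = l * h)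
    :
    (l = 0 ∨ (l = 1 ∧ m = 2)) ∧ |y| < q - 1 := by
  have hd0 : 5 ≤ d := by linarith
  have hy2 : |y| * (2 * |y| - 2) ≤ q - 3 := by
    have h1 : 2 * y ^ 2 ≤ m * y ^ 2 := mul_le_mul_of_nonneg_right hm (sq_nonneg y)
    rcases abs_cases y with ⟨e, hs⟩ | ⟨e, hs⟩ <;> rw [e] <;> nlinarith
  have hay0 := abs_nonneg y
  have hyq : |y| < q - 1 := by
    by_contra hc
    push Not at hc
    nlinarith
  have hdy : -(d * |y|) ≤ d * (δ * y) ∧ d * (δ * y) ≤ d * |y| := by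
    have : -|y| ≤ δ * y ∧ δ * y ≤ |y| := by
      rcases hδ with rfl | rfl <;> constructor <;> linarith [le_abs_self y, neg_abs_le y]
    exact ⟨by nlinarith, by nlinarith⟩
  have hyd : |y| < d := by linarith
  have hh2 : d ^ 2 ≤ h := by nlinarith
  have hlow : -h < l * h := by
    have : d * |y| < d * d := mul_lt_mul_of_pos_left hyd (by linarith)
    nlinarith [mul_nonneg (by linarith : (0:ℤ) ≤ d) hX0, mul_nonneg (by linarith : (0:ℤ) ≤ q) hE0]
  have hl0 : 0 ≤ l := by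
    by_contra hc
    push Not at hc
    have : l * h ≤ -1 * h := mul_le_mul_of_nonneg_right (by linarith) (by nlinarith)
    linarith
  have hnq : n * q ≤ d + 1 := by rcases hδ with rfl | rfl <;> linarith
  have hup : 3 * m * (l * h) ≤ 7 * h - d ^ 2 + 6 * d + 3 * m * (d * |y|) := by
    have e1 : m * (d * X) ≤ d * (2 * (d + 1)) := by
      have := mul_le_mul_of_nonneg_left (hX.trans (by linarith : 2 * n * q ≤ 2 * (d + 1)))
        (by linarith : (0:ℤ) ≤ d)
      linarith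
    have e2 : 3 * (m * (q * E')) ≤ 7 * (q * H') := by
      have := mul_le_mul_of_nonneg_left hE (by linarith : (0:ℤ) ≤ q)
      linarith
    have e3 : m * (d * (δ * y)) ≤ m * (d * |y|) :=
      mul_le_mul_of_nonneg_left hdy.2 (by linarith)
    rw [← heq, hh]
    nlinarith
  refine ⟨?_, hyq⟩
  have hyy : |y| = 0 ∨ (1 ≤ |y| ∧ 4 * |y| + 1 ≤ 2 * q - 1) := by
    rcases eq_or_lt_of_le hay0 with h0 | h0
    · exact Or.inl h0.symm
    · right
      refine ⟨by linarith, ?_⟩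
      rcases le_or_gt |y| 1 with h1 | h1
      · linarith
      · nlinarith
  rcases eq_or_lt_of_le hm with hm2 | hm3
  · -- two members
    subst hm2
    have hl : l < 2 := by
      by_contra hc
      push Not at hc
      have : 2 * h ≤ l * h := mul_le_mul_of_nonneg_right hc (by nlinarith)
      rcases hyy with h0 | ⟨h1, h2⟩
      · rw [h0] at hup; nlinarith
      · have := mul_le_mul_of_nonneg_left (show 4 * |y| + 1 ≤ d by linarith) (by linarith : (0:ℤ) ≤ d)
        nlinarith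
    omega
  · left
    by_contra hc
    have h1 : 1 ≤ l := by omega
    have hlh : h ≤ l * h := le_mul_of_one_le_left (by nlinarith) h1
    have hmh : 3 * m * h ≤ 7 * h - d ^ 2 + 6 * d + 3 * m * (d * |y|) :=
      (mul_le_mul_of_nonneg_left hlh (by linarith)).trans hup
    have hm3' : (3 : ℤ) ≤ m := by omega
    have key : 9 * h ≤ 7 * h - d ^ 2 + 6 * d + 9 * (d * |y|) := by
      have h3 : (m - 3) * (3 * (d * |y|)) ≤ (m - 3) * (3 * h) := by
        refine mul_le_mul_of_nonneg_left ?_ (by linarith)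
        nlinarith
      nlinarith
    rcases hyy with h0 | ⟨h1', h2⟩
    · rw [h0] at key; nlinarith
    · have hq4 : 4 ≤ q := by
        have h4 : 3 * y ^ 2 ≤ m * y ^ 2 := mul_le_mul_of_nonneg_right hm3' (sq_nonneg y)
        have h5 : |y| ≤ y ^ 2 := by
          rw [← sq_abs]
          exact le_self_pow₀ h1' (by norm_num)
        linarith [le_abs_self y]
      have h6 : 3 * d ≤ 9 * |y| + 6 := by
        refine le_of_mul_le_mul_left ?_ (by linarith : (0:ℤ) < d)
        linarith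
      linarith

variable {G : Type u} [Group G] [Fintype G] {M : Subgroup G} {W₁ W₂ : Subgroup G} {A₀ : Set G}
  {R : G → Subgroup G} [Fintype M] [Fintype (commutator M)] {S : Setup M W₁ W₂ A₀ R}
  [Fintype (Ir₁ W₁ W₂)] [Fintype (Ir₂ W₁ W₂)] {F : Fam S}
  {ι : Type*} [Fintype ι] [DecidableEq ι] {p : ℕ} [Fact p.Prime] {P : Sylow p G}

include S in
theorem card_subgroupOf₂ : Nat.card (W₂.subgroupOf M) = Nat.card W₂ :=
  Nat.card_congr (Subgroup.subgroupOfEquivOfLe S.le₂).toEquiv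

include S in
/-- `W₂` central in `M'` is central in `M`. -/
theorem central_of_derived (hcent : ∀ z ∈ W₂.subgroupOf M, ∀ k ∈ commutator M, z * k = k * z) :
    ∀ z ∈ W₂.subgroupOf M, ∀ x : M, z * x = x * z := by
  intro z hz x
  have hx : x ∈ commutator M ⊔ W₁.subgroupOf M := S.sup_eq ▸ Subgroup.mem_top x
  rw [← SetLike.mem_coe, Subgroup.normal_mul] at hx
  obtain ⟨k, hk, w, hw, rfl⟩ := hx
  have hwz : w * z = z * w := Subtype.ext (S.sn.2.2.2.1 _ hw _ hz)
  rw [← mul_assoc, hcent z hz k hk, mul_assoc, ← hwz, mul_assoc]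

set_option maxHeartbeats 1600000 in
/-- The identity of a column: `l = y`, and the sum vanishes when `l = 0`. -/
theorem central_column (hT : FiveTI S P) (hPK : Nat.card W₂ = p)
    (hcent : ∀ z ∈ W₂.subgroupOf M, ∀ k ∈ commutator M, z * k = k * z)
    {B : Block F ι} (hB : IsLin B) (a : ι) {y : ℤ}
    (hy : ∀ b, Cfsg.classInner (tau S (B.alpha₀ a)) (B.img b) =
      ((y - if a = b then 1 else 0 : ℤ) : ℂ))
    (hyb : (Fintype.card ι : ℤ) * y ^ 2 - 2 * y ≤ (Nat.card W₁ : ℤ) - 3)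
    {j₁ : Ir₂ W₁ W₂} (hj₁ : j₁ ≠ 1) :
    (y = 0 ∨ (y = 1 ∧ Fintype.card ι = 2)) ∧
      (y = 0 → ∀ i, Cfsg.classInner (tau S (B.alpha a i j₁)) (B.img a) = -(F.nn j₁ : ℂ)) := by
  classical
  have hpp : p.Prime := Fact.out
  set Z := W₂.subgroupOf M with hZdef
  have := Fintype.ofFinite Z
  have hZc := central_of_derived (S := S) hcent
  haveI : Z.Normal := ⟨fun z hz x => by rw [← hZc z hz x, mul_inv_cancel_right]; exact hz⟩
  let jH : Z →* ↥(W₁ ⊔ W₂) := MonoidHom.mk'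
    (fun z => ⟨((z : M) : G), Subgroup.mem_sup_right z.2⟩) fun _ _ => rfl
  set om : Z →* ℂˣ := j₁.1.comp jH with hom
  set b₀ := B.cj a with hb₀
  have hb0 : ¬ a = b₀ := fun e => B.cj_ne a e.symm
  set ψ := B.img b₀ with hψ
  set m := Fintype.card ι with hmdef
  have hm2 : 2 ≤ m := Fintype.one_lt_card_iff.mpr ⟨a, b₀, hb0⟩
  set q := Nat.card W₁ with hqdef
  have hq3 : 3 ≤ q := three_le₁ S
  -- the scalars
  choose lam hlam using fun χ : Cfsg.IrrCharacter M => exists_scalar Z hZc χ.2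
  have hom1 : om ≠ 1 := fun e => hj₁ (ir₂_eq_one fun w hw => by
    have := DFunLike.congr_fun e ⟨⟨w, S.le w.2⟩, hw⟩
    exact this)
  -- the scalar of a column
  obtain ⟨a₁, ha₁, ha₁1⟩ := exists_mem_ne_one S.ne₁
  have hmu : ∀ i j, ∀ z : Z, (lam ⟨F.mu i j, F.mu_irr i j⟩ z : ℂ) = (j.1 (jH z) : ℂ) := by
    intro i j z
    let x : ↥(W₁ ⊔ W₂) := ⟨a₁, Subgroup.mem_sup_left ha₁⟩
    have hx : (x : G) ∉ W₂ := fun h => ha₁1 (by
      have : a₁ ∈ W₁ ⊓ W₂ := ⟨ha₁, h⟩
      rwa [S.sn.2.2.1, Subgroup.mem_bot] at this)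
    have hxz : ((jH z * x : ↥(W₁ ⊔ W₂)) : G) ∉ W₂ := fun h => hx (by
      have := W₂.mul_mem (W₂.inv_mem (show ((z : M) : G) ∈ W₂ from z.2)) h
      simpa [jH] using this)
    have e1 := hlam ⟨F.mu i j, F.mu_irr i j⟩ z ⟨x, S.le x.2⟩
    have e2 : ((z : M) * ⟨x, S.le x.2⟩ : M) =
        ⟨((jH z * x : ↥(W₁ ⊔ W₂)) : G), S.le (jH z * x).2⟩ := rfl
    simp only at e1
    rw [e2, F.mu_val i j _ hxz, F.mu_val i j x hx, map_mul, map_mul, Units.val_mul, Units.val_mul,
      i.2 (jH z) z.2, Units.val_one] at e1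
    have hne : (F.sgn j : ℂ) * ((i.1 x : ℂ) * (j.1 x : ℂ)) ≠ 0 := by
      refine mul_ne_zero ?_ (mul_ne_zero (Units.ne_zero _) (Units.ne_zero _))
      rcases F.sgn_eq j with h | h <;> simp [h]
    refine mul_right_cancel₀ hne ?_
    linear_combination -e1
  have hmu1 : ∀ i j, lam ⟨F.mu i j, F.mu_irr i j⟩ = om ↔ j = j₁ := by
    intro i j
    constructor
    · intro e
      refine Subtype.ext (MonoidHom.ext fun w => ?_)
      obtain ⟨u, hu, v, hv, huv⟩ : ∃ u ∈ W₁, ∃ v ∈ W₂, (w : G) = u * v := by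
        have hn : W₂ ≤ Subgroup.normalizer (W₁ : Set G) := fun v hv => by
          refine (Subgroup.centralizer_le_normalizer (W₁ : Set G)) ?_
          exact Subgroup.mem_centralizer_iff.mpr fun u hu => S.sn.2.2.2.1 u hu v hv
        have := w.2
        rw [← SetLike.mem_coe, Subgroup.coe_mul_of_right_le_normalizer_left W₁ W₂ hn] at this
        obtain ⟨u, hu, v, hv, e⟩ := this
        exact ⟨u, hu, v, hv, e.symm⟩
      have hw : w = (⟨u, Subgroup.mem_sup_left hu⟩ : ↥(W₁ ⊔ W₂)) *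
          jH ⟨⟨v, S.le₂ hv⟩, hv⟩ := Subtype.ext huv
      rw [hw, map_mul, map_mul, j.2 _ hu, j₁.2 _ hu, one_mul, one_mul]
      refine Units.ext ?_
      rw [← hmu i j, e]
      rfl
    · rintro rfl
      exact MonoidHom.ext fun z => Units.ext (hmu i j z)
  -- the induced function
  set Φ := Cfsg.indFun Z (fun z => (om z : ℂ)) with hΦ
  have hΦc : Cfsg.IsClassFunction M Φ := isClassFunction_indFun (H := Z) _
  have hcoef : ∀ χ : Cfsg.IrrCharacter M, Cfsg.classInner Φ χ =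
      if lam χ = om then (χ : M → ℂ) 1 else 0 := fun χ => by
    rw [hΦ, ← classInner_conj_symm, frobenius_reciprocity' Z _ (isClassFunction_of_isIrr χ.2),
      res_inner Z (hlam χ)]
    obtain ⟨n, hn⟩ := exists_degree (isCharacter_of_isIrr χ.2)
    split_ifs
    · rw [hn, map_natCast]
    · rw [map_zero]
  set X := Finset.univ.filter fun χ : Cfsg.IrrCharacter M =>
    lam χ = om ∧ ∀ i j, (χ : M → ℂ) ≠ F.mu i j with hX
  have hXdata : ∀ χ : Cfsg.IrrCharacter M, ∃ e : ℕ, ∃ t : ℤ, χ ∈ X →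
      ((χ : M → ℂ) 1 = (e : ℂ) * (q : ℂ) ∧ 3 ≤ e ∧ Supp S ((e : ℂ) • B.ch a - (χ : M → ℂ)) ∧
        Cfsg.classInner (tau S ((e : ℂ) • B.ch a - (χ : M → ℂ))) ψ = ((-t : ℤ) : ℂ) ∧
        (m : ℤ) * t ^ 2 - 2 * e * t ≤ 1) := by
    intro χ
    by_cases hχ : χ ∈ X
    swap
    · exact ⟨0, 0, fun h => absurd h hχ⟩
    obtain ⟨-, hl, hnμ⟩ := Finset.mem_filter.mp hχ
    obtain ⟨-, hoff, θ, e, heq, hθ1, hodd, he⟩ :=
      (F.off_cases χ.2).resolve_left fun ⟨i, j, h⟩ => hnμ i j h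
    have hnot : ¬ ∀ z : Z, (χ : M → ℂ) (z : M) = (χ : M → ℂ) 1 := fun h => hom1 (by
      refine MonoidHom.ext fun z => Units.ext ?_
      have h1 := hlam χ z 1
      rw [mul_one, h z, hl] at h1
      exact (mul_eq_right₀ (irr_one_ne_zero χ.2)).mp h1.symm)
    have hne : ∀ b, B.ch b ≠ (χ : M → ℂ) := fun b h => hnot fun z => by
      rw [← h, hB.val b z (S.le_derived₂ z.2), B.one, hB.deg, Nat.cast_one, one_mul]
    have he3 : 3 ≤ e := by
      by_contra hc
      obtain ⟨u, rfl⟩ := hodd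
      obtain rfl : u = 0 := by omega
      refine hnot fun z => ?_
      rw [heq, linear_val (S := S) θ.2 (by simpa using hθ1) (S.le_derived₂ z.2), ← heq, he]
      simp
    obtain ⟨hs, t, ht, hin⟩ := B.gamma_coef hB a χ.2 hoff he hne
    exact ⟨e, t, fun _ => ⟨he, he3, hs, by rw [hψ, ht b₀, if_neg hb0, zero_sub], hin⟩⟩
  choose e t het using hXdata
  -- the column
  obtain ⟨hn2, -, hd5, -⟩ := F.two_le_nn hj₁
  set δ := F.sgn j₁
  set n := F.nn j₁
  have hdd : F.dd j₁ = δ + n * (q : ℤ) := rfl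
  set d := F.dd j₁ with hddef
  have hmudeg : ∀ i, F.mu i j₁ 1 = (d : ℂ) := fun i => F.mu_apply_one i j₁
  have hxs : ∀ i, ∃ x : ℤ, Cfsg.classInner (tau S (B.alpha a i j₁)) ψ = (x : ℂ) ∧
      0 ≤ x ∧ (m : ℤ) * x ≤ 2 * n ∧
      Cfsg.classInner (tau S (B.alpha a i j₁)) (B.img a) = (x : ℂ) - (n : ℂ) := by
    intro i
    obtain ⟨x, hval, hin⟩ := B.alpha_ineq (hB.deg a) i hj₁
    have h2 := (two_le_sq_alpha B (hB.deg a) i hj₁).1
    have hW : ∑ b, ((B.deg b : ℕ) : ℤ) ^ 2 = (m : ℤ) := by simp [hB.deg, hmdef]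
    rw [hW] at hin
    have h0 : (m : ℤ) * x ^ 2 ≤ 2 * n * x := by linarith
    have hm0 : (0 : ℤ) < m := by exact_mod_cast (by omega : 0 < m)
    have hx0 : 0 ≤ x := by
      by_contra hneg
      push Not at hneg
      nlinarith [mul_pos hm0 (mul_pos_of_neg_of_neg hneg hneg)]
    refine ⟨x, ?_, hx0, ?_, ?_⟩
    · rw [hψ, hval b₀, hB.deg, if_neg hb0]; simp
    · rcases eq_or_lt_of_le hx0 with rfl | hpos
      · rw [mul_zero]; linarith
      · refine le_of_mul_le_mul_right ?_ hpos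
        rw [mul_assoc, ← pow_two]; exact h0
    · rw [hval a, hB.deg, if_pos rfl]; simp [n]
  choose x hxψ hx0 hxm hxa using hxs
  -- the decomposition
  have hsplit : Φ = (d : ℂ) • F.muSum j₁ +
      ∑ χ ∈ X, ((e χ : ℂ) * (q : ℂ)) • (χ : M → ℂ) := by
    rw [classFun_eq_sum hΦc, ← Finset.sum_filter_add_sum_filter_not Finset.univ
      (fun χ : Cfsg.IrrCharacter M => ∀ i j, (χ : M → ℂ) ≠ F.mu i j), add_comm]
    congr 1
    · have himg : Finset.univ.filter (fun χ : Cfsg.IrrCharacter M =>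
          ¬ ∀ i j, (χ : M → ℂ) ≠ F.mu i j) = (Finset.univ : Finset (Ir₁ W₁ W₂ × Ir₂ W₁ W₂)).image
            fun p => ⟨F.mu p.1 p.2, F.mu_irr p.1 p.2⟩ := by
        ext χ
        simp only [Finset.mem_filter, Finset.mem_univ, true_and, Finset.mem_image, not_forall,
          not_not, Prod.exists]
        exact ⟨fun ⟨i, j, h⟩ => ⟨i, j, Subtype.ext h.symm⟩,
          fun ⟨i, j, h⟩ => ⟨i, j, (congrArg Subtype.val h).symm⟩⟩
      rw [himg, Finset.sum_image (fun u _ v _ h => by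
        obtain ⟨h1, h2⟩ := F.mu_inj _ _ _ _ (congrArg Subtype.val h)
        exact Prod.ext h1 h2), Fintype.sum_prod_type, Fam.muSum, Finset.smul_sum]
      refine Finset.sum_congr rfl fun i _ => ?_
      rw [Finset.sum_eq_single j₁ (fun j _ hj => ?_) (by simp)]
      · rw [hcoef, if_pos ((hmu1 i j₁).mpr rfl)]
        show F.mu i j₁ 1 • F.mu i j₁ = _
        rw [hmudeg]
      · rw [hcoef, if_neg (fun h => hj ((hmu1 i j).mp h)), zero_smul]
    · rw [← Finset.sum_filter_add_sum_filter_not (Finset.univ.filter fun χ : Cfsg.IrrCharacter M =>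
        ∀ i j, (χ : M → ℂ) ≠ F.mu i j) (fun χ => lam χ = om), Finset.filter_filter,
        Finset.filter_filter, Finset.sum_eq_zero (s := Finset.univ.filter fun χ : Cfsg.IrrCharacter M =>
          (∀ i j, (χ : M → ℂ) ≠ F.mu i j) ∧ ¬ lam χ = om) (fun χ hχ => ?_),
        add_zero]
      · refine Finset.sum_congr (by ext χ; simp [hX, and_comm]) fun χ hχ => ?_
        have hl : lam χ = om := (Finset.mem_filter.mp hχ).2.1
        rw [hcoef, if_pos hl, (het χ hχ).1]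
      · rw [hcoef, if_neg (Finset.mem_filter.mp hχ).2.2, zero_smul]
  -- orders
  obtain ⟨h, hh⟩ : ∃ h : ℕ, Nat.card (commutator M) = p * h := by
    have h1 : Nat.card Z ∣ Nat.card (commutator M) :=
      Subgroup.card_dvd_of_le S.le_commutator
    rwa [card_subgroupOf₂ (S := S), hPK] at h1
  have hΦ1 : Φ 1 = (q : ℂ) * (h : ℂ) := by
    have h2 : Nat.card Z * Z.index = p * (q * h) := by
      rw [Z.card_mul_index, ← (commutator M).index_mul_card, index_commutator S, hh]; ring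
    rw [card_subgroupOf₂ (S := S), hPK] at h2
    rw [hΦ, indFun_one, Nat.eq_of_mul_eq_mul_left hpp.pos h2, map_one, Units.val_one, mul_one]
    push_cast
    rfl
  have hheq : (h : ℤ) = d ^ 2 + (q : ℤ) * ∑ χ ∈ X, (e χ : ℤ) ^ 2 := by
    have h1 := congrFun hsplit 1
    rw [hΦ1] at h1
    simp only [Pi.add_apply, Pi.smul_apply, Fam.muSum, Finset.sum_apply, smul_eq_mul, hmudeg,
      Finset.sum_const, Finset.card_univ, nsmul_eq_mul] at h1
    rw [Finset.sum_congr rfl fun χ hχ => by rw [(het χ hχ).1], ← Nat.card_eq_fintype_card,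
      card_ir₁ S] at h1
    have hq0 : (q : ℂ) ≠ 0 := by exact_mod_cast (by omega : q ≠ 0)
    have h2 : ((h : ℤ) : ℂ) = ((d ^ 2 + (q : ℤ) * ∑ χ ∈ X, (e χ : ℤ) ^ 2 : ℤ) : ℂ) := by
      push_cast
      refine mul_left_cancel₀ hq0 (h1.trans ?_)
      rw [mul_add, Finset.mul_sum, Finset.mul_sum]
      congr 1
      · ring
      · exact Finset.sum_congr rfl fun χ _ => by ring
    exact_mod_cast h2
  -- the identity
  set ζ := B.ch a
  have hfun : Φ - (h : ℂ) • ζ = (d : ℂ) • (∑ i, B.alpha a i j₁ + (δ : ℂ) • B.alpha₀ a) -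
      ∑ χ ∈ X, ((e χ : ℂ) * (q : ℂ)) • ((e χ : ℂ) • ζ - (χ : M → ℂ)) := by
    have hcol := B.column_supp (hB.deg a) j₁
    rw [← hddef] at hcol
    rw [← hcol, hsplit]
    have hhC : (h : ℂ) = (d : ℂ) ^ 2 + (q : ℂ) * ∑ χ ∈ X, (e χ : ℂ) ^ 2 := by
      exact_mod_cast hheq
    funext g
    simp only [Pi.sub_apply, Pi.add_apply, Pi.smul_apply, Finset.sum_apply, smul_eq_mul, hhC]
    simp only [mul_sub, Finset.sum_sub_distrib, Finset.mul_sum, Finset.sum_mul, add_mul]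
    rw [Finset.sum_congr rfl fun χ _ => show (q : ℂ) * (e χ : ℂ) ^ 2 * ζ g =
      (e χ : ℂ) * (q : ℂ) * ((e χ : ℂ) * ζ g) by ring]
    ring
  have hsupp : Supp S (Φ - (h : ℂ) • ζ) := by
    rw [hfun]
    refine supp_sub (supp_smul (supp_add (supp_sum _ fun i _ => B.alpha_supp a i j₁)
      (supp_smul (B.alpha₀_supp a) _)) _) (supp_sum _ fun χ hχ => supp_smul (het χ hχ).2.2.1 _)
  have hψc : Cfsg.IsClassFunction G ψ := isClassFunction_of_isGen (B.gen b₀)
  obtain ⟨s, hs⟩ := classInner_gen_int (isGen_of_irr (B.irr a)) (isGen_res M (B.gen b₀))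
  -- the congruence
  obtain ⟨z₀, hz₀, hz₀1⟩ := exists_mem_ne_one S.ne₂
  set zM : M := ⟨z₀, S.le₂ hz₀⟩
  have hzM : zM ∈ Z := hz₀
  have hzM1 : zM ≠ 1 := fun e => hz₀1 (congrArg Subtype.val e)
  have hconst : ∀ z ∈ Z, z ≠ 1 → ψ (z : G) = ψ (zM : G) := by
    intro z hz hz1
    have hcard : Nat.card Z = p := (card_subgroupOf₂ (S := S)).trans hPK
    have hgen : Subgroup.zpowers (⟨zM, hzM⟩ : Z) = ⊤ :=
      zpowers_eq_top_of_prime_card hcard (fun e => hzM1 (congrArg Subtype.val e))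
    obtain ⟨k, hk⟩ : (⟨z, hz⟩ : Z) ∈ Submonoid.powers (⟨zM, hzM⟩ : Z) :=
      mem_powers_iff_mem_zpowers.mpr (hgen ▸ Subgroup.mem_top _)
    have hk' : zM ^ k = z := congrArg Subtype.val hk
    have hord : orderOf zM = p := by
      refine orderOf_eq_prime ?_ hzM1
      rw [← hcard]
      exact congrArg Subtype.val (pow_card_eq_one' (x := (⟨zM, hzM⟩ : Z)))
    rw [← hk', Subgroup.coe_pow, hψ]
    refine hB.img_const b₀ (S.le_derived₂ hzM) hzM1 ?_
    rw [hord, Nat.coprime_comm, hpp.coprime_iff_not_dvd]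
    intro hdvd
    exact hz1 (hk' ▸ orderOf_dvd_iff_pow_eq_one.mp (hord.symm ▸ hdvd))
  obtain ⟨kk, hkk⟩ := dvd_sub_of_const hT Z S.le_commutator hcent (B.gen b₀) (B.self b₀)
    (fun z hz z' hz' e e' => (hconst z hz e).trans (hconst z' hz' e').symm) hzM hzM1
  have hΦψ : Cfsg.classInner Φ (fun g : M => ψ g) = (((kk * h : ℤ)) : ℂ) := by
    rw [hΦ, ← classInner_conj_symm, frobenius_reciprocity' Z _
      (isClassFunction_of_isGen (isGen_res M (B.gen b₀)))]
    have hsum : ∑ z ∈ Finset.univ.erase (1 : Z), (starRingEnd ℂ) (om z : ℂ) = -1 := by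
      have h0 : ∑ z : Z, (om z : ℂ) = 0 := sum_hom_units_eq_zero ((Units.coeHom ℂ).comp om)
        (fun e => hom1 (MonoidHom.ext fun z => Units.ext (DFunLike.congr_fun e z)))
      rw [← Finset.add_sum_erase _ _ (Finset.mem_univ (1 : Z)), map_one, Units.val_one] at h0
      rw [← map_sum, show ∑ z ∈ Finset.univ.erase (1 : Z), (om z : ℂ) = -1 by linear_combination h0]
      simp
    rw [classInner_def, card_subgroupOf₂ (S := S), hPK,
      ← Finset.add_sum_erase _ _ (Finset.mem_univ (1 : Z)), Finset.sum_congr rfl fun (z : Z) hz => by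
        rw [show B.img b₀ ((z : M) : G) = ψ (zM : G) from hconst z z.2
          (fun e => (Finset.mem_erase.mp hz).1 (Subtype.ext e))],
      ← Finset.mul_sum, hsum]
    have hp0 : (p : ℂ) ≠ 0 := Nat.cast_ne_zero.mpr hpp.ne_zero
    have hkk' : ψ 1 - ψ (zM : G) = (kk : ℂ) * ((p : ℂ) * (h : ℂ)) := by
      rw [hψ, hkk, hh]; push_cast; rfl
    have hfin : (p : ℂ)⁻¹ * (ψ (((1 : Z) : M) : G) * (starRingEnd ℂ) ((om 1 : ℂˣ) : ℂ) +
        ψ (zM : G) * -1) = ((kk * h : ℤ) : ℂ) := by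
      simp only [Subgroup.coe_one, map_one, Units.val_one, mul_one]
      rw [show ψ 1 + ψ (zM : G) * -1 = (kk : ℂ) * ((p : ℂ) * (h : ℂ)) by linear_combination hkk']
      push_cast
      field_simp
    rw [hfin, map_intCast]
  -- both sides
  have hkey : d * ((∑ i, x i) + δ * y) + (q : ℤ) * ∑ χ ∈ X, (e χ : ℤ) * t χ =
      (kk - s) * (h : ℤ) := by
    have h1 := tau_res hT hsupp hψc
    rw [classInner_sub_left, classInner_smul_left, hΦψ, hs] at h1
    have hR : Cfsg.classInner (tau S (Φ - (h : ℂ) • ζ)) ψ =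
        ((d * ((∑ i, x i) + δ * y) + (q : ℤ) * ∑ χ ∈ X, (e χ : ℤ) * t χ : ℤ) : ℂ) := by
      have hterm : ∀ χ ∈ X, Cfsg.classInner (tau S (((e χ : ℂ) * (q : ℂ)) •
          ((e χ : ℂ) • ζ - (χ : M → ℂ)))) ψ = ((-((q : ℤ) * ((e χ : ℤ) * t χ)) : ℤ) : ℂ) := by
        intro χ hχ
        rw [tau_smul, classInner_smul_left, (het χ hχ).2.2.2.1]
        push_cast
        ring
      have hy' : Cfsg.classInner (tau S (B.alpha₀ a)) ψ = (y : ℂ) := by
        rw [hψ, hy b₀, if_neg hb0, sub_zero]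
      rw [hfun, tau_sub, classInner_sub_left, tau_smul, tau_add, tau_smul, classInner_smul_left,
        classInner_add_left, classInner_smul_left, hy', tau_sum, tau_sum, classInner_sum_left,
        classInner_sum_left, Finset.sum_congr rfl hterm, Finset.sum_congr rfl fun i _ => hxψ i,
        ← Int.cast_sum, ← Int.cast_sum, Finset.sum_neg_distrib, Finset.mul_sum]
      push_cast
      ring
    rw [hR] at h1
    have h2 : ((d * ((∑ i, x i) + δ * y) + (q : ℤ) * ∑ χ ∈ X, (e χ : ℤ) * t χ : ℤ) : ℂ) =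
        (((kk - s) * (h : ℤ) : ℤ) : ℂ) := by
      rw [h1]
      push_cast
      ring
    exact_mod_cast h2
  -- the bounds
  have hδ : δ = 1 ∨ δ = -1 := F.sgn_eq j₁
  have htb : ∀ χ ∈ X, 0 ≤ t χ ∧ (m : ℤ) * t χ ≤ 2 * (e χ : ℤ) + 1 := by
    intro χ hχ
    obtain ⟨-, he3, -, -, hin⟩ := het χ hχ
    have hm0 : (2 : ℤ) ≤ m := by exact_mod_cast hm2
    have he3' : (3 : ℤ) ≤ e χ := by exact_mod_cast he3
    have h0 : 0 ≤ t χ := by
      by_contra hneg
      push Not at hneg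
      have h1 : (1 : ℤ) ≤ -t χ := by omega
      nlinarith [mul_le_mul h1 h1 zero_le_one (by linarith)]
    refine ⟨h0, ?_⟩
    rcases eq_or_lt_of_le h0 with hz | hpos
    · rw [← hz, mul_zero]; linarith
    · refine le_of_mul_le_mul_right ?_ hpos
      nlinarith
  have hE : 3 * ((m : ℤ) * ∑ χ ∈ X, (e χ : ℤ) * t χ) ≤ 7 * ∑ χ ∈ X, (e χ : ℤ) ^ 2 := by
    rw [Finset.mul_sum, Finset.mul_sum, Finset.mul_sum]
    refine Finset.sum_le_sum fun χ hχ => ?_
    have he3 : (3 : ℤ) ≤ e χ := by exact_mod_cast (het χ hχ).2.1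
    nlinarith [(htb χ hχ).2]
  have hX0 : 0 ≤ ∑ i, x i := Finset.sum_nonneg fun i _ => hx0 i
  have hXb : (m : ℤ) * ∑ i, x i ≤ 2 * n * (q : ℤ) := by
    rw [Finset.mul_sum]
    refine (Finset.sum_le_sum fun i _ => hxm i).trans (le_of_eq ?_)
    rw [Finset.sum_const, Finset.card_univ, ← Nat.card_eq_fintype_card, card_ir₁ S, nsmul_eq_mul]
    ring
  have hq3' : (3 : ℤ) ≤ q := by exact_mod_cast hq3
  have hm2' : (2 : ℤ) ≤ m := by exact_mod_cast hm2
  have hE0 : 0 ≤ ∑ χ ∈ X, (e χ : ℤ) * t χ :=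
    Finset.sum_nonneg fun χ hχ => mul_nonneg (Nat.cast_nonneg _) (htb χ hχ).1
  obtain ⟨hl, hyq⟩ := central_bound hq3' hδ hdd (by rw [hdd]; exact hd5) hheq hm2' hyb hX0 hXb hE0
    (Finset.sum_nonneg fun χ _ => sq_nonneg _) hE hkey
  -- congruence modulo q: each `x` is the first one
  have hxc : ∀ i, x i = x 1 := fun i => by
    have h1 := B.x_row (hB.deg a) hB.deg hm2 i hj₁
    rw [hxa, hxa, sub_left_inj] at h1
    exact_mod_cast h1
  have hXc : ∑ i, x i = (q : ℤ) * x 1 := by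
    rw [Finset.sum_congr rfl fun i _ => hxc i, Finset.sum_const, Finset.card_univ,
      ← Nat.card_eq_fintype_card, card_ir₁ S, nsmul_eq_mul]
  set E' := ∑ χ ∈ X, (e χ : ℤ) * t χ
  set H' := ∑ χ ∈ X, (e χ : ℤ) ^ 2
  set l := (kk : ℤ) - s
  have hdvd : (q : ℤ) ∣ y - l := by
    have hδ2 : δ * δ = 1 := by rcases hδ with h1 | h1 <;> rw [h1] <;> norm_num
    refine ⟨l * (2 * δ * n + (n : ℤ) ^ 2 * q + H') - (n * δ * y + d * x 1 + E'), ?_⟩
    have h1 : d * ((q : ℤ) * x 1 + δ * y) + (q : ℤ) * E' = l * h := by rw [← hXc]; exact hkey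
    rw [hheq, hdd] at h1
    rw [hdd]
    linear_combination h1 + (l - y) * hδ2
  have hyl : y = l := by
    have habs : |y - l| < (q : ℤ) := by
      rcases hl with h1 | ⟨h1, -⟩ <;> rw [h1] <;>
        rw [abs_lt] <;> constructor <;> linarith [le_abs_self y, neg_abs_le y]
    exact sub_eq_zero.mp (Int.eq_zero_of_abs_lt_dvd hdvd habs)
  refine ⟨?_, fun hy0 i => ?_⟩
  · rcases hl with h1 | ⟨h1, h2⟩
    · exact Or.inl (hyl.trans h1)
    · exact Or.inr ⟨hyl.trans h1, by exact_mod_cast h2⟩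
  · have hd0 : (0 : ℤ) < d := by rw [hdd]; linarith
    rw [show l = 0 by rw [← hyl, hy0], hy0, mul_zero, add_zero, zero_mul] at hkey
    have hdX : d * ∑ i, x i = 0 := by
      nlinarith [mul_nonneg (le_of_lt hd0) hX0, mul_nonneg (by linarith : (0:ℤ) ≤ q) hE0]
    have := (Finset.sum_eq_zero_iff_of_nonneg fun i _ => hx0 i).mp
      ((mul_eq_zero.mp hdX).resolve_left hd0.ne') i (Finset.mem_univ i)
    rw [hxa, this, Int.cast_zero, zero_sub]

/-- A linear block is flat, possibly after the sign swap. -/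
theorem central_flat (hT : FiveTI S P) (hPK : Nat.card W₂ = p)
    (hcent : ∀ z ∈ W₂.subgroupOf M, ∀ k ∈ commutator M, z * k = k * z)
    {B : Block F ι} (hB : IsLin B) (a : ι) :
    ∃ C : Block F ι, C.deg a = 1 ∧
      ∀ i, ∀ j, j ≠ 1 → Cfsg.classInner (tau S (C.alpha a i j)) (C.img a) = -(F.nn j : ℂ) := by
  classical
  obtain ⟨y, hy, hyb⟩ := B.alpha₀_coef hB a
  obtain ⟨j₁, hj₁⟩ : ∃ j : Ir₂ W₁ W₂, j ≠ 1 := by
    refine Fintype.exists_ne_of_one_lt_card ?_ 1
    rw [← Nat.card_eq_fintype_card, card_ir₂ S]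
    have := three_le₂ S
    omega
  rcases (central_column hT hPK hcent hB a hy hyb hj₁).1 with h0 | ⟨h1, h2⟩
  · exact ⟨B, hB.deg a, fun i j hj => (central_column hT hPK hcent hB a hy hyb hj).2 h0 i⟩
  · obtain ⟨C, hCc, hCd, hCi⟩ := B.exists_swap hB.deg h2
    have hC : IsLin C := ⟨fun b => by rw [hCd]; exact hB.deg b,
      fun b z hz => by rw [hCc]; exact hB.val b z hz, fun σ b => by rw [hCc]; exact hB.gal σ b⟩
    obtain ⟨y', hy', hyb'⟩ := C.alpha₀_coef hC a
    have h0 : y' = 0 := by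
      have hcj : C.cj a = B.cj a := B.inj (by rw [← hCc, C.cj_ch, hCc, B.cj_ch])
      have hinv : B.cj (B.cj a) = a := B.inj (by rw [B.cj_ch, B.cj_ch, Coh.conjFun_conjFun])
      have hne : ¬ a = C.cj a := fun e => C.cj_ne a e.symm
      have hα : C.alpha₀ a = B.alpha₀ a := by rw [Block.alpha₀, Block.alpha₀, hCd, hCc]
      have h := hy' (C.cj a)
      rw [if_neg hne, sub_zero, hα, hcj, hCi, hinv, classInner_neg_right, hy a, if_pos rfl, h1] at h
      have h' : ((y' : ℤ) : ℂ) = ((0 : ℤ) : ℂ) := by rw [← h]; simp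
      exact_mod_cast h'
    exact ⟨C, hC.deg a, fun i j hj => (central_column hT hPK hcent hC a hy' hyb' hj).2 h0 i⟩

end CfsgLib.OddChar.Prime
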