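import Cfsg.Agent.Lib.OddChar.Prime.Hyp
import Cfsg.Agent.Lib.OddChar.FrobeniusFixed
import Cfsg.Agent.Lib.Solvable.CoprimeAction
import Cfsg.Agent.Lib.Solvable.Nilpotent

/-!
# The chief factor `H / C_H(U)` of a subgroup of type II, III, IV

* `frob`, `W₂_not_le_cent`, `card_fitting`: `|H| = p ^ q |C_H(U)|`;
* `Chief`, `exists_chief`: the structure of `H / C_H(U)`.
-/

set_option autoImplicit false
set_option linter.unusedSectionVars false

namespace CfsgLib.OddChar.Prime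

open CfsgLib.OddLocal
open CfsgLib.OddChar

universe u

variable {G : Type u} [Group G] [Finite G] {M W₁ U W₂ : Subgroup G}

/-- `C_H(U)`. -/
def kerU (M U : Subgroup G) : Subgroup G :=
  Cfsg.fittingHallOf M ⊓ Subgroup.centralizer (U : Set G)

theorem frob (hP : Cfsg.IsTypePWith M W₁ U W₂) : FrobFix.Frob U W₁ := by
  refine ⟨fun e he u hu => (Subgroup.mem_normalizer_iff.mp (hP.U_normal he) u).mp hu,
    fun e he he1 u hu hc => ?_, hP.U_nilpotent⟩
  have h : u ∈ Cfsg.fittingHallOf M ⊓ U := by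
    refine ⟨(hP.W₂_le ?_).1, hu⟩
    rw [← hP.W₂_centralizer e he he1]
    exact ⟨hP.U_compl.2.1 hu, Subgroup.mem_centralizer_singleton_iff.mpr hc.symm⟩
  rw [hP.U_compl.2.2.1, Subgroup.mem_bot] at h
  exact h

theorem coprime_W₁_derived (hP : Cfsg.IsTypePWith M W₁ U W₂) :
    (Nat.card W₁).Coprime (Nat.card ↥⁅M, M⁆) :=
  (relIndex_of_isComplIn hP.W₁_compl).1 ▸ hP.W₁_hall

theorem fitting_normalizer (hP : Cfsg.IsTypePWith M W₁ U W₂) :
    U ⊔ W₁ ≤ Subgroup.normalizer (Cfsg.fittingHallOf M : Set G) :=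
  (sup_le (typeP_U_le hP) hP.W₁_compl.2.1).trans (le_normalizer_fittingHallOf M)

theorem coprime_fitting (hP : Cfsg.IsTypePWith M W₁ U W₂) :
    (Nat.card (Cfsg.fittingHallOf M)).Coprime (Nat.card ↥(U ⊔ W₁)) := by
  rw [CfsgLib.Solvable.card_sup_of_disjoint hP.U_normal ?_]
  · exact Nat.Coprime.mul_right (typeP_coprime_U hP)
      ((coprime_W₁_derived hP).coprime_dvd_right (Subgroup.card_dvd_of_le hP.U_compl.1)).symm
  · exact le_bot_iff.mp (le_trans (inf_le_inf_right W₁ hP.U_compl.2.1) hP.W₁_compl.2.2.1.le)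

/-- `C_L(W₁)` inside `H` is `L ∩ W₂`. -/
theorem inf_centralizer_W₁ (hP : Cfsg.IsTypePWith M W₁ U W₂) {L : Subgroup G}
    (hL : L ≤ Cfsg.fittingHallOf M) :
    L ⊓ Subgroup.centralizer (W₁ : Set G) = L ⊓ W₂ := by
  ext x
  constructor
  · rintro ⟨hx, hc⟩
    refine ⟨hx, ?_⟩
    obtain ⟨w, hw, hw1⟩ := (Subgroup.bot_or_exists_ne_one W₁).resolve_left hP.W₁_ne
    rw [← hP.W₂_centralizer w hw hw1]
    exact ⟨hP.U_compl.1 (hL hx),
      Subgroup.mem_centralizer_singleton_iff.mpr (Subgroup.mem_centralizer_iff.mp hc w hw).symm⟩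
  · rintro ⟨hx, hx2⟩
    refine ⟨hx, Subgroup.mem_centralizer_iff.mpr fun w hw => ?_⟩
    exact hP.selfNormalizing.2.2.2.1 w hw x hx2

/-- The fixed-point formula on a normal subgroup of `H`. -/
theorem card_formula_le (hP : Cfsg.IsTypePWith M W₁ U W₂) {L : Subgroup G}
    (hL : L ≤ Cfsg.fittingHallOf M) (hLn : M ≤ Subgroup.normalizer (L : Set G)) :
    Nat.card ↥(L ⊓ W₂ ⊓ Subgroup.centralizer (U : Set G)) ^ Nat.card W₁ * Nat.card L =
      Nat.card ↥(L ⊓ W₂) ^ Nat.card W₁ * Nat.card ↥(L ⊓ Subgroup.centralizer (U : Set G)) := by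
  have hle : U ⊔ W₁ ≤ M := sup_le (typeP_U_le hP) hP.W₁_compl.2.1
  have hsolv : Group.IsSolvable L := by
    have := isNilpotent_of_le (isNilpotent_fittingHallOf M) hL
    infer_instance
  have h := FrobFix.card_inf_centralizer_formula (H := L) (frob hP)
    (fun x hx a ha => (Subgroup.mem_normalizer_iff.mp (hLn (hle hx)) a).mp ha) hsolv
    ((coprime_fitting hP).coprime_dvd_left (Subgroup.card_dvd_of_le hL))
  have e : L ⊓ Subgroup.centralizer ((U ⊔ W₁ : Subgroup G) : Set G) =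
      L ⊓ W₂ ⊓ Subgroup.centralizer (U : Set G) := by
    rw [← inf_centralizer_W₁ hP hL]
    refine le_antisymm (fun x hx => ⟨⟨hx.1, Subgroup.centralizer_le
      (SetLike.coe_subset_coe.mpr le_sup_right) hx.2⟩,
      Subgroup.centralizer_le (SetLike.coe_subset_coe.mpr le_sup_left) hx.2⟩) ?_
    rintro x ⟨⟨hx, hx1⟩, hx2⟩
    refine ⟨hx, Subgroup.le_centralizer_iff.mp (sup_le ?_ ?_) (Subgroup.mem_zpowers x) ⟩
    · exact Subgroup.le_centralizer_iff.mp (Subgroup.zpowers_le.mpr hx2)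
    · exact Subgroup.le_centralizer_iff.mp (Subgroup.zpowers_le.mpr hx1)
  rw [e, inf_centralizer_W₁ hP hL] at h
  exact h

/-- `U` does not centralise `W₂`, and `|H| = p ^ q |C_H(U)|`. -/
theorem card_fitting (hP : Cfsg.IsTypePWith M W₁ U W₂) (hU : U ≠ ⊥) (hp : (Nat.card W₂).Prime) :
    kerU M U ⊓ W₂ = ⊥ ∧
      Nat.card (Cfsg.fittingHallOf M) = Nat.card W₂ ^ Nat.card W₁ * Nat.card (kerU M U) := by
  haveI := Fact.mk hp
  have hW₂ : W₂ ≤ Cfsg.fittingHallOf M := hP.W₂_le.trans inf_le_left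
  have hform := card_formula_le hP le_rfl (le_normalizer_fittingHallOf M)
  rw [inf_eq_right.mpr hW₂] at hform
  have hnle : ¬ W₂ ≤ Subgroup.centralizer (U : Set G) := by
    intro hle
    rw [inf_eq_left.mpr hle] at hform
    have h1 := Nat.eq_of_mul_eq_mul_left (pow_pos Nat.card_pos _) hform
    have h2 := Subgroup.eq_of_le_of_card_ge (inf_le_left :
      Cfsg.fittingHallOf M ⊓ Subgroup.centralizer (U : Set G) ≤ _) h1.le
    exact hU (typeP_U_eq_bot hP (Subgroup.le_centralizer_iff.mp (inf_eq_left.mp h2)))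
  have hbot : W₂ ⊓ Subgroup.centralizer (U : Set G) = ⊥ := by
    refine (Subgroup.eq_bot_or_eq_top_of_prime_card
      ((W₂ ⊓ Subgroup.centralizer (U : Set G)).subgroupOf W₂)).elim (fun h => ?_) fun h => ?_
    · rw [Subgroup.subgroupOf_eq_bot, disjoint_iff, inf_eq_left.mpr inf_le_left] at h
      exact h
    · exact absurd (fun x hx => ((Subgroup.subgroupOf_eq_top.mp h) hx).2) hnle
  refine ⟨?_, ?_⟩
  · rw [kerU, inf_comm, ← inf_assoc, inf_eq_left.mpr hW₂, hbot]
  · rw [hbot, Subgroup.card_bot, one_pow, one_mul] at hform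
    exact hform

/-- The properties of `H / C_H(U)`. -/
structure Chief (M W₁ U W₂ : Subgroup G) : Prop where
  inf : kerU M U ⊓ W₂ = ⊥
  card : Nat.card (Cfsg.fittingHallOf M) = Nat.card W₂ ^ Nat.card W₁ * Nat.card (kerU M U)
  normal : M ≤ Subgroup.normalizer (kerU M U : Set G)
  comm : ⁅Cfsg.fittingHallOf M, Cfsg.fittingHallOf M⁆ ≤ kerU M U
  pow : ∀ x ∈ Cfsg.fittingHallOf M, x ^ Nat.card W₂ ∈ kerU M U
  minimal : ∀ L : Subgroup G, kerU M U ≤ L → L ≤ Cfsg.fittingHallOf M →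
    M ≤ Subgroup.normalizer (L : Set G) → L = kerU M U ∨ L = Cfsg.fittingHallOf M
  sup : ⁅Cfsg.fittingHallOf M, U⁆ ⊔ kerU M U = Cfsg.fittingHallOf M
  commute : kerU M U ≤ Subgroup.centralizer ((⁅Cfsg.fittingHallOf M, U⁆ : Subgroup G) : Set G)
  cent : ∀ u ∈ U, (∀ x ∈ Cfsg.fittingHallOf M, x * u * x⁻¹ * u⁻¹ ∈ kerU M U) →
    u ∈ Subgroup.centralizer (Cfsg.fittingHallOf M : Set G)

omit [Finite G] in
theorem normalizer_kerU (hP : Cfsg.IsTypePWith M W₁ U W₂) :
    U ⊔ W₁ ≤ Subgroup.normalizer (kerU M U : Set G) := by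
  refine sup_le ?_ ?_ <;> intro u hu <;> rw [Subgroup.mem_normalizer_iff] <;> intro x
  all_goals
    have hN : u ∈ Subgroup.normalizer (Cfsg.fittingHallOf M : Set G) :=
      le_normalizer_fittingHallOf M (by
        first
        | exact (hP.U_compl.2.1.trans (Subgroup.commutator_le_self M)) hu
        | exact hP.W₁_compl.2.1 hu)
    have hU' : u ∈ Subgroup.normalizer (U : Set G) := by
      first
      | exact Subgroup.le_normalizer hu
      | exact hP.U_normal hu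
    have hC : ∀ v ∈ Subgroup.normalizer (U : Set G), ∀ z ∈ Subgroup.centralizer (U : Set G),
        v * z * v⁻¹ ∈ Subgroup.centralizer (U : Set G) := fun v hv z hz => by
      rw [Subgroup.mem_centralizer_iff] at hz ⊢
      intro a ha
      have h := hz (v⁻¹ * a * v)
        (by simpa using (Subgroup.mem_normalizer_iff.mp (inv_mem hv) a).mp ha)
      calc a * (v * z * v⁻¹) = v * (v⁻¹ * a * v * z) * v⁻¹ := by group
        _ = v * (z * (v⁻¹ * a * v)) * v⁻¹ := by rw [h]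
        _ = v * z * v⁻¹ * a := by group
    refine ⟨fun h => ⟨(Subgroup.mem_normalizer_iff.mp hN x).mp h.1, hC u hU' x h.2⟩,
      fun h => ⟨(Subgroup.mem_normalizer_iff.mp hN x).mpr h.1, ?_⟩⟩
    simpa [mul_assoc] using hC u⁻¹ (inv_mem hU') _ h.2

omit [Finite G] in
/-- `{x ∈ L₁ | [x, H] ⊆ L}`. -/
theorem exists_central_sub {H L L₁ : Subgroup G} (hHL : H ≤ Subgroup.normalizer (L : Set G)) :
    ∃ Z : Subgroup G, ∀ x, x ∈ Z ↔ x ∈ L₁ ⊓ H ∧ ∀ y ∈ H, x * y * x⁻¹ * y⁻¹ ∈ L := by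
  have hc : ∀ t ∈ H, ∀ z ∈ L, t * z * t⁻¹ ∈ L := fun t ht z hz =>
    (Subgroup.mem_normalizer_iff.mp (hHL ht) z).mp hz
  refine ⟨{
    carrier := {x | x ∈ L₁ ⊓ H ∧ ∀ y ∈ H, x * y * x⁻¹ * y⁻¹ ∈ L}
    one_mem' := ⟨one_mem _, fun y _ => by simp [one_mem]⟩
    mul_mem' := fun {a b} ha hb => ⟨mul_mem ha.1 hb.1, fun y hy => by
      rw [show a * b * y * (a * b)⁻¹ * y⁻¹ =
        a * (b * y * b⁻¹ * y⁻¹) * a⁻¹ * (a * y * a⁻¹ * y⁻¹) by group]
      exact mul_mem (hc a ha.1.2 _ (hb.2 y hy)) (ha.2 y hy)⟩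
    inv_mem' := fun {a} ha => ⟨inv_mem ha.1, fun y hy => by
      rw [show a⁻¹ * y * a⁻¹⁻¹ * y⁻¹ = a⁻¹ * (a * y * a⁻¹ * y⁻¹)⁻¹ * a⁻¹⁻¹ by group]
      exact hc a⁻¹ (inv_mem ha.1.2) _ (inv_mem (ha.2 y hy))⟩ }, fun x => Iff.rfl⟩

/-- The chief factor. -/
theorem exists_chief (hP : Cfsg.IsTypePWith M W₁ U W₂) (hU : U ≠ ⊥)
    (hp : (Nat.card W₂).Prime) : Chief M W₁ U W₂ := by
  classical
  haveI := Fact.mk hp
  set H := Cfsg.fittingHallOf M with hH
  set N := kerU M U with hNdef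
  obtain ⟨hinf, hcard⟩ := card_fitting hP hU hp
  have hW₂ : W₂ ≤ H := hP.W₂_le.trans inf_le_left
  have hHn : M ≤ Subgroup.normalizer (H : Set G) := le_normalizer_fittingHallOf M
  -- normal subgroups of `H` not containing `W₂` lie in `N`
  have hdich : ∀ L : Subgroup G, L ≤ H → M ≤ Subgroup.normalizer (L : Set G) →
      L ≤ N ∨ (W₂ ≤ L ∧ L ⊔ N = H) := by
    intro L hLH hLn
    have hform := card_formula_le hP hLH hLn
    rcases Subgroup.eq_bot_or_eq_top_of_prime_card ((L ⊓ W₂).subgroupOf W₂) with h | h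
    · left
      have h0 : L ⊓ W₂ = ⊥ := by
        rw [Subgroup.subgroupOf_eq_bot, disjoint_iff, inf_eq_left.mpr inf_le_right] at h
        exact h
      rw [h0, bot_inf_eq, Subgroup.card_bot, one_pow, one_mul, one_mul] at hform
      have e := Subgroup.eq_of_le_of_card_ge
        (inf_le_left : L ⊓ Subgroup.centralizer (U : Set G) ≤ L) hform.le
      exact fun x hx => ⟨hLH hx, (e.ge hx).2⟩
    · right
      have h1 : W₂ ≤ L := fun x hx => ((Subgroup.subgroupOf_eq_top.mp h) hx).1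
      refine ⟨h1, ?_⟩
      have h0 : W₂ ⊓ Subgroup.centralizer (U : Set G) = ⊥ := by
        rw [← hinf, kerU, ← hH, inf_comm (H ⊓ _) W₂, ← inf_assoc, inf_eq_left.mpr hW₂]
      rw [inf_eq_right.mpr h1, h0, Subgroup.card_bot, one_pow, one_mul] at hform
      have hLN : L ⊓ Subgroup.centralizer (U : Set G) = L ⊓ N := by
        rw [hNdef, kerU, ← hH, ← inf_assoc, inf_eq_left.mpr hLH]
      rw [hLN] at hform
      refine Subgroup.eq_of_le_of_card_ge (sup_le hLH inf_le_left) ?_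
      -- count `L N`
      have hinj : Function.Injective fun t : (L ⊓ N : Subgroup G) => (⟨t.1, t.2.2⟩ : N) :=
        fun a b e => Subtype.ext (congrArg (fun z : N => (z : G)) e)
      have hNL : N ≤ Subgroup.normalizer (L : Set G) :=
        (inf_le_left.trans (fittingHallOf_le M)).trans hLn
      have hm : Nat.card ↥(L ⊔ N) * Nat.card ↥(L ⊓ N) = Nat.card L * Nat.card N := by
        have h1 : L.relIndex (L ⊔ N) = L.relIndex N := by
          haveI : (L.subgroupOf (L ⊔ N)).Normal := Subgroup.normal_subgroupOf_iff_le_normalizer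
            le_sup_left |>.mpr (sup_le Subgroup.le_normalizer hNL)
          have e := Subgroup.relIndex_sup_left (H := N.subgroupOf (L ⊔ N))
            (K := L.subgroupOf (L ⊔ N))
          rwa [← Subgroup.subgroupOf_sup le_sup_left le_sup_right,
            Subgroup.relIndex_subgroupOf le_rfl, Subgroup.relIndex_subgroupOf le_sup_right] at e
        have h2 : Nat.card ↥(L ⊔ N) = Nat.card L * L.relIndex (L ⊔ N) := by
          rw [← Subgroup.relIndex_bot_left, ← Subgroup.relIndex_bot_left,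
            Subgroup.relIndex_mul_relIndex ⊥ L _ bot_le le_sup_left]
        have h3 : Nat.card N = Nat.card ↥(L ⊓ N) * (L ⊓ N).relIndex N := by
          rw [← Subgroup.relIndex_bot_left, ← Subgroup.relIndex_bot_left,
            Subgroup.relIndex_mul_relIndex ⊥ _ _ bot_le inf_le_right]
        rw [h2, h3, h1, Subgroup.inf_relIndex_right]
        ring
      rw [hform] at hm
      have hm' : Nat.card ↥(L ⊔ N) * Nat.card ↥(L ⊓ N) = Nat.card H * Nat.card ↥(L ⊓ N) := by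
        rw [hm, hcard]; ring
      exact (Nat.eq_of_mul_eq_mul_right Nat.card_pos hm').ge
  have hHnil : Group.IsNilpotent H := isNilpotent_fittingHallOf M
  -- a maximal normal subgroup inside `N`
  obtain ⟨L, ⟨hLN, hLn⟩, hLmax⟩ := (Set.toFinite
    {L : Subgroup G | L ≤ N ∧ M ≤ Subgroup.normalizer (L : Set G)}).exists_maximal
    ⟨⊥, bot_le, fun x _ => by
      rw [Subgroup.mem_normalizer_iff]; intro y; simp [Subgroup.mem_bot]⟩
  have hLH : L ≤ H := hLN.trans inf_le_left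
  have hne : ¬ H ≤ L := fun h => by
    have h2 : W₂ ≤ N ⊓ W₂ := le_inf (hW₂.trans (h.trans hLN)) le_rfl
    rw [hinf] at h2
    exact hP.selfNormalizing.2.1 (le_bot_iff.mp h2)
  -- a minimal normal subgroup above `L`
  obtain ⟨L₁, ⟨hLL₁, hL₁H, hL₁n⟩, hL₁min⟩ := (Set.toFinite
    {K : Subgroup G | L < K ∧ K ≤ H ∧ M ≤ Subgroup.normalizer (K : Set G)}).exists_minimal
    ⟨H, lt_of_le_of_ne hLH (fun e => hne e.ge), le_rfl, hHn⟩
  have hL₁W : W₂ ≤ L₁ ∧ L₁ ⊔ N = H := by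
    refine (hdich L₁ hL₁H hL₁n).resolve_left fun h => ?_
    exact hLL₁.not_ge (hLmax ⟨h, hL₁n⟩ hLL₁.le)
  have hHM : H ≤ M := fittingHallOf_le M
  have hHL : H ≤ Subgroup.normalizer (L : Set G) := hHM.trans hLn
  -- `L₁ / L` is central in `H / L`
  obtain ⟨Z, hZ⟩ := exists_central_sub (L₁ := L₁) hHL
  have hLZ : L ≤ Z := fun x hx => (hZ x).mpr ⟨⟨hLL₁.le hx, hLH hx⟩, fun y hy => by
    rw [show x * y * x⁻¹ * y⁻¹ = x * (y * x⁻¹ * y⁻¹) by group]
    exact mul_mem hx ((Subgroup.mem_normalizer_iff.mp (hHL hy) _).mp (inv_mem hx))⟩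
  have hZn : M ≤ Subgroup.normalizer (Z : Set G) := by
    have key : ∀ t ∈ M, ∀ x ∈ Z, t * x * t⁻¹ ∈ Z := by
      intro t ht x hx
      obtain ⟨⟨hx1, hx2⟩, hxy⟩ := (hZ x).mp hx
      refine (hZ _).mpr ⟨⟨(Subgroup.mem_normalizer_iff.mp (hL₁n ht) x).mp hx1,
        (Subgroup.mem_normalizer_iff.mp (hHn ht) x).mp hx2⟩, fun y hy => ?_⟩
      have hy' : t⁻¹ * y * t ∈ H := by
        simpa using (Subgroup.mem_normalizer_iff.mp (hHn (inv_mem ht)) y).mp hy
      rw [show t * x * t⁻¹ * y * (t * x * t⁻¹)⁻¹ * y⁻¹ =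
        t * (x * (t⁻¹ * y * t) * x⁻¹ * (t⁻¹ * y * t)⁻¹) * t⁻¹ by group]
      exact (Subgroup.mem_normalizer_iff.mp (hLn ht) _).mp (hxy _ hy')
    intro t ht
    rw [Subgroup.mem_normalizer_iff]
    refine fun x => ⟨key t ht x, fun h => ?_⟩
    simpa [mul_assoc] using key t⁻¹ (inv_mem ht) _ h
  have hZeq : L₁ ≤ Z := by
    by_contra hZ1
    -- a central element of `H/L` inside `L₁/L`
    haveI : (L.subgroupOf H).Normal := Subgroup.normal_subgroupOf_iff_le_normalizer hLH |>.mpr hHL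
    set π := QuotientGroup.mk' (L.subgroupOf H)
    set A : Subgroup (H ⧸ L.subgroupOf H) := (L₁.subgroupOf H).map π
    haveI : (L₁.subgroupOf H).Normal :=
      Subgroup.normal_subgroupOf_iff_le_normalizer hL₁H |>.mpr (hHM.trans hL₁n)
    haveI : A.Normal := Subgroup.Normal.map inferInstance _ (QuotientGroup.mk'_surjective _)
    haveI := hHnil
    have hA : A ≠ ⊥ := by
      intro hA
      rw [Subgroup.map_eq_bot_iff, QuotientGroup.ker_mk'] at hA
      exact hLL₁.not_ge fun x hx => hA (show (⟨x, hL₁H hx⟩ : H) ∈ L₁.subgroupOf H from hx)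
    obtain ⟨a, ⟨ha, hac⟩, ha1⟩ := (Subgroup.bot_or_exists_ne_one (A ⊓ Subgroup.center _)).resolve_left
      (CfsgLib.Solvable.inf_center_ne_bot_of_isNilpotent hA)
    obtain ⟨x, hx, rfl⟩ := Subgroup.mem_map.mp ha
    have hxZ : (x : G) ∈ Z := (hZ x).mpr ⟨⟨hx, x.2⟩, fun y hy => by
      have h := Subgroup.mem_center_iff.mp hac (π ⟨y, hy⟩)
      have h2 : π (x * ⟨y, hy⟩ * x⁻¹ * (⟨y, hy⟩ : H)⁻¹) = 1 := by
        simp only [map_mul, map_inv]
        rw [← h]; group
      exact (QuotientGroup.eq_one_iff (N := L.subgroupOf H) _).mp h2⟩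
    have hxL : (x : G) ∉ L := fun h => ha1 ((QuotientGroup.eq_one_iff _).mpr h)
    refine hZ1 (hL₁min ⟨lt_of_le_of_ne hLZ fun e => hxL (e ▸ hxZ), ?_, hZn⟩ ?_)
    · exact fun z hz => ((hZ z).mp hz).1.2
    · exact fun z hz => ((hZ z).mp hz).1.1
  have hNn : M ≤ Subgroup.normalizer (N : Set G) := by
    have key : ∀ g ∈ H, ∀ n ∈ N, g * n * g⁻¹ ∈ N := by
      intro g hg n hn
      rw [← hL₁W.2] at hg
      have hn' : N ≤ Subgroup.normalizer (L₁ : Set G) := (inf_le_left.trans hHM).trans hL₁n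
      rw [← SetLike.mem_coe, sup_comm, Subgroup.coe_mul_of_left_le_normalizer_right N L₁ hn'] at hg
      obtain ⟨a, ha, l, hl, rfl⟩ := Set.mem_mul.mp hg
      have h1 := ((hZ l).mp (hZeq hl)).2 n hn.1
      rw [show a * l * n * (a * l)⁻¹ = a * ((l * n * l⁻¹ * n⁻¹) * n) * a⁻¹ by group]
      exact mul_mem (mul_mem ha (mul_mem (hLN h1) hn)) (inv_mem ha)
    have hW := normalizer_kerU hP
    intro t ht
    obtain ⟨d, hd, w, hw, rfl⟩ := hP.W₁_compl.2.2.2 t ht
    obtain ⟨a, ha, b, hb, rfl⟩ := hP.U_compl.2.2.2 d hd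
    have haN : a ∈ Subgroup.normalizer (N : Set G) := by
      rw [Subgroup.mem_normalizer_iff]
      refine fun x => ⟨key a ha x, fun h => ?_⟩
      simpa [mul_assoc] using key a⁻¹ (inv_mem ha) _ h
    exact mul_mem (mul_mem haN (hW (Subgroup.mem_sup_left hb))) (hW (Subgroup.mem_sup_right hw))
  have hLeq : L = N := le_antisymm hLN (hLmax ⟨le_rfl, hNn⟩ hLN)
  have hL₁eq : L₁ = H := by
    rw [← hL₁W.2, eq_comm, sup_eq_left, ← hLeq]
    exact hLL₁.le
  have hcomm : ⁅H, H⁆ ≤ N := by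
    rw [Subgroup.commutator_le]
    intro x hx y hy
    rw [commutatorElement_def, ← hLeq]
    exact ((hZ x).mp (hZeq (hL₁eq.symm ▸ hx))).2 y hy
  have hmin : ∀ K : Subgroup G, N ≤ K → K ≤ H → M ≤ Subgroup.normalizer (K : Set G) →
      K = N ∨ K = H := fun K h1 h2 h3 => by
    rcases hdich K h2 h3 with h | ⟨-, h⟩
    · exact Or.inl (le_antisymm h h1)
    · exact Or.inr (by rwa [sup_eq_left.mpr h1] at h)
  have hHs : Group.IsSolvable H := inferInstance
  have hUH : U ≤ Subgroup.normalizer (H : Set G) := (typeP_U_le hP).trans hHn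
  have hcU : (Nat.card U).Coprime (Nat.card H) := (typeP_coprime_U hP).symm
  have hsup : ⁅H, U⁆ ⊔ N = H :=
    CfsgLib.Solvable.commutator_sup_centralizer hUH hcU (Or.inr hHs)
  refine ⟨hinf, hcard, hNn, hcomm, ?_, hmin, hsup, ?_, ?_⟩
  · -- exponent
    set p := Nat.card W₂
    have hpow : ∀ a ∈ H, ∀ b ∈ H, ∀ k : ℕ, (a * b) ^ k * (a ^ k * b ^ k)⁻¹ ∈ N := by
      intro a ha b hb k
      haveI : (N.subgroupOf H).Normal :=
        Subgroup.normal_subgroupOf_iff_le_normalizer inf_le_left |>.mpr (hHM.trans hNn)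
      have hab : Commute (QuotientGroup.mk' (N.subgroupOf H) ⟨a, ha⟩)
          (QuotientGroup.mk' (N.subgroupOf H) ⟨b, hb⟩) := by
        show _ = _
        rw [← map_mul, ← map_mul, QuotientGroup.mk'_apply, QuotientGroup.mk'_apply,
          QuotientGroup.eq, Subgroup.mem_subgroupOf]
        show (a * b)⁻¹ * (b * a) ∈ N
        rw [show (a * b)⁻¹ * (b * a) = b⁻¹ * a⁻¹ * b⁻¹⁻¹ * a⁻¹⁻¹ by group]
        exact hcomm (Subgroup.commutator_mem_commutator (inv_mem hb) (inv_mem ha))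
      have h := hab.mul_pow k
      rw [← map_mul, ← map_pow, ← map_pow, ← map_pow, ← map_mul, eq_comm, QuotientGroup.mk'_apply,
        QuotientGroup.mk'_apply, QuotientGroup.eq, Subgroup.mem_subgroupOf] at h
      have h' : (a ^ k * b ^ k)⁻¹ * (a * b) ^ k ∈ N := h
      rw [show (a * b) ^ k * (a ^ k * b ^ k)⁻¹ =
        (a ^ k * b ^ k) * ((a ^ k * b ^ k)⁻¹ * (a * b) ^ k) * (a ^ k * b ^ k)⁻¹ by group]
      exact (Subgroup.mem_normalizer_iff.mp
        (hHM.trans hNn (mul_mem (pow_mem ha k) (pow_mem hb k))) _).mp h'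
    let K : Subgroup G := {
      carrier := {x | x ∈ H ∧ x ^ p ∈ N}
      one_mem' := ⟨one_mem _, by simp [one_mem]⟩
      mul_mem' := fun {a b} ha hb => ⟨mul_mem ha.1 hb.1, by
        have := mul_mem (hpow a ha.1 b hb.1 p) (mul_mem ha.2 hb.2)
        rwa [inv_mul_cancel_right] at this⟩
      inv_mem' := fun {a} ha => ⟨inv_mem ha.1, by rw [inv_pow]; exact inv_mem ha.2⟩ }
    have hKn : M ≤ Subgroup.normalizer (K : Set G) := by
      intro t ht
      rw [Subgroup.mem_normalizer_iff]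
      intro x
      show (x ∈ H ∧ x ^ p ∈ N) ↔ (t * x * t⁻¹ ∈ H ∧ (t * x * t⁻¹) ^ p ∈ N)
      rw [conj_pow, ← Subgroup.mem_normalizer_iff.mp (hHn ht) x,
        ← Subgroup.mem_normalizer_iff.mp (hNn ht) (x ^ p)]
    have hWK : W₂ ≤ K := fun x hx => ⟨hW₂ hx, by
      have h1 : x ^ p = 1 := congrArg Subtype.val (pow_card_eq_one' (x := (⟨x, hx⟩ : W₂)))
      rw [h1]; exact one_mem _⟩
    rcases hmin K (fun x hx => ⟨hx.1, pow_mem hx _⟩) (fun x hx => hx.1) hKn with h | h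
    · exfalso
      have h2 : W₂ ≤ N ⊓ W₂ := le_inf (hWK.trans h.le) le_rfl
      rw [hinf] at h2
      exact hP.selfNormalizing.2.1 (le_bot_iff.mp h2)
    · exact fun x hx => (h.ge hx).2
  · -- three subgroups
    rw [← Subgroup.commutator_eq_bot_iff_le_centralizer, Subgroup.commutator_comm]
    refine Subgroup.commutator_commutator_eq_bot_of_rotate ?_ ?_
    · rw [Subgroup.commutator_comm U N, Subgroup.commutator_eq_bot_iff_le_centralizer.mpr
        (show N ≤ Subgroup.centralizer (U : Set G) from inf_le_right), Subgroup.commutator_bot_left]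
    · have h : ⁅N, H⁆ ≤ N := by
        rw [Subgroup.commutator_comm]
        exact (Subgroup.commutator_mono le_rfl inf_le_left).trans hcomm
      refine le_bot_iff.mp ((Subgroup.commutator_mono h le_rfl).trans ?_)
      rw [Subgroup.commutator_eq_bot_iff_le_centralizer.mpr
        (show N ≤ Subgroup.centralizer (U : Set G) from inf_le_right)]
  · intro u hu hmem
    have huM : u ∈ M := typeP_U_le hP hu
    have hzH : Subgroup.zpowers u ≤ Subgroup.normalizer (H : Set G) :=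
      Subgroup.zpowers_le.mpr (hHn huM)
    have hcop : (Nat.card (Subgroup.zpowers u)).Coprime (Nat.card H) :=
      hcU.coprime_dvd_left (Subgroup.card_dvd_of_le (Subgroup.zpowers_le.mpr hu))
    have hself := CfsgLib.Solvable.commutator_commutator_self hzH hcop (Or.inr hHs)
    -- the set of elements commuting modulo `N` is a subgroup
    let T : Subgroup G := {
      carrier := {t | t ∈ M ∧ ∀ x ∈ H, x * t * x⁻¹ * t⁻¹ ∈ N}
      one_mem' := ⟨one_mem _, fun x _ => by simp [one_mem]⟩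
      mul_mem' := fun {a b} ha hb => ⟨mul_mem ha.1 hb.1, fun x hx => by
        rw [show x * (a * b) * x⁻¹ * (a * b)⁻¹ =
          (x * a * x⁻¹ * a⁻¹) * (a * (x * b * x⁻¹ * b⁻¹) * a⁻¹) by group]
        exact mul_mem (ha.2 x hx) ((Subgroup.mem_normalizer_iff.mp (hNn ha.1) _).mp (hb.2 x hx))⟩
      inv_mem' := fun {a} ha => ⟨inv_mem ha.1, fun x hx => by
        rw [show x * a⁻¹ * x⁻¹ * a⁻¹⁻¹ = a⁻¹ * (x * a * x⁻¹ * a⁻¹)⁻¹ * a⁻¹⁻¹ by group]
        exact (Subgroup.mem_normalizer_iff.mp (hNn (inv_mem ha.1)) _).mp (inv_mem (ha.2 x hx))⟩ }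
    have hle : ⁅H, Subgroup.zpowers u⁆ ≤ N := by
      rw [Subgroup.commutator_le]
      intro x hx t ht
      rw [commutatorElement_def]
      exact ((Subgroup.zpowers_le.mpr (show u ∈ T from ⟨huM, hmem⟩)) ht).2 x hx
    have hNu : ⁅N, Subgroup.zpowers u⁆ = ⊥ := le_bot_iff.mp
      ((Subgroup.commutator_mono le_rfl (Subgroup.zpowers_le.mpr hu)).trans
        (Subgroup.commutator_eq_bot_iff_le_centralizer.mpr (inf_le_right : N ≤ _)).le)
    have h0 : ⁅H, Subgroup.zpowers u⁆ = ⊥ := by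
      rw [← hself]
      exact le_bot_iff.mp ((Subgroup.commutator_mono hle le_rfl).trans hNu.le)
    exact Subgroup.le_centralizer_iff.mp (Subgroup.commutator_eq_bot_iff_le_centralizer.mp h0)
      (Subgroup.mem_zpowers u)

end CfsgLib.OddChar.Prime
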