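import Cfsg.Agent.Lib.OddChar.Inertia

/-!
# Characters induced from linear characters in a semidirect product

`IsSemi H U₁ lam ψ θ`: `θ` is induced from the linear character of `H ⊔ U₁` which is `lam` on `H`
and `ψ` on `U₁`, where `U₁` is the stabiliser of `lam` in a complement `V`.
* `exists_semi`: existence; `IsSemi.irr`, `IsSemi.apply_one`, `IsSemi.ker`;
* `IsSemi.res_inner`, `IsSemi.psi_eq`: when two of them are equal;
* `IsSemi.comp_aut`: automorphisms.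
-/

set_option autoImplicit false
set_option linter.unusedSectionVars false

namespace CfsgLib.OddChar.SemiInd

open CfsgLib.Char CfsgLib.CharNormal
open scoped ComplexConjugate

universe u

variable {K : Type u} [Group K] [Fintype K] {H V U₁ : Subgroup K} [hN : H.Normal]

/-- `U₁` is the stabiliser of `lam` in `V`. -/
structure IsStab (H V U₁ : Subgroup K) [H.Normal] (lam : H →* ℂˣ) : Prop where
  inf : H ⊓ V = ⊥
  sup : H ⊔ V = ⊤
  le : U₁ ≤ V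
  mem : ∀ v ∈ V, v ∈ U₁ ↔
    ∀ h : H, lam ⟨v * h * v⁻¹, ‹H.Normal›.conj_mem h h.2 v⟩ = lam h

/-- The induced character. -/
def IsSemi (H U₁ : Subgroup K) (lam : H →* ℂˣ) (ψ : U₁ →* ℂˣ) (θ : K → ℂ) : Prop :=
  ∃ ν : ↥(H ⊔ U₁) →* ℂˣ, (∀ h : H, ν ⟨h, Subgroup.mem_sup_left h.2⟩ = lam h) ∧
    (∀ v : U₁, ν ⟨v, Subgroup.mem_sup_right v.2⟩ = ψ v) ∧
    θ = Cfsg.indFun (H ⊔ U₁) fun t => (ν t : ℂ)

variable {lam : H →* ℂˣ} (hs : IsStab H V U₁ lam)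
include hs

theorem unique {a a' b b' : K} (ha : a ∈ H) (ha' : a' ∈ H) (hb : b ∈ V) (hb' : b' ∈ V)
    (e : a * b = a' * b') : a = a' ∧ b = b' := by
  have h : a'⁻¹ * a = b' * b⁻¹ := by rw [eq_mul_inv_iff_mul_eq, mul_assoc, e, inv_mul_cancel_left]
  have h1 : a'⁻¹ * a ∈ H ⊓ V := Subgroup.mem_inf.mpr
    ⟨H.mul_mem (H.inv_mem ha') ha, by rw [h]; exact V.mul_mem hb' (V.inv_mem hb)⟩
  rw [hs.inf, Subgroup.mem_bot, inv_mul_eq_one] at h1
  subst h1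
  exact ⟨rfl, mul_left_cancel e⟩

/-- The characters exist. -/
theorem exists_semi (ψ : U₁ →* ℂˣ) : ∃ θ, IsSemi H U₁ lam ψ θ := by
  choose a ha b hb he using fun t : ↥(H ⊔ U₁) => Subgroup.mem_sup_of_normal_left.mp t.2
  refine ⟨_, MonoidHom.mk' (fun t => lam ⟨a t, ha t⟩ * ψ ⟨b t, hb t⟩) (fun t t' => ?_),
    fun h => ?_, fun v => ?_, rfl⟩
  · have hm : a t * (b t * a t' * (b t)⁻¹) ∈ H := mul_mem (ha t) (hN.conj_mem _ (ha t') _)
    have e : a t * (b t * a t' * (b t)⁻¹) * (b t * b t') = a (t * t') * b (t * t') := by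
      rw [he (t * t'), Subgroup.coe_mul, ← he t, ← he t']; group
    obtain ⟨e1, e2⟩ := unique hs hm (ha _) (hs.le (mul_mem (hb t) (hb t'))) (hs.le (hb _)) e
    have h1 : (⟨a (t * t'), ha _⟩ : H) =
        ⟨a t, ha t⟩ * ⟨b t * a t' * (b t)⁻¹, hN.conj_mem _ (ha t') _⟩ := Subtype.ext e1.symm
    have h2 : (⟨b (t * t'), hb _⟩ : U₁) = ⟨b t, hb t⟩ * ⟨b t', hb t'⟩ := Subtype.ext e2.symm
    show lam _ * ψ _ = _
    rw [h1, h2, map_mul, map_mul,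
      (hs.mem _ (hs.le (hb t))).mp (hb t) ⟨a t', ha t'⟩, mul_mul_mul_comm]
  · set t : ↥(H ⊔ U₁) := ⟨h, Subgroup.mem_sup_left h.2⟩
    obtain ⟨e1, e2⟩ := unique hs (ha t) h.2 (hs.le (hb t)) (one_mem V)
      (by rw [he t, mul_one])
    show lam _ * ψ _ = _
    rw [show (⟨a t, ha t⟩ : H) = h from Subtype.ext e1,
      show (⟨b t, hb t⟩ : U₁) = 1 from Subtype.ext e2, map_one, mul_one]
  · set t : ↥(H ⊔ U₁) := ⟨v, Subgroup.mem_sup_right v.2⟩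
    obtain ⟨e1, e2⟩ := unique hs (ha t) (one_mem H) (hs.le (hb t)) (hs.le v.2)
      (by rw [he t, one_mul])
    show lam _ * ψ _ = _
    rw [show (⟨a t, ha t⟩ : H) = 1 from Subtype.ext e1,
      show (⟨b t, hb t⟩ : U₁) = v from Subtype.ext e2, map_one, one_mul]

omit hs in
theorem isIrr_lin {T : Subgroup K} (ν : T →* ℂˣ) :
    Cfsg.IsIrrCharacter T fun t => (ν t : ℂ) :=
  isIrrCharacter_hom ((Units.coeHom ℂ).comp ν)

theorem inertia_iff (g : K) :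
    g ∈ H ⊔ U₁ ↔ conjFun H g (fun h => (lam h : ℂ)) = fun h => (lam h : ℂ) := by
  have hcl : Cfsg.IsClassFunction H fun h => (lam h : ℂ) :=
    isClassFunction_of_isIrr (isIrr_lin lam)
  have hH : ∀ a ∈ H, ∀ v, (conjFun H (a * v) (fun h => (lam h : ℂ)) = fun h => (lam h : ℂ)) ↔
      conjFun H v (fun h => (lam h : ℂ)) = fun h => (lam h : ℂ) := fun a ha v => by
    rw [← conjFun_conjFun, conjFun_of_mem H hcl ha]
  constructor
  · intro hg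
    obtain ⟨a, ha, v, hv, rfl⟩ := Subgroup.mem_sup_of_normal_left.mp hg
    rw [hH a ha]
    exact funext fun h => congrArg Units.val ((hs.mem v (hs.le hv)).mp hv h)
  · intro hg
    obtain ⟨a, ha, v, hv, rfl⟩ :=
      Subgroup.mem_sup_of_normal_left.mp (hs.sup ▸ Subgroup.mem_top g)
    rw [hH a ha] at hg
    exact mul_mem (Subgroup.mem_sup_left ha)
      (Subgroup.mem_sup_right ((hs.mem v hv).mpr fun h => Units.ext (congrFun hg h)))

theorem card_sup : Nat.card ↥(H ⊔ U₁) = Nat.card H * Nat.card U₁ := by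
  rw [← Nat.card_prod]
  refine (Nat.card_congr (Equiv.ofBijective (fun x : H × U₁ =>
    (⟨x.1 * x.2, mul_mem (Subgroup.mem_sup_left x.1.2) (Subgroup.mem_sup_right x.2.2)⟩ :
      ↥(H ⊔ U₁))) ⟨fun x y e => ?_, fun t => ?_⟩)).symm
  · obtain ⟨e1, e2⟩ := unique hs x.1.2 y.1.2 (hs.le x.2.2) (hs.le y.2.2) (congrArg Subtype.val e)
    exact Prod.ext (Subtype.ext e1) (Subtype.ext e2)
  · obtain ⟨a, ha, b, hb, e⟩ := Subgroup.mem_sup_of_normal_left.mp t.2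
    exact ⟨⟨⟨a, ha⟩, ⟨b, hb⟩⟩, Subtype.ext e⟩

theorem index_sup : (H ⊔ U₁).index * Nat.card U₁ = Nat.card V := by
  have hs' : IsStab H V V (1 : H →* ℂˣ) := ⟨hs.inf, hs.sup, le_rfl, fun v hv => by simp [hv]⟩
  have hV := card_sup hs'
  rw [hs.sup, Subgroup.card_top, ← (H ⊔ U₁).index_mul_card, card_sup hs] at hV
  refine Nat.eq_of_mul_eq_mul_right (Nat.card_pos (α := H)) ?_
  linarith [hV]

namespace IsSemi

variable {ψ : U₁ →* ℂˣ} {θ : K → ℂ} (hθ : IsSemi H U₁ lam ψ θ)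
include hθ

theorem irr : Cfsg.IsIrrCharacter K θ := by
  classical
  obtain ⟨ν, h1, -, rfl⟩ := hθ
  refine (indFun_irr_of_inertia H (H ⊔ U₁) (isIrr_lin lam) (inertia_iff hs) le_sup_left
    (isIrr_lin ν) ?_).1
  simp only [h1]
  rw [classInner_irr_self (isIrr_lin lam)]
  exact one_ne_zero

theorem apply_one : θ 1 = ((H ⊔ U₁).index : ℂ) := by
  obtain ⟨ν, -, -, rfl⟩ := hθ
  rw [indFun_one, map_one, Units.val_one, mul_one]

theorem ker (h : H) (h1 : ∀ g : K, lam ⟨g * h * g⁻¹, hN.conj_mem h h.2 g⟩ = 1) :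
    θ h = θ 1 := by
  classical
  obtain ⟨ν, e1, -, rfl⟩ := hθ
  rw [indFun_apply, indFun_apply]
  congr 1
  refine Finset.sum_congr rfl fun x _ => ?_
  have hm : x⁻¹ * (h : K) * x ∈ H := by simpa using hN.conj_mem _ h.2 x⁻¹
  have hx : (⟨x⁻¹ * (h : K) * x, hm⟩ : H) = ⟨x⁻¹ * (h : K) * x⁻¹⁻¹, hN.conj_mem _ h.2 _⟩ :=
    Subtype.ext (by simp)
  have h' := (congrArg lam hx).trans (h1 x⁻¹)
  rw [show x⁻¹ * 1 * x = 1 by group, extendByZero_of_mem _ (Subgroup.mem_sup_left hm),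
    extendByZero_of_mem _ (one_mem _), show ν ⟨1, one_mem _⟩ = 1 from map_one ν,
    e1 ⟨_, hm⟩, h']

open Classical in
theorem res_inner (μ : H →* ℂˣ) :
    Cfsg.classInner (fun h : H => θ h) (fun h => (μ h : ℂ)) ≠ 0 ↔
      ∃ g : K, conjFun H g (fun h => (lam h : ℂ)) = fun h => (μ h : ℂ) := by
  obtain ⟨ν, e1, -, rfl⟩ := hθ
  have hres : (fun h : H => Cfsg.indFun (H ⊔ U₁) (fun t => (ν t : ℂ)) h) =
      ((Nat.card ↥(H ⊔ U₁) : ℂ))⁻¹ •
        ∑ x : K, conjFun H x⁻¹ (fun h => (lam h : ℂ)) := by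
    funext h
    rw [indFun_apply, Pi.smul_apply, Finset.sum_apply, smul_eq_mul]
    congr 1
    refine Finset.sum_congr rfl fun x _ => ?_
    have hm : x⁻¹ * (h : K) * x ∈ H := by simpa using hN.conj_mem _ h.2 x⁻¹
    rw [extendByZero_of_mem _ (Subgroup.mem_sup_left hm), e1 ⟨_, hm⟩, conjFun_apply]
    simp
  have hin : ∀ x : K, Cfsg.classInner (conjFun H x⁻¹ (fun h => (lam h : ℂ)))
      (fun h => (μ h : ℂ)) =
      if conjFun H x⁻¹ (fun h => (lam h : ℂ)) = (fun h => (μ h : ℂ)) then 1 else 0 := fun x => by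
    split_ifs with e
    · rw [e]; exact classInner_irr_self (isIrr_lin μ)
    · exact classInner_irr_ne (isIrr_conjFun H (isIrr_lin lam) _) (isIrr_lin μ) e
  rw [hres, classInner_smul_left, classInner_sum_left, Finset.sum_congr rfl fun x _ => hin x,
    Finset.sum_boole, mul_ne_zero_iff,
    and_iff_right (inv_ne_zero (Nat.cast_ne_zero.mpr Nat.card_pos.ne')), Nat.cast_ne_zero,
    Finset.card_ne_zero]
  constructor
  · rintro ⟨x, hx⟩
    exact ⟨x⁻¹, (Finset.mem_filter.mp hx).2⟩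
  · rintro ⟨g, hg⟩
    exact ⟨g⁻¹, Finset.mem_filter.mpr ⟨Finset.mem_univ _, by rw [inv_inv]; exact hg⟩⟩

theorem psi_eq {ψ' : U₁ →* ℂˣ} (hθ' : IsSemi H U₁ lam ψ' θ) : ψ = ψ' := by
  classical
  obtain ⟨ν, h1, h2, e⟩ := hθ
  obtain ⟨ν', h1', h2', e'⟩ := hθ'
  have hov : ∀ ν : ↥(H ⊔ U₁) →* ℂˣ, (∀ h : H, ν ⟨h, Subgroup.mem_sup_left h.2⟩ = lam h) →
      Cfsg.classInner (fun n : H => (ν ⟨n, Subgroup.mem_sup_left n.2⟩ : ℂ))
        (fun h => (lam h : ℂ)) ≠ 0 := fun ν h => by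
    simp only [h, classInner_irr_self (isIrr_lin lam)]
    exact one_ne_zero
  have := (indFun_irr_of_inertia H (H ⊔ U₁) (isIrr_lin lam) (inertia_iff hs) le_sup_left
    (isIrr_lin ν) (hov ν h1)).2 _ (isIrr_lin ν') (hov ν' h1') (e'.symm.trans e)
  ext v
  rw [← h2, ← h2']
  exact (congrFun this _).symm

/-- An automorphism fixing the linear data fixes the character. -/
theorem comp_aut (σ : K ≃* K) (hH : ∀ h : H, σ h ∈ H) (hU : ∀ v : U₁, σ v ∈ U₁)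
    (hlam : ∀ h : H, lam ⟨σ h, hH h⟩ = lam h) (hψ : ∀ v : U₁, ψ ⟨σ v, hU v⟩ = ψ v) :
    (fun g => θ (σ g)) = θ := by
  classical
  obtain ⟨ν, h1, h2, rfl⟩ := hθ
  have hT : ∀ t, t ∈ H ⊔ U₁ → ∀ ht : σ t ∈ H ⊔ U₁, ∀ ht' : t ∈ H ⊔ U₁,
      ν ⟨σ t, ht⟩ = ν ⟨t, ht'⟩ := by
    intro t htm ht ht'
    obtain ⟨a, ha, b, hb, rfl⟩ := Subgroup.mem_sup_of_normal_left.mp htm
    rw [show (⟨a * b, ht'⟩ : ↥(H ⊔ U₁)) =
        ⟨a, Subgroup.mem_sup_left ha⟩ * ⟨b, Subgroup.mem_sup_right hb⟩ from rfl,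
      show (⟨σ (a * b), ht⟩ : ↥(H ⊔ U₁)) = ⟨σ a, Subgroup.mem_sup_left (hH ⟨a, ha⟩)⟩ *
        ⟨σ b, Subgroup.mem_sup_right (hU ⟨b, hb⟩)⟩ from Subtype.ext (map_mul σ a b),
      map_mul, map_mul, h1 ⟨σ a, hH ⟨a, ha⟩⟩, h1 ⟨a, ha⟩, hlam ⟨a, ha⟩,
      h2 ⟨σ b, hU ⟨b, hb⟩⟩, h2 ⟨b, hb⟩, hψ ⟨b, hb⟩]
  have hle : (H ⊔ U₁).map σ.toMonoidHom = H ⊔ U₁ := by
    refine Subgroup.eq_of_le_of_card_ge ?_
      (Nat.card_congr (Subgroup.equivMapOfInjective _ σ.toMonoidHom σ.injective).toEquiv).le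
    rw [Subgroup.map_sup]
    refine sup_le_sup ?_ ?_
    · rintro _ ⟨a, ha, rfl⟩; exact hH ⟨a, ha⟩
    · rintro _ ⟨a, ha, rfl⟩; exact hU ⟨a, ha⟩
  have hiff : ∀ t, σ t ∈ H ⊔ U₁ ↔ t ∈ H ⊔ U₁ := fun t => by
    constructor
    · intro ht
      rw [← hle] at ht
      obtain ⟨s, hs', e⟩ := ht
      exact σ.injective e ▸ hs'
    · intro ht; rw [← hle]; exact ⟨t, ht, rfl⟩
  funext g
  rw [indFun_apply, indFun_apply, ← Equiv.sum_comp σ.toEquiv]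
  congr 1
  refine Finset.sum_congr rfl fun x _ => ?_
  have e : (σ.toEquiv x)⁻¹ * σ g * σ.toEquiv x = σ (x⁻¹ * g * x) := by simp
  rw [e]
  by_cases h : x⁻¹ * g * x ∈ H ⊔ U₁
  · rw [extendByZero_of_mem _ h, extendByZero_of_mem _ ((hiff _).mpr h), hT _ h _ h]
  · rw [extendByZero_of_notMem _ h, extendByZero_of_notMem _ fun h' => h ((hiff _).mp h')]

end IsSemi

end CfsgLib.OddChar.SemiInd
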