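import Cfsg.Agent.Lib.OddChar.Prime.Lines
import Cfsg.Agent.Lib.OddChar.Prime.SemiInd
import Cfsg.Agent.Lib.OddChar.Prime.Basic
import Cfsg.Agent.Lib.Schur.Trivial

/-!
# The columns for types II, III and IV

* `subK`: subgroups of `M'` seen inside `commutator M`;
* `exists_hom_q`: the `W₁`-invariant linear characters of `H / C_H(U)`;
* `Fam.columns`: every nonprincipal column has sign `1` and degree `|U : C_U(H)|`.
-/

set_option autoImplicit false
set_option linter.unusedSectionVars false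

namespace CfsgLib.OddChar.Prime

open CfsgLib.Char CfsgLib.CharNormal
open CfsgLib.OddLocal
open CfsgLib.OddChar

universe u

variable {G : Type u} [Group G]

/-- A subgroup of `G` seen inside `commutator M`. -/
def subK (M X : Subgroup G) : Subgroup (commutator M) :=
  (X.subgroupOf M).subgroupOf (commutator M)

theorem mem_subK {M X : Subgroup G} {k : commutator M} : k ∈ subK M X ↔ ((k : M) : G) ∈ X :=
  Iff.rfl

theorem coe_mem_derived {M : Subgroup G} (k : commutator M) : ((k : M) : G) ∈ ⁅M, M⁆ :=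
  (mem_commutator_iff M (k : M)).mp k.2

/-- An element of `M'` inside `commutator M`. -/
def toK {M : Subgroup G} (x : G) (hx : x ∈ ⁅M, M⁆) : commutator M :=
  ⟨⟨x, Subgroup.commutator_le_self M hx⟩, (mem_commutator_iff M _).mpr hx⟩

@[simp] theorem toK_coe {M : Subgroup G} (x : G) (hx : x ∈ ⁅M, M⁆) :
    ((toK x hx : commutator M) : M) = (⟨x, Subgroup.commutator_le_self M hx⟩ : M) := rfl

theorem card_subK {M X : Subgroup G} (hX : X ≤ ⁅M, M⁆) :
    Nat.card (subK M X) = Nat.card X :=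
  Nat.card_congr
    { toFun := fun k => ⟨((k.1 : M) : G), k.2⟩
      invFun := fun x => ⟨toK (x : G) (hX x.2), x.2⟩
      left_inv := fun _ => rfl
      right_inv := fun _ => rfl }

variable [Finite G] {M W₁ U W₂ : Subgroup G}

instance subK_normal : (subK M (Cfsg.fittingHallOf M)).Normal :=
  ⟨fun n hn g => (Subgroup.mem_normalizer_iff.mp (le_normalizer_fittingHallOf M (g : M).2) _).mp hn⟩

theorem subK_inf (hP : Cfsg.IsTypePWith M W₁ U W₂) :
    subK M (Cfsg.fittingHallOf M) ⊓ subK M U = ⊥ :=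
  (Subgroup.eq_bot_iff_forall _).mpr fun k hk => by
    have h : ((k : M) : G) ∈ Cfsg.fittingHallOf M ⊓ U := ⟨hk.1, hk.2⟩
    rw [hP.U_compl.2.2.1, Subgroup.mem_bot] at h
    exact Subtype.ext (Subtype.ext h)

theorem subK_sup (hP : Cfsg.IsTypePWith M W₁ U W₂) :
    subK M (Cfsg.fittingHallOf M) ⊔ subK M U = ⊤ :=
  eq_top_iff.mpr fun k _ => by
    obtain ⟨a, ha, b, hb, e⟩ := hP.U_compl.2.2.2 _ (coe_mem_derived k)
    rw [show k = toK a (hP.U_compl.1 ha) * toK b (hP.U_compl.2.1 hb) from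
      Subtype.ext (Subtype.ext e)]
    exact mul_mem (Subgroup.mem_sup_left (show a ∈ _ from ha))
      (Subgroup.mem_sup_right (show b ∈ _ from hb))

/-- The `W₁`-invariant linear characters of `H` trivial on `C_H(U)`. -/
theorem exists_hom_q (hP : Cfsg.IsTypePWith M W₁ U W₂) (hch : Chief M W₁ U W₂)
    (χ : W₂ →* ℂˣ) :
    ∃ lam : Cfsg.fittingHallOf M →* ℂˣ,
      (∀ x : Cfsg.fittingHallOf M, (x : G) ∈ kerU M U → lam x = 1) ∧
      (∀ w ∈ W₁, ∀ x y : Cfsg.fittingHallOf M, (y : G) = w * x * w⁻¹ → lam y = lam x) ∧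
      ∀ (z : W₂) (x : Cfsg.fittingHallOf M), (x : G) = z → lam x = χ z ^ Nat.card W₁ := by
  classical
  have := Fintype.ofFinite W₁
  set H := Cfsg.fittingHallOf M with hH
  set N := kerU M U with hN
  haveI : (N.subgroupOf H).Normal := Subgroup.normal_subgroupOf_iff_le_normalizer inf_le_left
    |>.mpr ((fittingHallOf_le M).trans hch.normal)
  letI : CommGroup (↥H ⧸ N.subgroupOf H) :=
    { (inferInstance : Group (↥H ⧸ N.subgroupOf H)) with
      mul_comm := fun a b => by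
        obtain ⟨x, rfl⟩ := QuotientGroup.mk_surjective a
        obtain ⟨y, rfl⟩ := QuotientGroup.mk_surjective b
        rw [← QuotientGroup.mk_mul, ← QuotientGroup.mk_mul, QuotientGroup.eq,
          Subgroup.mem_subgroupOf]
        show ((x : G) * y)⁻¹ * (y * x) ∈ N
        rw [show ((x : G) * y)⁻¹ * (y * x) = (y : G)⁻¹ * (x : G)⁻¹ * (y : G)⁻¹⁻¹ * (x : G)⁻¹⁻¹ by
          group]
        exact hch.comm (Subgroup.commutator_mem_commutator (inv_mem y.2) (inv_mem x.2)) }
  have hW₂H : W₂ ≤ H := hP.W₂_le.trans inf_le_left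
  have := hP.selfNormalizing.2.2.2.2.1
  haveI : IsCyclic W₂ := Subgroup.isCyclic_of_le (le_sup_right : W₂ ≤ W₁ ⊔ W₂)
  letI : CommGroup W₂ := IsCyclic.commGroup
  let i : W₂ →* ↥H ⧸ N.subgroupOf H :=
    (QuotientGroup.mk' _).comp (Subgroup.inclusion hW₂H)
  have hi : Function.Injective i := by
    refine (injective_iff_map_eq_one i).mpr fun z hz => ?_
    have h1 : (z : G) ∈ N ⊓ W₂ :=
      ⟨(QuotientGroup.eq_one_iff (N := N.subgroupOf H) _).mp hz, z.2⟩
    rw [hch.inf, Subgroup.mem_bot] at h1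
    exact Subtype.ext h1
  obtain ⟨g, hg⟩ := CfsgLib.Schur.exists_hom_extend i hi χ
  have hWH : W₁ ≤ Subgroup.normalizer (H : Set G) :=
    hP.W₁_compl.2.1.trans (le_normalizer_fittingHallOf M)
  let ac : W₁ → MulAut ↥H := fun v => (Subgroup.normalizerMonoidHom H) ⟨v, hWH v.2⟩
  have hac : ∀ (v : W₁) (x : ↥H), ((ac v x : ↥H) : G) = v * x * (v : G)⁻¹ := fun _ _ => rfl
  let g₀ : ↥H →* ℂˣ := g.comp (QuotientGroup.mk' _)
  refine ⟨∏ w : W₁, g₀.comp (ac w).toMonoidHom, fun x hx => ?_, fun w hw x y e => ?_,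
    fun z x e => ?_⟩
  · rw [MonoidHom.finsetProd_apply]
    refine Finset.prod_eq_one fun w _ => ?_
    show g (QuotientGroup.mk' _ (ac w x)) = 1
    rw [show QuotientGroup.mk' (N.subgroupOf H) (ac w x) = 1 from (QuotientGroup.eq_one_iff _).mpr
      ((Subgroup.mem_normalizer_iff.mp (hch.normal (hP.W₁_compl.2.1 w.2)) _).mp hx), map_one]
  · rw [MonoidHom.finsetProd_apply, MonoidHom.finsetProd_apply]
    refine Fintype.prod_equiv (Equiv.mulRight (⟨w, hw⟩ : W₁)) _ _ fun v => ?_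
    show g₀ (ac v y) = g₀ (ac (v * ⟨w, hw⟩) x)
    congr 1
    exact Subtype.ext (by simp [hac, e, mul_assoc])
  · rw [MonoidHom.finsetProd_apply]
    refine (Finset.prod_eq_pow_card (b := χ z) fun w _ => ?_).trans (by
      rw [Finset.card_univ, ← Nat.card_eq_fintype_card])
    show g (QuotientGroup.mk' _ (ac w x)) = χ z
    rw [← hg]
    show g _ = g _
    refine congrArg g (congrArg (QuotientGroup.mk' _) (Subtype.ext ?_))
    rw [hac, e]
    show (w : G) * z * (w : G)⁻¹ = z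
    rw [hP.selfNormalizing.2.2.2.1 _ w.2 _ z.2, mul_inv_cancel_right]

/-- Invariant homomorphisms on `H` are determined on `W₂`. -/
theorem hom_ext_W₁ (hP : Cfsg.IsTypePWith M W₁ U W₂) {f g : Cfsg.fittingHallOf M →* ℂˣ}
    (hf : ∀ w ∈ W₁, ∀ x y : Cfsg.fittingHallOf M, (y : G) = w * x * w⁻¹ → f y = f x)
    (hg : ∀ w ∈ W₁, ∀ x y : Cfsg.fittingHallOf M, (y : G) = w * x * w⁻¹ → g y = g x)
    (h : ∀ z : Cfsg.fittingHallOf M, (z : G) ∈ W₂ → f z = g z) : f = g := by
  have hs : Group.IsSolvable W₁ ∨ Group.IsSolvable (Cfsg.fittingHallOf M) := by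
    have := hP.W₁_cyclic
    letI : CommGroup W₁ := IsCyclic.commGroup
    exact Or.inl inferInstance
  have hsup := CfsgLib.Solvable.commutator_sup_centralizer
    (hP.W₁_compl.2.1.trans (le_normalizer_fittingHallOf M))
    ((coprime_W₁_derived hP).coprime_dvd_right (Subgroup.card_dvd_of_le hP.U_compl.1)) hs
  rw [inf_centralizer_W₁ hP le_rfl] at hsup
  refine MonoidHom.ext fun x => ?_
  have hle : (Cfsg.fittingHallOf M) ≤ (f.eqLocus g).map (Cfsg.fittingHallOf M).subtype := by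
    refine hsup.ge.trans (sup_le (Subgroup.commutator_le.mpr fun a ha w hw => ?_)
      fun z hz => ⟨⟨z, hz.1⟩, h ⟨z, hz.1⟩ hz.2, rfl⟩)
    have hm : w * a⁻¹ * w⁻¹ ∈ (Cfsg.fittingHallOf M) := (Subgroup.mem_normalizer_iff.mp
      (le_normalizer_fittingHallOf M (hP.W₁_compl.2.1 hw)) _).mp (inv_mem ha)
    refine ⟨⟨a, ha⟩ * ⟨_, hm⟩, ?_, ?_⟩
    · show f _ = g _
      rw [map_mul, map_mul, hf w hw (⟨a, ha⟩ : (Cfsg.fittingHallOf M))⁻¹ ⟨_, hm⟩ rfl,
        hg w hw (⟨a, ha⟩ : (Cfsg.fittingHallOf M))⁻¹ ⟨_, hm⟩ rfl, map_inv, map_inv, mul_inv_cancel, mul_inv_cancel]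
    · show a * (w * a⁻¹ * w⁻¹) = _
      rw [commutatorElement_def]; group
  obtain ⟨y, hy, ey⟩ := hle x.2
  obtain rfl : y = x := Subtype.ext ey
  exact hy

variable [Fintype G] {A₀ : Set G} {R : G → Subgroup G}

/-- The degree and sign of the columns. -/
theorem Fam.columns [Fintype M] [Fintype (commutator M)] [Fintype (Ir₁ W₁ W₂)]
    [Fintype (Ir₂ W₁ W₂)] {S : Setup M W₁ W₂ A₀ R} (F : Fam S)
    (hP : Cfsg.IsTypePWith M W₁ U W₂) (hU : U ≠ ⊥) (hq : (Nat.card W₁).Prime)
    (hp : (Nat.card W₂).Prime) (hch : Chief M W₁ U W₂) :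
    ∀ j : Ir₂ W₁ W₂, j ≠ 1 →
      F.sgn j = 1 ∧ F.nn j * Nat.card W₁ + 1 = ((cU M U).relIndex U : ℤ) := by
  classical
  set H := Cfsg.fittingHallOf M with hH
  set C := cU M U with hC
  have hHd : H ≤ ⁅M, M⁆ := hP.U_compl.1
  have hUd : U ≤ ⁅M, M⁆ := hP.U_compl.2.1
  set Hk := subK M H with hHk
  set Vk := subK M U with hVk
  set Ck := subK M C with hCk
  let rK : Hk →* H := MonoidHom.mk' (fun k => ⟨((k.1 : M) : G), k.2⟩) fun _ _ => rfl
  have hrK : Function.Surjective rK := fun x => ⟨⟨toK (x : G) (hHd x.2), x.2⟩, rfl⟩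
  let incl : W₂ →* ↥(W₁ ⊔ W₂) := Subgroup.inclusion le_sup_right
  choose lam hlN hlW hlχ using fun j : Ir₂ W₁ W₂ => exists_hom_q hP hch (j.1.comp incl)
  -- the restriction to `W₂` determines `j`
  have hlam_inj : ∀ j j', lam j = lam j' → j = j' := by
    intro j j' e
    have hcop : (Nat.card W₁).Coprime (Nat.card W₂) :=
      (coprime_W₁_derived hP).coprime_dvd_right
        (Subgroup.card_dvd_of_le ((hP.W₂_le.trans inf_le_left).trans hHd))
    refine Subtype.ext (CTI.hom_ext_of_sup (W₁ := W₁) (W₂ := W₂) (φ := 1) (φ' := 1)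
      (fun _ _ => rfl) (fun _ _ => rfl) j.2 j'.2 ?_).2
    refine MonoidHom.ext fun w => ?_
    obtain ⟨π₁, π₂, hπ, hπ₁, hπ₂, -, -⟩ := CTI.exists_proj S.sn
    simp only [MonoidHom.mul_apply, MonoidHom.one_apply, one_mul]
    rw [← hπ w, map_mul, map_mul, j.2 _ (hπ₁ w), j'.2 _ (hπ₁ w), one_mul, one_mul]
    set z : W₂ := ⟨π₂ w, hπ₂ w⟩ with hz
    obtain ⟨y, hy⟩ := (powCoprime (G := W₂) hcop.symm).surjective z
    have h1 := hlχ j y ⟨(y : G), (hP.W₂_le.trans inf_le_left) y.2⟩ rfl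
    have h2 := hlχ j' y ⟨(y : G), (hP.W₂_le.trans inf_le_left) y.2⟩ rfl
    rw [e, h2, ← map_pow, ← map_pow] at h1
    rw [show π₂ w = incl z from rfl, ← hy]
    exact h1.symm
  -- stabilisers
  have hstab : ∀ j, j ≠ 1 → SemiInd.IsStab Hk Vk Ck ((lam j).comp rK) := by
    intro j hj
    refine ⟨subK_inf hP, subK_sup hP, fun k hk => cU_le (M := M) hk, fun v hv => ⟨fun hvC h => ?_,
      fun hst => ?_⟩⟩
    · refine congrArg (lam j) (Subtype.ext ?_)
      show ((v : M) : G) * ((h.1 : M) : G) * ((v : M) : G)⁻¹ = ((h.1 : M) : G)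
      rw [← Subgroup.mem_centralizer_iff.mp (show ((v : M) : G) ∈ C from hvC).2
        ((h.1 : M) : G) h.2, mul_inv_cancel_right]
    · let X : Subgroup G := {
        carrier := {u | u ∈ U ∧ ∀ x y : H, (y : G) = u * x * u⁻¹ → lam j y = lam j x}
        one_mem' := ⟨one_mem _, fun x y e => by
          rw [show y = x from Subtype.ext (by simpa using e)]⟩
        mul_mem' := fun {a b} ha hb => ⟨mul_mem ha.1 hb.1, fun x y e => by
          have hm : b * x * b⁻¹ ∈ H := (Subgroup.mem_normalizer_iff.mp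
            (le_normalizer_fittingHallOf M (typeP_U_le hP hb.1)) x).mp x.2
          rw [ha.2 ⟨_, hm⟩ y (by rw [e]; group), hb.2 x ⟨_, hm⟩ rfl]⟩
        inv_mem' := fun {a} ha => ⟨inv_mem ha.1, fun x y e => (ha.2 y x (by rw [e]; group)).symm⟩ }
      have hvX : ((v : M) : G) ∈ X := ⟨hv, fun x y e => by
        obtain ⟨x', rfl⟩ := hrK x
        have := hst x'
        rw [show y = rK ⟨v * x' * v⁻¹, (inferInstance : Hk.Normal).conj_mem _ x'.2 v⟩ from
          Subtype.ext e]
        exact this⟩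
      have hCX : C ≤ X := fun c hc => ⟨cU_le hc, fun x y e => by
        rw [show y = x from Subtype.ext (by
          rw [e, ← Subgroup.mem_centralizer_iff.mp hc.2 _ x.2, mul_inv_cancel_right])]⟩
      -- `[H, X] C_H(U)` is normal and below the kernel
      let K₀ : Subgroup G := (lam j).ker.map H.subtype
      have hWX : W₁ ≤ Subgroup.normalizer (X : Set G) := by
        have key : ∀ w ∈ W₁, ∀ a ∈ X, w * a * w⁻¹ ∈ X := by
          intro w hw a ha
          have hwH := le_normalizer_fittingHallOf M (hP.W₁_compl.2.1 hw)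
          refine ⟨(Subgroup.mem_normalizer_iff.mp (hP.U_normal hw) a).mp ha.1, fun x y e => ?_⟩
          have hx' : w⁻¹ * x * w ∈ H := by
            simpa using (Subgroup.mem_normalizer_iff.mp (inv_mem hwH) x).mp x.2
          have hy' : a * (w⁻¹ * x * w) * a⁻¹ ∈ H := (Subgroup.mem_normalizer_iff.mp
            (le_normalizer_fittingHallOf M (typeP_U_le hP ha.1)) _).mp hx'
          rw [hlW j w hw ⟨_, hy'⟩ y (by rw [e]; group), ha.2 ⟨_, hx'⟩ ⟨_, hy'⟩ rfl,
            ← hlW j w hw ⟨_, hx'⟩ x (by group)]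
        intro w hw
        rw [Subgroup.mem_normalizer_iff]
        refine fun a => ⟨key w hw a, fun h => ?_⟩
        simpa [mul_assoc] using key w⁻¹ (inv_mem hw) _ h
      let L : Subgroup G := kerU M U ⊔
        Subgroup.closure {z | ∃ x ∈ X, ∃ h ∈ H, z = x * h * x⁻¹ * h⁻¹}
      have hLK : L ≤ K₀ := by
        refine sup_le (fun z hz => ⟨⟨z, hz.1⟩, hlN j _ hz, rfl⟩) ((Subgroup.closure_le _).mpr ?_)
        rintro _ ⟨x, hx, h, hh, rfl⟩
        have hm : x * h * x⁻¹ ∈ H := (Subgroup.mem_normalizer_iff.mp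
          (le_normalizer_fittingHallOf M (typeP_U_le hP hx.1)) h).mp hh
        refine ⟨⟨x * h * x⁻¹, hm⟩ * (⟨h, hh⟩ : H)⁻¹, ?_, rfl⟩
        rw [SetLike.mem_coe, MonoidHom.mem_ker, map_mul, map_inv, hx.2 ⟨h, hh⟩ ⟨_, hm⟩ rfl,
          mul_inv_cancel]
      have hLH : L ≤ H := fun z hz => by
        obtain ⟨y, -, rfl⟩ := hLK hz
        exact y.2
      have hNL : kerU M U ≤ L := le_sup_left
      have hnorm : ∀ t ∈ M, t ∈ Subgroup.normalizer (X : Set G) →
          t ∈ Subgroup.normalizer (L : Set G) := by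
        have key : ∀ t ∈ M, t ∈ Subgroup.normalizer (X : Set G) → ∀ z ∈ L, t * z * t⁻¹ ∈ L := by
          intro t ht htX
          have htN := hch.normal ht
          refine fun z hz => (show L ≤ L.comap (MulAut.conj t).toMonoidHom from sup_le
            (fun z hz => Subgroup.mem_sup_left ((Subgroup.mem_normalizer_iff.mp htN z).mp hz))
            ((Subgroup.closure_le _).mpr ?_)) hz
          rintro _ ⟨x, hx, h, hh, rfl⟩
          refine Subgroup.mem_sup_right (Subgroup.subset_closure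
            ⟨t * x * t⁻¹, (Subgroup.mem_normalizer_iff.mp htX x).mp hx, t * h * t⁻¹,
              (Subgroup.mem_normalizer_iff.mp (le_normalizer_fittingHallOf M ht) h).mp hh, ?_⟩)
          show t * (x * h * x⁻¹ * h⁻¹) * t⁻¹ = _
          group
        intro t ht htX
        rw [Subgroup.mem_normalizer_iff]
        refine fun z => ⟨key t ht htX z, fun h => ?_⟩
        simpa [mul_assoc] using key t⁻¹ (inv_mem ht) (inv_mem htX) _ h
      have hUX : U ≤ Subgroup.normalizer (X : Set G) := by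
        have key : ∀ t ∈ U, ∀ a ∈ X, t * a * t⁻¹ ∈ X := fun t ht a ha => by
          rw [show t * a * t⁻¹ = (t * a * t⁻¹ * a⁻¹) * a by group]
          exact mul_mem (hCX (derived_U_le hP (Subgroup.commutator_mem_commutator ht ha.1))) ha
        intro t ht
        rw [Subgroup.mem_normalizer_iff]
        refine fun a => ⟨key t ht a, fun h => ?_⟩
        simpa [mul_assoc] using key t⁻¹ (inv_mem ht) _ h
      rcases hch.eq_or_eq hP hNL hLH (fun t ht => hnorm t (typeP_U_le hP ht) (hUX ht))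
        (fun t ht => hnorm t (hP.W₁_compl.2.1 ht) (hWX ht)) with e | e
      · show ((v : M) : G) ∈ C
        refine ⟨hv, hch.cent _ hv fun x hx => ?_⟩
        have h1 : ((v : M) : G) * x * ((v : M) : G)⁻¹ * x⁻¹ ∈ kerU M U := e.le
          (Subgroup.mem_sup_right (Subgroup.subset_closure ⟨_, hvX, x, hx, rfl⟩))
        simpa [mul_assoc] using inv_mem h1
      · exfalso
        refine hj (hlam_inj j 1 (MonoidHom.ext fun x => ?_))
        have h1 : lam j x = 1 := by
          obtain ⟨y, hy, ey⟩ := hLK (e.ge x.2)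
          obtain rfl : y = x := Subtype.ext ey
          exact hy
        have h2 : lam 1 x = 1 := by
          refine DFunLike.congr_fun (hom_ext_W₁ hP (f := lam 1) (g := 1) (hlW 1)
            (fun w hw x y e => rfl) fun z hz => ?_) x
          rw [hlχ 1 ⟨(z : G), hz⟩ z rfl]
          simp
        rw [h1, h2]
  -- the characters of `K`
  have hθ : ∀ j : Ir₂ W₁ W₂, j ≠ 1 → ∃ θ : commutator M → ℂ,
      SemiInd.IsSemi Hk Ck ((lam j).comp rK) 1 θ ∧ ∃ j', (fun k : commutator M => F.mu 1 j' k) = θ ∧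
        j' ≠ 1 ∧ F.sgn j' + F.nn j' * Nat.card W₁ = ((cU M U).relIndex U : ℤ) := by
    intro j hj
    have hs := hstab j hj
    obtain ⟨θ, hθ⟩ := SemiInd.exists_semi hs (1 : Ck →* ℂˣ)
    refine ⟨θ, hθ, ?_⟩
    obtain ⟨j', hj'⟩ := F.exists_eq_res (hθ.irr hs) fun w hw => by
      have hwH := le_normalizer_fittingHallOf M w.2
      have hwC : (w : G) ∈ Subgroup.normalizer (C : Set G) :=
        cU_normal hP (Subgroup.mem_sup_right hw)
      let σ : commutator M ≃* commutator M := MulAut.conjNormal w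
      have hH : ∀ h : Hk, σ h ∈ Hk := fun h =>
        (Subgroup.mem_normalizer_iff.mp hwH ((h.1 : M) : G)).mp h.2
      have hC' : ∀ v : Ck, σ v ∈ Ck := fun v =>
        (Subgroup.mem_normalizer_iff.mp hwC ((v.1 : M) : G)).mp v.2
      exact hθ.comp_aut hs σ hH hC' (fun h => hlW j (w : G) hw (rK h) (rK ⟨σ h, hH h⟩) rfl)
        fun _ => rfl
    have hu1 : 1 < (cU M U).relIndex U := by
      refine (Nat.one_lt_iff_ne_zero_and_ne_one).mpr ⟨Subgroup.index_ne_zero_of_finite, fun h => ?_⟩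
      exact cU_ne hP hU (Subgroup.relIndex_eq_one.mp h)
    have hdeg : θ 1 = (((cU M U).relIndex U : ℕ) : ℂ) := by
      have h1 := SemiInd.index_sup hs
      rw [card_subK (cU_le.trans hUd), card_subK hUd] at h1
      have h2 := Subgroup.relIndex_mul_relIndex ⊥ (cU M U) U bot_le cU_le
      rw [Subgroup.relIndex_bot_left, Subgroup.relIndex_bot_left, mul_comm, ← h1] at h2
      rw [hθ.apply_one hs, Nat.eq_of_mul_eq_mul_right Nat.card_pos h2]
    have hd : F.mu 1 j' 1 = θ 1 := congrFun hj' 1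
    refine ⟨j', hj', fun e => ?_, ?_⟩
    · rw [e, F.res_one 1 (one_mem _), hdeg] at hd
      exact hu1.ne (by exact_mod_cast hd)
    · rw [F.mu_apply_one, hdeg] at hd
      exact_mod_cast hd
  choose θ hθs σ hσ hσne hσd using hθ
  -- the columns are permuted
  have hinj : ∀ j (hj : j ≠ 1) j' (hj' : j' ≠ 1), σ j hj = σ j' hj' → j = j' := by
    intro j hj j' hj' e
    refine hlam_inj j j' ?_
    have hθe : θ j hj = θ j' hj' := by rw [← hσ j hj, ← hσ j' hj', e]
    have hr := ((hθs j hj).res_inner (hstab j hj) ((lam j').comp rK)).mp (by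
      rw [hθe, (hθs j' hj').res_inner (hstab j' hj')]
      exact ⟨1, conjFun_one _ _⟩)
    obtain ⟨g, hg⟩ := hr
    obtain ⟨h, hh, v, hv, rfl⟩ :=
      Subgroup.mem_sup_of_normal_left.mp ((subK_sup hP).symm ▸ Subgroup.mem_top g)
    -- the conjugate of `lam j` by `v` is `lam j'`
    have hv' : ∀ x y : H, (y : G) = ((v : M) : G) * x * ((v : M) : G)⁻¹ → lam j y = lam j' x := by
      intro x y e
      obtain ⟨x', rfl⟩ := hrK x
      rw [← conjFun_conjFun, conjFun_of_mem Hk
        (isClassFunction_of_isIrr (SemiInd.isIrr_lin _)) hh] at hg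
      have h1 := Units.ext (congrFun hg x')
      rw [show y = rK ⟨v * x' * v⁻¹, (inferInstance : Hk.Normal).conj_mem _ x'.2 v⟩ from
        Subtype.ext e]
      exact h1
    have hvC : ((v : M) : G) ∈ C := by
      refine mem_cU_of_fixed hP hv fun w hw => ?_
      set a : G := ((v : M) : G) with ha
      have haU : a ∈ U := hv
      have hwH := le_normalizer_fittingHallOf M (hP.W₁_compl.2.1 hw)
      have hb : w * a * w⁻¹ * a⁻¹ ∈ U :=
        mul_mem ((Subgroup.mem_normalizer_iff.mp (hP.U_normal hw) a).mp haU) (inv_mem haU)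
      refine (hstab j hj).mem (toK _ (hUd hb)) hb |>.mpr fun x' => ?_
      obtain ⟨x, hx⟩ : ∃ x : H, x = rK x' := ⟨_, rfl⟩
      have hx1 : a⁻¹ * x * a ∈ H := by
        simpa using (Subgroup.mem_normalizer_iff.mp
          (le_normalizer_fittingHallOf M (typeP_U_le hP (inv_mem haU))) x).mp x.2
      have hx2 : w⁻¹ * (a⁻¹ * x * a) * w ∈ H := by
        simpa using (Subgroup.mem_normalizer_iff.mp (inv_mem hwH) _).mp hx1
      have hx3 : a * (w⁻¹ * (a⁻¹ * x * a) * w) * a⁻¹ ∈ H := (Subgroup.mem_normalizer_iff.mp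
        (le_normalizer_fittingHallOf M (typeP_U_le hP haU)) _).mp hx2
      have hx4 : w * (a * (w⁻¹ * (a⁻¹ * x * a) * w) * a⁻¹) * w⁻¹ ∈ H :=
        (Subgroup.mem_normalizer_iff.mp hwH _).mp hx3
      have e1 : lam j ⟨_, hx4⟩ = lam j x := by
        rw [hlW j w hw ⟨_, hx3⟩ ⟨_, hx4⟩ rfl, hv' ⟨_, hx2⟩ ⟨_, hx3⟩ rfl,
          ← hlW j' w hw ⟨_, hx2⟩ ⟨_, hx1⟩ (by group), hv' ⟨_, hx1⟩ x (by group)]
      show lam j _ = lam j (rK x')
      rw [← hx, ← e1]
      congr 1
      refine Subtype.ext ?_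
      show (w * a * w⁻¹ * a⁻¹) * ((x'.1 : M) : G) * (w * a * w⁻¹ * a⁻¹)⁻¹ = _
      rw [show ((x'.1 : M) : G) = (x : G) from congrArg Subtype.val hx.symm]
      group
    refine MonoidHom.ext fun x => (?_ : lam j x = lam j' x)
    refine (congrArg (lam j) (Subtype.ext ?_)).trans (hv' x x ?_)
    · rfl
    · rw [← Subgroup.mem_centralizer_iff.mp hvC.2 _ x.2, mul_inv_cancel_right]
  intro k hk
  obtain ⟨⟨j, hj⟩, hjk⟩ := Finite.surjective_of_injective
    (f := fun x : {j : Ir₂ W₁ W₂ // j ≠ 1} => (⟨σ x.1 x.2, hσne x.1 x.2⟩ : {j : Ir₂ W₁ W₂ // j ≠ 1}))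
    (fun a b e => Subtype.ext (hinj a.1 a.2 b.1 b.2 (congrArg Subtype.val e))) ⟨k, hk⟩
  have h := hσd j hj
  rw [show σ j hj = k from congrArg Subtype.val hjk] at h
  have hmod : ((cU M U).relIndex U : ℤ) % Nat.card W₁ = 1 := by exact_mod_cast u_modEq hP hq
  have hq3 : (3 : ℤ) ≤ Nat.card W₁ := by exact_mod_cast three_le₁ S
  have hs : F.sgn k = 1 := by
    rw [← h, Int.add_mul_emod_self_right] at hmod
    rcases F.sgn_eq k with e | e
    · exact e
    · rw [e, show ((-1 : ℤ) % (Nat.card W₁ : ℤ)) = (Nat.card W₁ : ℤ) - 1 from ?_] at hmod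
      · omega
      · rw [← Int.add_emod_right, Int.emod_eq_of_lt (by omega) (by omega)]; ring
  exact ⟨hs, by rw [← h, hs]; ring⟩

end CfsgLib.OddChar.Prime
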