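import Cfsg.Agent.Lib.OddChar.Prime.Basic
import Cfsg.Agent.Lib.OddChar.Prime.Block
import Cfsg.Agent.Lib.Char.Linear
import Cfsg.Agent.Lib.CharNormal.Clifford

/-!
# The blocks of irreducible induced characters of a given degree

* `degSet e`: the irreducible `Ind θ`, `θ` irreducible of degree `e`, not principal;
* `exists_block_deg`, `mem_degSet_of`, `fibre_le`, `card_linear_le`.
-/

set_option autoImplicit false
set_option linter.unusedSectionVars false

namespace CfsgLib.OddChar.Prime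

open CfsgLib.Char CfsgLib.CharNormal
open CfsgLib.OddChar
open scoped ComplexConjugate

universe u

variable {G : Type u} [Group G] [Fintype G] {M : Subgroup G} {W₁ W₂ : Subgroup G} {A₀ : Set G}
  {R : G → Subgroup G} [Fintype M] [Fintype (commutator M)] (S : Setup M W₁ W₂ A₀ R)

include S in
theorem index_commutator : (commutator M).index = Nat.card W₁ := by
  have hc : Subgroup.IsComplement' (commutator M) (W₁.subgroupOf M) :=
    Subgroup.isComplement'_of_disjoint_and_mul_eq_univ (disjoint_iff.mpr S.inf_eq)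
      (by rw [← Subgroup.normal_mul, S.sup_eq, Subgroup.coe_top])
  rw [hc.symm.index_eq_card, Nat.card_congr (Subgroup.subgroupOfEquivOfLe S.le₁).toEquiv]

open Classical in
/-- The irreducible inductions of nonprincipal characters of degree `e`. -/
noncomputable def degSet (e : ℕ) : Finset (M → ℂ) :=
  ((Finset.univ.filter fun θ : Cfsg.IrrCharacter (commutator M) =>
      (θ : commutator M → ℂ) 1 = (e : ℂ) ∧ (θ : commutator M → ℂ) ≠ fun _ => 1).image
    fun θ : Cfsg.IrrCharacter (commutator M) =>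
      Cfsg.indFun (commutator M) (θ : commutator M → ℂ)).filter
      fun χ => Cfsg.IsIrrCharacter M χ

theorem mem_degSet {e : ℕ} {χ : M → ℂ} :
    χ ∈ degSet (M := M) e ↔ ∃ θ : Cfsg.IrrCharacter (commutator M),
      (θ : commutator M → ℂ) 1 = (e : ℂ) ∧ ((θ : commutator M → ℂ) ≠ fun _ => 1) ∧
      χ = Cfsg.indFun (commutator M) (θ : commutator M → ℂ) ∧ Cfsg.IsIrrCharacter M χ := by
  classical
  simp only [degSet, Finset.mem_filter, Finset.mem_image, Finset.mem_univ, true_and]
  constructor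
  · rintro ⟨⟨θ, ⟨h1, h2⟩, rfl⟩, h3⟩; exact ⟨θ, h1, h2, rfl, h3⟩
  · rintro ⟨θ, h1, h2, rfl, h3⟩; exact ⟨⟨θ, ⟨h1, h2⟩, rfl⟩, h3⟩

theorem conjFun_indFun {H : Subgroup M} (θ : H → ℂ) :
    Cfsg.conjFun (Cfsg.indFun H θ) = Cfsg.indFun H (Cfsg.conjFun θ) := by
  funext g
  show conj (Cfsg.indFun H θ g) = _
  rw [indFun_apply, indFun_apply, map_mul, map_inv₀, map_natCast, map_sum]
  congr 1
  refine Finset.sum_congr rfl fun x _ => ?_
  by_cases h : x⁻¹ * g * x ∈ H
  · rw [extendByZero_of_mem _ h, extendByZero_of_mem _ h]; rfl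
  · rw [extendByZero_of_notMem _ h, extendByZero_of_notMem _ h, map_zero]

include S in
theorem degSet_apply_one {e : ℕ} {χ : M → ℂ} (h : χ ∈ degSet (M := M) e) :
    χ 1 = (e : ℂ) * (Nat.card W₁ : ℂ) := by
  obtain ⟨θ, h1, -, rfl, -⟩ := mem_degSet.mp h
  rw [indFun_one, index_commutator S, h1, mul_comm]

include S in
/-- A block on `degSet e`. -/
theorem exists_block_deg (F : Fam S) (e : ℕ) (hne : (degSet (M := M) e).Nonempty) :
    ∃ B : Block F {φ : M → ℂ // φ ∈ degSet (M := M) e},
      (∀ a, B.ch a = a.1) ∧ ∀ a, B.deg a = e := by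
  classical
  have hirr : ∀ φ ∈ degSet (M := M) e, Cfsg.IsIrrCharacter M φ := fun φ hφ => by
    obtain ⟨θ, -, -, rfl, h⟩ := mem_degSet.mp hφ; exact h
  have hoff : ∀ φ ∈ degSet (M := M) e, ∀ x : M, x ∉ commutator M → φ x = 0 := by
    intro φ hφ x hx
    obtain ⟨θ, -, -, rfl, -⟩ := mem_degSet.mp hφ
    rw [indFun_apply, Finset.sum_eq_zero, mul_zero]
    intro y _
    refine extendByZero_of_notMem _ fun h => hx ?_
    have := (inferInstance : (commutator M).Normal).conj_mem _ h y
    simpa [mul_assoc] using this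
  have hconj : ∀ φ ∈ degSet (M := M) e, Cfsg.conjFun φ ∈ degSet (M := M) e := by
    intro φ hφ
    obtain ⟨θ, h1, h2, rfl, h3⟩ := mem_degSet.mp hφ
    refine mem_degSet.mpr ⟨⟨_, PairBessel.isIrr_conjFun θ.2⟩, ?_, ?_, conjFun_indFun _,
      PairBessel.isIrr_conjFun h3⟩
    · show conj ((θ : commutator M → ℂ) 1) = _
      rw [h1, map_natCast]
    · intro e'
      refine h2 (funext fun k => ?_)
      have := congrArg conj (congrFun e' k)
      simpa [Cfsg.conjFun] using this
  have hne' : ∀ φ ∈ degSet (M := M) e, Cfsg.conjFun φ ≠ φ := by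
    intro φ hφ e'
    have h1 : φ = fun _ => 1 := by
      have h := irr_real_eq_one (odd_M S) (χ := ⟨φ, hirr φ hφ⟩)
        ((irrConj_eq_self_iff _).mpr fun g => Complex.conj_eq_iff_im.mp (congrFun e' g))
      exact (congrArg Subtype.val h).trans (funext fun g => irrOne_apply g)
    obtain ⟨a, ha, ha1⟩ := exists_mem_ne_one S.ne₁
    have hx : (⟨a, S.le₁ ha⟩ : M) ∉ commutator M := fun hK => by
      have : (⟨a, S.le₁ ha⟩ : M) ∈ commutator M ⊓ W₁.subgroupOf M := ⟨hK, ha⟩
      rw [S.inf_eq, Subgroup.mem_bot] at this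
      exact ha1 (congrArg Subtype.val this)
    have h2 := hoff φ hφ _ hx
    rw [h1] at h2
    simp at h2
  obtain ⟨B, hB⟩ := exists_block_equal F (degSet (M := M) e) hirr hconj hne'
    (fun φ hφ => ⟨e, degSet_apply_one S hφ⟩) hoff hne fun φ hφ ψ hψ => by
      rw [degSet_apply_one S hφ, degSet_apply_one S hψ]
  refine ⟨B, hB, fun a => ?_⟩
  have h := B.one a
  rw [hB, degSet_apply_one S a.2] at h
  exact_mod_cast (mul_right_cancel₀ (Nat.cast_ne_zero.mpr Nat.card_pos.ne') h).symm

include S in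
/-- Induction is irreducible away from the degrees of the columns. -/
theorem mem_degSet_of (F : Fam S) [Fintype (Ir₁ W₁ W₂)] [Fintype (Ir₂ W₁ W₂)] {e : ℕ}
    {θ : commutator M → ℂ} (hθ : Cfsg.IsIrrCharacter (commutator M) θ) (h1 : θ 1 = (e : ℂ))
    (hne : θ ≠ fun _ => 1) (hd : ∀ j : Ir₂ W₁ W₂, j ≠ 1 → F.sgn j + F.nn j * Nat.card W₁ ≠ e) :
    Cfsg.indFun (commutator M) θ ∈ degSet (M := M) e := by
  refine mem_degSet.mpr ⟨⟨θ, hθ⟩, h1, hne, rfl, ?_⟩
  rcases F.mem_cases ⟨θ, hθ, hne, fun k hk => by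
      rw [Subgroup.mem_bot] at hk
      rw [show k = 1 from Subtype.ext hk], rfl⟩ with h | ⟨j, hj, e'⟩
  · exact h.1
  · exfalso
    have h' := congrFun e' 1
    rw [indFun_one, index_commutator S, h1, Fam.muSum, Finset.sum_apply,
      Finset.sum_congr rfl (fun i _ => F.mu_apply_one i j), Finset.sum_const, Finset.card_univ,
      ← Nat.card_eq_fintype_card, card_ir₁ S, nsmul_eq_mul] at h'
    have h2 := mul_left_cancel₀ (Nat.cast_ne_zero.mpr Nat.card_pos.ne') h'
    exact hd j hj (by exact_mod_cast h2.symm)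

include S in
/-- At most `q` characters induce the same irreducible. -/
theorem fibre_le [DecidableEq (M → ℂ)] (T : Finset (Cfsg.IrrCharacter (commutator M)))
    (hT : ∀ θ ∈ T, Cfsg.IsIrrCharacter M
      (Cfsg.indFun (commutator M) (θ : commutator M → ℂ))) :
    T.card ≤ Nat.card W₁ *
      (T.image fun θ : Cfsg.IrrCharacter (commutator M) =>
        Cfsg.indFun (commutator M) (θ : commutator M → ℂ)).card := by
  classical
  refine Finset.card_le_mul_card_image T _ fun χ hχ => ?_
  obtain ⟨θ₀, hθ₀, rfl⟩ := Finset.mem_image.mp hχ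
  refine le_trans (Finset.card_le_card (t := orbit (commutator M) θ₀) fun θ hθ => ?_) ?_
  · obtain ⟨hθT, he⟩ := Finset.mem_filter.mp hθ
    have key : ∀ φ : Cfsg.IrrCharacter (commutator M),
        Cfsg.indFun (commutator M) (φ : commutator M → ℂ) =
          Cfsg.indFun (commutator M) (θ₀ : commutator M → ℂ) →
        Cfsg.classInner (fun n : commutator M =>
          Cfsg.indFun (commutator M) (θ₀ : commutator M → ℂ) n) (φ : commutator M → ℂ) ≠ 0 := by
      intro φ hφ
      rw [← frobenius_reciprocity' (commutator M) _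
        (isClassFunction_of_isIrr (hT θ₀ hθ₀)), hφ, classInner_irr_self (hT θ₀ hθ₀)]
      exact one_ne_zero
    obtain ⟨g, hg⟩ := exists_conj_of_constituents (commutator M) (hT θ₀ hθ₀) θ₀.2 θ.2
      (key θ₀ rfl) (key θ he)
    exact (mem_orbit _).mpr ⟨g, hg⟩
  · rw [← index_commutator S]
    exact Nat.le_of_dvd (Nat.pos_of_ne_zero Subgroup.index_ne_zero_of_finite)
      (card_orbit_dvd_index _ θ₀)

include S in
/-- The nonprincipal linear characters give at least `(|K : K'| - 1) / q` members. -/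
theorem card_linear_le (F : Fam S) [Fintype (Ir₁ W₁ W₂)] [Fintype (Ir₂ W₁ W₂)] :
    (commutator (commutator M)).index ≤ Nat.card W₁ * (degSet (M := M) 1).card + 1 := by
  classical
  set T := Finset.univ.filter fun θ : Cfsg.IrrCharacter (commutator M) =>
    (θ : commutator M → ℂ) 1 = ((1 : ℕ) : ℂ) ∧ (θ : commutator M → ℂ) ≠ fun _ => 1 with hT
  have hmem : ∀ θ ∈ T, Cfsg.indFun (commutator M) (θ : commutator M → ℂ) ∈ degSet (M := M) 1 := by
    intro θ hθ
    obtain ⟨-, h1, hne⟩ := Finset.mem_filter.mp hθ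
    refine mem_degSet_of S F θ.2 h1 hne fun j hj => ?_
    have h3 := (F.two_le_nn hj).2.2.1
    have h4 : (3 : ℤ) ≤ Nat.card W₁ := by exact_mod_cast three_le₁ S
    push_cast
    omega
  have h1 : (commutator (commutator M)).index ≤ T.card + 1 := by
    rw [← card_linear (G := commutator M), Nat.card_eq_fintype_card, Fintype.card_subtype]
    refine le_trans (Finset.card_le_card (t := insert irrOne T) fun θ hθ => ?_)
      (Finset.card_insert_le _ _)
    obtain ⟨-, h⟩ := Finset.mem_filter.mp hθ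
    by_cases h2 : (θ : commutator M → ℂ) = fun _ => 1
    · exact Finset.mem_insert.mpr (Or.inl (Subtype.ext h2))
    · exact Finset.mem_insert_of_mem (Finset.mem_filter.mpr ⟨Finset.mem_univ _, by simpa using h, h2⟩)
  refine h1.trans (Nat.add_le_add_right ((fibre_le S T fun θ hθ => ?_).trans
    (Nat.mul_le_mul_left _ (Finset.card_le_card fun χ hχ => ?_))) 1)
  · obtain ⟨_, -, -, -, h⟩ := mem_degSet.mp (hmem θ hθ); exact h
  · obtain ⟨θ, hθ, rfl⟩ := Finset.mem_image.mp hχ; exact hmem θ hθ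

theorem degSet_disjoint {e e' : ℕ} (he : e ≠ e') {χ ψ : M → ℂ} (hS : Setup M W₁ W₂ A₀ R)
    (h : χ ∈ degSet (M := M) e) (h' : ψ ∈ degSet (M := M) e') : χ ≠ ψ := by
  rintro rfl
  have h1 := (degSet_apply_one hS h).symm.trans (degSet_apply_one hS h')
  exact he (by exact_mod_cast mul_right_cancel₀ (Nat.cast_ne_zero.mpr Nat.card_pos.ne') h1)

end CfsgLib.OddChar.Prime
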