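import Cfsg.Agent.Lib.OddChar.Prime.Chief

/-!
# `U / C_U(H)` under `W₁`

* `cU`: `C_U(H)`; `derived_U_le`, `cU_normal`, `cU_ne`;
* `card_modEq_one`, `mem_cU_of_fixed`, `u_modEq`;
* `pow_mul_mem`, `cube_le`: exponent `a` with prime divisors below `q` gives `a³ ≤ |U : C|`.
-/

set_option autoImplicit false
set_option linter.unusedSectionVars false

namespace CfsgLib.OddChar.Prime

open CfsgLib.OddLocal
open CfsgLib.OddChar
open scoped commutatorElement

universe u

variable {G : Type u} [Group G] [Finite G] {M W₁ U W₂ : Subgroup G}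

/-- `C_U(H)`. -/
def cU (M U : Subgroup G) : Subgroup G :=
  U ⊓ Subgroup.centralizer (Cfsg.fittingHallOf M : Set G)

omit [Finite G] in
theorem cU_le : cU M U ≤ U := inf_le_left

theorem derived_U_le (hP : Cfsg.IsTypePWith M W₁ U W₂) : ⁅U, U⁆ ≤ cU M U :=
  le_inf (Subgroup.commutator_le_self U) (typeP_commutator_U_le hP)

theorem cU_normal (hP : Cfsg.IsTypePWith M W₁ U W₂) :
    U ⊔ W₁ ≤ Subgroup.normalizer (cU M U : Set G) := by
  have key : ∀ t ∈ M, t ∈ Subgroup.normalizer (U : Set G) → ∀ x ∈ cU M U,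
      t * x * t⁻¹ ∈ cU M U := by
    intro t ht htU x hx
    refine ⟨(Subgroup.mem_normalizer_iff.mp htU x).mp hx.1,
      Subgroup.mem_centralizer_iff.mpr fun h hh => ?_⟩
    have hh' : t⁻¹ * h * t ∈ Cfsg.fittingHallOf M := by
      simpa using (Subgroup.mem_normalizer_iff.mp
        (le_normalizer_fittingHallOf M (inv_mem ht)) h).mp hh
    have e := Subgroup.mem_centralizer_iff.mp hx.2 _ hh'
    calc h * (t * x * t⁻¹) = t * (t⁻¹ * h * t * x) * t⁻¹ := by group
      _ = t * (x * (t⁻¹ * h * t)) * t⁻¹ := by rw [e]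
      _ = t * x * t⁻¹ * h := by group
  have hall : ∀ t ∈ M, t ∈ Subgroup.normalizer (U : Set G) →
      t ∈ Subgroup.normalizer (cU M U : Set G) := fun t ht htU => by
    rw [Subgroup.mem_normalizer_iff]
    refine fun x => ⟨key t ht htU x, fun h => ?_⟩
    simpa [mul_assoc] using key t⁻¹ (inv_mem ht) (inv_mem htU) _ h
  exact sup_le (fun t ht => hall t (typeP_U_le hP ht) (Subgroup.le_normalizer ht))
    fun t ht => hall t (hP.W₁_compl.2.1 ht) (hP.U_normal ht)

theorem cU_ne (hP : Cfsg.IsTypePWith M W₁ U W₂) (hU : U ≠ ⊥) : ¬ U ≤ cU M U := fun h =>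
  hU (typeP_U_eq_bot hP (h.trans inf_le_right))

/-- A `W₁`-invariant subgroup of `U` has order `1` modulo `q`. -/
theorem card_modEq_one (hP : Cfsg.IsTypePWith M W₁ U W₂) (hq : (Nat.card W₁).Prime)
    {X : Subgroup G} (hXU : X ≤ U) (hX : W₁ ≤ Subgroup.normalizer (X : Set G)) :
    Nat.card X % Nat.card W₁ = 1 := by
  haveI := Fact.mk hq
  letI : MulAction W₁ X :=
    MulAction.compHom X (X.normalizerMonoidHom.comp (Subgroup.inclusion hX))
  have hval : ∀ (b : W₁) (k : X), ((b • k : X) : G) = b * k * (b : G)⁻¹ := fun _ _ => rfl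
  have h := (IsPGroup.of_card (G := W₁) (n := 1) (pow_one _).symm).card_modEq_card_fixedPoints X
  have hfix : MulAction.fixedPoints W₁ X = {1} := by
    ext k
    refine ⟨fun hk => ?_, fun hk b => ?_⟩
    · obtain ⟨w, hw, hw1⟩ := (Subgroup.bot_or_exists_ne_one W₁).resolve_left hP.W₁_ne
      refine Subtype.ext ?_
      have e := congrArg Subtype.val (hk ⟨w, hw⟩)
      rw [hval] at e
      exact (frob hP).fpf w hw hw1 _ (hXU k.2) (mul_inv_eq_iff_eq_mul.mp e)
    · rw [Set.mem_singleton_iff] at hk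
      subst hk
      exact Subtype.ext (by simp [hval])
  rw [hfix] at h
  simp only [Nat.card_coe_set_eq, Set.ncard_singleton] at h
  rw [h, Nat.mod_eq_of_lt hq.one_lt]

/-- A fixed coset of `C` is `C`. -/
theorem mem_cU_of_fixed (hP : Cfsg.IsTypePWith M W₁ U W₂) {v : G} (hv : v ∈ U)
    (hfix : ∀ w ∈ W₁, w * v * w⁻¹ * v⁻¹ ∈ cU M U) : v ∈ cU M U := by
  have hcop : (Nat.card W₁).Coprime (Nat.card (cU M U)) :=
    (coprime_W₁_derived hP).coprime_dvd_right
      (Subgroup.card_dvd_of_le (cU_le.trans hP.U_compl.2.1))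
  have hs : Group.IsSolvable W₁ ∨ Group.IsSolvable (cU M U) := by
    have := hP.W₁_cyclic
    letI : CommGroup W₁ := IsCyclic.commGroup
    exact Or.inl inferInstance
  obtain ⟨n, hn, hc⟩ := CfsgLib.Solvable.exists_mul_mem_centralizer W₁ (cU M U)
    (le_sup_right.trans (cU_normal hP)) hcop hs v fun a ha => by
      rw [commutatorElement_def]; exact hfix a ha
  obtain ⟨w, hw, hw1⟩ := (Subgroup.bot_or_exists_ne_one W₁).resolve_left hP.W₁_ne
  have h1 : n * v = 1 := (frob hP).fpf w hw hw1 _ (mul_mem (cU_le hn) hv)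
    (Subgroup.mem_centralizer_iff.mp hc w hw)
  rw [eq_inv_of_mul_eq_one_right h1]
  exact inv_mem hn

/-- `|U : C| = 1` modulo `q`. -/
theorem u_modEq (hP : Cfsg.IsTypePWith M W₁ U W₂) (hq : (Nat.card W₁).Prime) :
    (cU M U).relIndex U % Nat.card W₁ = 1 := by
  have h1 := card_modEq_one hP hq cU_le (le_sup_right.trans (cU_normal hP))
  have h2 := card_modEq_one hP hq le_rfl hP.U_normal
  have e : Nat.card (cU M U) * (cU M U).relIndex U = Nat.card U := by
    rw [← Subgroup.relIndex_bot_left, Subgroup.relIndex_mul_relIndex _ _ _ bot_le cU_le,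
      Subgroup.relIndex_bot_left]
  rw [← e, Nat.mul_mod, h1, one_mul, Nat.mod_mod] at h2
  exact h2

theorem pow_mul_mem (hP : Cfsg.IsTypePWith M W₁ U W₂) {x y : G} (hx : x ∈ U) (hy : y ∈ U)
    {k : ℕ} (h1 : x ^ k ∈ cU M U) (h2 : y ^ k ∈ cU M U) : (x * y) ^ k ∈ cU M U := by
  haveI : ((cU M U).subgroupOf U).Normal := Subgroup.normal_subgroupOf_iff_le_normalizer cU_le
    |>.mpr (le_sup_left.trans (cU_normal hP))
  set π := QuotientGroup.mk' ((cU M U).subgroupOf U)
  have hab : Commute (π ⟨x, hx⟩) (π ⟨y, hy⟩) := by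
    show _ = _
    rw [← map_mul, ← map_mul, QuotientGroup.mk'_apply, QuotientGroup.mk'_apply, QuotientGroup.eq,
      Subgroup.mem_subgroupOf]
    show (x * y)⁻¹ * (y * x) ∈ cU M U
    rw [show (x * y)⁻¹ * (y * x) = y⁻¹ * x⁻¹ * y⁻¹⁻¹ * x⁻¹⁻¹ by group]
    exact derived_U_le hP (Subgroup.commutator_mem_commutator (inv_mem hy) (inv_mem hx))
  have e : π ((⟨x, hx⟩ * ⟨y, hy⟩) ^ k) = 1 := by
    rw [map_pow, map_mul, hab.mul_pow, ← map_pow, ← map_pow,
      show π (⟨x, hx⟩ ^ k) = 1 from (QuotientGroup.eq_one_iff _).mpr h1,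
      show π (⟨y, hy⟩ ^ k) = 1 from (QuotientGroup.eq_one_iff _).mpr h2, one_mul]
  exact (QuotientGroup.eq_one_iff (N := (cU M U).subgroupOf U) _).mp e

/-- The elements of `X` with `x ^ k ∈ C`. -/
theorem exists_powKer (hP : Cfsg.IsTypePWith M W₁ U W₂) {X : Subgroup G} (hX : X ≤ U) (k : ℕ) :
    ∃ Y : Subgroup G, ∀ x, x ∈ Y ↔ x ∈ X ∧ x ^ k ∈ cU M U :=
  ⟨{ carrier := {x | x ∈ X ∧ x ^ k ∈ cU M U}
     one_mem' := ⟨one_mem _, by simp [one_mem]⟩
     mul_mem' := fun {a b} ha hb =>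
       ⟨mul_mem ha.1 hb.1, pow_mul_mem hP (hX ha.1) (hX hb.1) ha.2 hb.2⟩
     inv_mem' := fun {a} ha => ⟨inv_mem ha.1, by rw [inv_pow]; exact inv_mem ha.2⟩ },
    fun _ => Iff.rfl⟩

theorem cube_le_aux (hP : Cfsg.IsTypePWith M W₁ U W₂) (hq : (Nat.card W₁).Prime)
    (hodd : Odd (Nat.card G)) (a : ℕ) : ∀ X : Subgroup G, X ≤ U → cU M U ≤ X →
      W₁ ≤ Subgroup.normalizer (X : Set G) → 0 < a → (∀ x ∈ X, x ^ a ∈ cU M U) →
      (∀ k, (∀ x ∈ X, x ^ k ∈ cU M U) → a ∣ k) →
      (∀ r, r.Prime → r ∣ a → r < Nat.card W₁) →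
      a ^ 3 * Nat.card (cU M U) ≤ Nat.card X := by
  induction a using Nat.strong_induction_on with
  | _ a ih =>
  intro X hXU hCX hXn ha hpow hmin hlt
  rcases eq_or_ne a 1 with rfl | ha1
  · simpa using Nat.le_of_dvd Nat.card_pos (Subgroup.card_dvd_of_le hCX)
  obtain ⟨r, hr, a', rfl⟩ := Nat.exists_prime_and_dvd ha1
  haveI := Fact.mk hr
  have ha' : 0 < a' := Nat.pos_of_mul_pos_left ha
  have hlt' : a' < r * a' := lt_mul_of_one_lt_left ha' hr.one_lt
  obtain ⟨Y, hY⟩ := exists_powKer hP hXU a'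
  have hYX : Y ≤ X := fun x hx => ((hY x).mp hx).1
  have hCY : cU M U ≤ Y := fun x hx => (hY x).mpr ⟨hCX hx, pow_mem hx _⟩
  have hYn : W₁ ≤ Subgroup.normalizer (Y : Set G) := by
    intro w hw
    rw [Subgroup.mem_normalizer_iff]
    intro x
    rw [hY, hY, conj_pow, ← Subgroup.mem_normalizer_iff.mp (hXn hw) x,
      ← Subgroup.mem_normalizer_iff.mp ((le_sup_right.trans (cU_normal hP)) hw) (x ^ a')]
  have hrY : ∀ x ∈ X, x ^ r ∈ Y := fun x hx => (hY _).mpr
    ⟨pow_mem hx r, by rw [← pow_mul]; exact hpow x hx⟩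
  have hind := ih a' hlt' Y (hYX.trans hXU) hCY hYn ha' (fun x hx => ((hY x).mp hx).2)
    (fun k hk => by
      refine Nat.dvd_of_mul_dvd_mul_left hr.pos (hmin (r * k) fun x hx => ?_)
      rw [pow_mul]
      exact hk _ (hrY x hx))
    (fun s hs hsd => hlt s hs (hsd.mul_left r))
  -- `|X : Y|` is at least `r ^ 3`
  have hne : Y ≠ X := fun e => by
    have h1 := hmin a' fun x hx => ((hY x).mp (e ▸ hx)).2
    exact hlt'.not_ge (Nat.le_of_dvd ha' h1)
  have hXle : X ≤ Subgroup.normalizer (Y : Set G) := by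
    have key : ∀ t ∈ X, ∀ x ∈ Y, t * x * t⁻¹ ∈ Y := fun t ht x hx => by
      obtain ⟨hxX, hxk⟩ := (hY x).mp hx
      refine (hY _).mpr ⟨mul_mem (mul_mem ht hxX) (inv_mem ht), ?_⟩
      rw [conj_pow]
      exact (Subgroup.mem_normalizer_iff.mp
        ((le_sup_left.trans (cU_normal hP)) (hXU ht)) _).mp hxk
    intro t ht
    rw [Subgroup.mem_normalizer_iff]
    refine fun x => ⟨key t ht x, fun h => ?_⟩
    simpa [mul_assoc] using key t⁻¹ (inv_mem ht) _ h
  haveI : (Y.subgroupOf X).Normal := Subgroup.normal_subgroupOf_iff_le_normalizer hYX |>.mpr hXle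
  have hpg : IsPGroup r (X ⧸ Y.subgroupOf X) := fun z => by
    obtain ⟨x, rfl⟩ := QuotientGroup.mk_surjective z
    exact ⟨1, by rw [pow_one, ← QuotientGroup.mk_pow, QuotientGroup.eq_one_iff]
                 exact hrY _ x.2⟩
  obtain ⟨s, hs⟩ := IsPGroup.iff_card.mp hpg
  have hidx : Y.relIndex X = r ^ s := hs
  have hcard : Nat.card Y * r ^ s = Nat.card X := by
    rw [← hidx, ← Subgroup.relIndex_bot_left, Subgroup.relIndex_mul_relIndex _ _ _ bot_le hYX,
      Subgroup.relIndex_bot_left]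
  have hmod : r ^ s % Nat.card W₁ = 1 := by
    have h1 := card_modEq_one hP hq (hYX.trans hXU) hYn
    have h2 := card_modEq_one hP hq hXU hXn
    rw [← hcard, Nat.mul_mod, h1, one_mul, Nat.mod_mod] at h2
    exact h2
  have hrq : r < Nat.card W₁ := hlt r hr (dvd_mul_right r a')
  have hro : Odd r := by
    refine (hodd.of_dvd_nat (Subgroup.card_subgroup_dvd_card X)).of_dvd_nat ?_
    rcases s with _ | s
    · exact absurd (Subgroup.eq_of_le_of_card_ge hYX (by rw [← hcard, pow_zero, mul_one])) hne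
    · exact (Dvd.intro_left _ (pow_succ r s).symm).trans (Dvd.intro_left _ hcard)
  have hs3 : 3 ≤ s := by
    rcases s with _ | _ | _ | s
    · exact absurd (Subgroup.eq_of_le_of_card_ge hYX (by rw [← hcard, pow_zero, mul_one])) hne
    · rw [zero_add, pow_one, Nat.mod_eq_of_lt hrq] at hmod
      exact absurd hmod hr.one_lt.ne'
    · exfalso
      have h3 := hr.two_le
      have hd : Nat.card W₁ ∣ r ^ 2 - 1 := by
        have := Nat.sub_mod_eq_zero_of_mod_eq (m := r ^ 2) (n := 1) (k := Nat.card W₁)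
          (by rw [hmod, Nat.mod_eq_of_lt hq.one_lt])
        exact Nat.dvd_of_mod_eq_zero this
      rw [show r ^ 2 - 1 = (r + 1) * (r - 1) by
        rw [← Nat.sq_sub_sq, one_pow]] at hd
      rcases (Nat.Prime.dvd_mul hq).mp hd with h | h
      · have h4 := Nat.le_of_dvd (by omega) h
        obtain ⟨c, hc⟩ := hro
        obtain ⟨d, hd'⟩ := hodd.of_dvd_nat (Subgroup.card_subgroup_dvd_card W₁)
        omega
      · have h4 := Nat.le_of_dvd (by omega) h
        omega
    · omega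
  calc (r * a') ^ 3 * Nat.card (cU M U)
      = r ^ 3 * (a' ^ 3 * Nat.card (cU M U)) := by ring
    _ ≤ r ^ s * Nat.card Y := Nat.mul_le_mul (Nat.pow_le_pow_right hr.pos hs3) hind
    _ = Nat.card X := by rw [mul_comm, hcard]

/-- An exponent with prime divisors below `q` has its cube below the index. -/
theorem cube_le (hP : Cfsg.IsTypePWith M W₁ U W₂) (hq : (Nat.card W₁).Prime)
    (hodd : Odd (Nat.card G)) {a : ℕ} (ha : 0 < a) (hpow : ∀ x ∈ U, x ^ a ∈ cU M U)
    (hmin : ∀ k, (∀ x ∈ U, x ^ k ∈ cU M U) → a ∣ k)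
    (hlt : ∀ r, r.Prime → r ∣ a → r < Nat.card W₁) : a ^ 3 ≤ (cU M U).relIndex U := by
  have h := cube_le_aux hP hq hodd a U le_rfl cU_le hP.U_normal ha hpow hmin hlt
  rw [← Subgroup.relIndex_bot_left U, ← Subgroup.relIndex_mul_relIndex ⊥ _ U bot_le cU_le,
    Subgroup.relIndex_bot_left, mul_comm] at h
  exact Nat.le_of_mul_le_mul_left h Nat.card_pos

end CfsgLib.OddChar.Prime
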