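import Cfsg.Agent.Lib.OddChar.Prime.FiveCore

/-!
# The irreducible characters of `M` on a central subgroup of `M'`

* `exists_scalar`: the action of a central subgroup;
* `Fam.off_cases`: an irreducible character is a `μ` or an induced one;
* `linear_val`: linear inductions on `M''`;
* `res_inner`: the multiplicity of a linear character in the restriction.
-/

set_option autoImplicit false
set_option linter.unusedSectionVars false

namespace CfsgLib.OddChar.Prime

open CfsgLib.Char CfsgLib.CharNormal
open CfsgLib.OddChar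

universe u

section Scalar

variable {L : Type u} [Group L] [Fintype L]

/-- A central subgroup acts by scalars. -/
theorem exists_scalar (Z : Subgroup L) (hZ : ∀ z ∈ Z, ∀ x : L, z * x = x * z) {χ : L → ℂ}
    (hχ : Cfsg.IsIrrCharacter L χ) :
    ∃ lam : Z →* ℂˣ, ∀ (z : Z) (x : L), χ ((z : L) * x) = (lam z : ℂ) * χ x := by
  obtain ⟨m, ρ, hirr, rfl⟩ := hχ
  have h : ∀ z : Z, ∃ c : ℂ, ρ (z : L) = c • LinearMap.id := fun z =>
    exists_eq_smul_id ρ (ρ (z : L)) fun g => by
      rw [← Module.End.mul_eq_comp, ← Module.End.mul_eq_comp, ← map_mul, ← map_mul, hZ z z.2 g]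
  choose c hc using h
  have hmul : ∀ (z : Z) (x : L), ρ.character ((z : L) * x) = c z * ρ.character x := fun z x => by
    simp only [Representation.character, map_mul, hc, Module.End.mul_eq_comp, LinearMap.smul_comp,
      LinearMap.id_comp, map_smul, smul_eq_mul]
  have h1 : ρ.character 1 ≠ 0 := irr_one_ne_zero ⟨m, ρ, hirr, rfl⟩
  have hc1 : ∀ z : Z, c z * ρ.character 1 = ρ.character (z : L) := fun z => by
    rw [← hmul z 1, mul_one]
  have hcm : ∀ z w : Z, c (z * w) = c z * c w := fun z w => mul_right_cancel₀ h1 (by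
    rw [hc1, mul_assoc, hc1, ← hmul, Subgroup.coe_mul])
  have hone : c 1 = 1 := mul_right_cancel₀ h1 (by rw [hc1, Subgroup.coe_one, one_mul])
  have hne : ∀ z : Z, c z ≠ 0 := fun z e => by
    have := hcm z z⁻¹
    rw [mul_inv_cancel, hone, e, zero_mul] at this
    exact one_ne_zero this
  exact ⟨MonoidHom.mk' (fun z => Units.mk0 (c z) (hne z))
    (fun z w => Units.ext (by simp [hcm])), fun z x => hmul z x⟩

theorem res_inner (Z : Subgroup L) [Fintype Z] {χ : L → ℂ} {lam om : Z →* ℂˣ}
    (hlam : ∀ (z : Z) (x : L), χ ((z : L) * x) = (lam z : ℂ) * χ x) [Decidable (lam = om)] :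
    Cfsg.classInner (fun z : Z => χ z) (fun z : Z => (om z : ℂ)) =
      if lam = om then χ 1 else 0 := by
  classical
  have hres : (fun z : Z => χ z) = χ 1 • (fun z : Z => (lam z : ℂ)) := funext fun z => by
    rw [Pi.smul_apply, smul_eq_mul, mul_comm, ← hlam z 1, mul_one]
  have hl : ∀ ν : Z →* ℂˣ, Cfsg.IsIrrCharacter Z fun z => (ν z : ℂ) := fun ν =>
    isIrrCharacter_hom ((Units.coeHom ℂ).comp ν)
  rw [hres, classInner_smul_left]
  split_ifs with h
  · rw [h, classInner_irr_self (hl om), mul_one]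
  · rw [classInner_irr_ne (hl lam) (hl om)
      (fun e => h (MonoidHom.ext fun z => Units.ext (congrFun e z))), mul_zero]

end Scalar

variable {G : Type u} [Group G] [Fintype G] {M : Subgroup G} {W₁ W₂ : Subgroup G} {A₀ : Set G}
  {R : G → Subgroup G} [Fintype M] [Fintype (commutator M)] {S : Setup M W₁ W₂ A₀ R}

include S in
/-- A linear induction on `M''`. -/
theorem linear_val {θ : commutator M → ℂ} (hθ : Cfsg.IsIrrCharacter (commutator M) θ)
    (h1 : θ 1 = 1) {z : M} (hz : z ∈ ⁅commutator M, commutator M⁆) :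
    Cfsg.indFun (commutator M) θ z = (Nat.card W₁ : ℂ) := by
  classical
  haveI : (⁅commutator M, commutator M⁆ : Subgroup M).Normal := Subgroup.commutator_normal _ _
  have hall : ∀ x : M, Cfsg.extendByZero (commutator M) θ (x⁻¹ * z * x) = 1 := by
    intro x
    have hx : x⁻¹ * z * x ∈ ⁅commutator M, commutator M⁆ := by
      simpa using (inferInstance : (⁅commutator M, commutator M⁆ : Subgroup M).Normal).conj_mem z hz x⁻¹
    rw [extendByZero_of_mem _ (Subgroup.commutator_le_left (commutator M) _ hx)]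
    have hk' : (⟨_, Subgroup.commutator_le_left (commutator M) _ hx⟩ : commutator M) ∈
        commutator (commutator M) := by
      rw [← Subgroup.map_subtype_commutator] at hx
      obtain ⟨k', hk', e'⟩ := hx
      exact (show k' = ⟨_, _⟩ from Subtype.ext e') ▸ hk'
    have := congrArg Units.val (MonoidHom.mem_ker.mp
      (Abelianization.commutator_subset_ker (linearHom (isCharacter_of_isIrr hθ) h1) hk'))
    simpa [linearHom_apply] using this
  rw [indFun_apply, Finset.sum_congr rfl fun x _ => hall x, Finset.sum_const, Finset.card_univ,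
    nsmul_eq_mul, mul_one, ← Nat.card_eq_fintype_card, ← (commutator M).index_mul_card,
    index_commutator S]
  have h0 : (Nat.card (commutator M) : ℂ) ≠ 0 := Nat.cast_ne_zero.mpr Nat.card_pos.ne'
  push_cast
  field_simp

variable [Fintype (Ir₁ W₁ W₂)] [Fintype (Ir₂ W₁ W₂)] (F : Fam S)

/-- An irreducible character of `M` is a `μ` or is induced from `M'`. -/
theorem Fam.off_cases {χ : M → ℂ} (hχ : Cfsg.IsIrrCharacter M χ) :
    (∃ i j, χ = F.mu i j) ∨ ((∀ i j, χ ≠ F.mu i j) ∧ (∀ x : M, x ∉ commutator M → χ x = 0) ∧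
      ∃ (θ : Cfsg.IrrCharacter (commutator M)) (e : ℕ),
        χ = Cfsg.indFun (commutator M) (θ : commutator M → ℂ) ∧
        (θ : commutator M → ℂ) 1 = (e : ℂ) ∧ Odd e ∧ χ 1 = (e : ℂ) * (Nat.card W₁ : ℂ)) := by
  classical
  by_cases h : ∃ i j, χ = F.mu i j
  · exact Or.inl h
  push Not at h
  refine Or.inr ⟨h, ?_⟩
  obtain ⟨θ, hθ, h0⟩ := exists_constituent (isCharacter_res (commutator M) (isCharacter_of_isIrr hχ))
    (fun e => irr_one_ne_zero hχ (by simpa using congrFun e 1))
  have hfr : Cfsg.classInner χ (Cfsg.indFun (commutator M) θ) ≠ 0 := by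
    rw [frobenius_reciprocity' (commutator M) θ (isClassFunction_of_isIrr hχ)]
    exact h0
  have hcol : ∀ j, θ ≠ (F.colRes j : commutator M → ℂ) := fun j e => hfr (by
    rw [e, show Cfsg.indFun (commutator M) (F.colRes j : commutator M → ℂ) = F.muSum j from
      (F.res_irr j).2, Fam.muSum, classInner_sum_right]
    exact Finset.sum_eq_zero fun i _ => classInner_irr_ne hχ (F.mu_irr i j) (h i j))
  have hne : θ ≠ fun _ => 1 := fun e => hcol 1 (by
    rw [e]; funext k; exact (F.res_one 1 k.2).symm)
  have hirr := (F.irr_or_col ⟨θ, hθ⟩ hne).resolve_right fun ⟨j, _, e⟩ =>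
    hcol j (congrArg Subtype.val e)
  have heq : χ = Cfsg.indFun (commutator M) θ := by
    by_contra hne'
    exact hfr (classInner_irr_ne hχ hirr hne')
  obtain ⟨e, -, he⟩ := exists_degree_pos hθ
  refine ⟨fun x hx => heq ▸ indFun_off θ x hx, ⟨θ, hθ⟩, e, heq, he, ?_, ?_⟩
  · exact (S.odd.of_dvd_nat ((Subgroup.card_subgroup_dvd_card _).trans
      (Subgroup.card_subgroup_dvd_card M))).of_dvd_nat (degree_dvd_card hθ he)
  · rw [heq, indFun_one, index_commutator S, he, mul_comm]

end CfsgLib.OddChar.Prime
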