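import Cfsg.Agent.Lib.OddChar.Prime.Alpha

/-!
# When all `x` vanish: `τ (Ind 1 - ζ) = Σ_i η_i1 - χ_ζ`

* `eq_of_inner`: equality from norms;
* `Block.arr_alpha`: the array of `τ α_ij`;
* `Block.gamma_eq`: `τ α_ij` when `x = 0`;
* `Block.gamma₀_eq`: the first column.
-/

set_option autoImplicit false

namespace CfsgLib.OddChar.Prime

open CfsgLib.Char CfsgLib.CharNormal
open CfsgLib.OddChar
open scoped ComplexConjugate

universe u

variable {G : Type u} [Group G] [Fintype G]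

theorem eq_of_inner {A B : G → ℂ} {z : ℤ} (hA : Cfsg.classInner A A = (z : ℂ))
    (hB : Cfsg.classInner B B = (z : ℂ)) (hAB : Cfsg.classInner A B = (z : ℂ)) : A = B := by
  have hBA : Cfsg.classInner B A = (z : ℂ) := by rw [← classInner_conj_symm, hAB, map_intCast]
  refine sub_eq_zero.mp (eq_zero_of_classInner_self_eq_zero ?_)
  rw [classInner_sub_left, classInner_sub_right, classInner_sub_right, hA, hB, hAB, hBA]
  ring

variable {M : Subgroup G} {W₁ W₂ : Subgroup G} {A₀ : Set G} {R : G → Subgroup G} [Fintype M]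
  {S : Setup M W₁ W₂ A₀ R} {F : Fam S} {ι : Type*} [Fintype ι] (B : Block F ι)

theorem Block.arr_alpha (a : ι) (i : Ir₁ W₁ W₂) (j : Ir₂ W₁ W₂) :
    ∃ b, Rect 1 1 b ∧ ∀ x y, F.arr (tau S (B.alpha a i j)) x y =
      b x y + pat i j 1 ((B.deg a : ℤ) * F.sgn j) x y :=
  F.arr_pattern (tau_gen (B.alpha_gen a i j) (B.alpha_supp a i j)) i _
    fun w hw => B.alpha_val a i j w hw

theorem Block.alpha₀_rect [Fintype (Ir₁ W₁ W₂)] (a : ι) :
    Rect 1 1 (F.arr (tau S (B.alpha₀ a))) :=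
  F.rect_of (tau_gen (B.alpha₀_gen a) (B.alpha₀_supp a)) fun w hw => B.alpha₀_val a w hw

/-- The coefficients are proportional to the degrees. -/
theorem Block.coef_prop {α : M → ℂ} (hα : Supp S α) {c : ι} (hc : B.deg c = 1) (b : ι) :
    Cfsg.classInner (tau S α) (B.img b) = Cfsg.classInner α (B.ch b) +
      (B.deg b : ℂ) * (Cfsg.classInner (tau S α) (B.img c) - Cfsg.classInner α (B.ch c)) := by
  have h := B.prop hα c b
  rw [hc, Nat.cast_one, one_mul] at h
  linear_combination -h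

theorem pat_sq [Fintype (Ir₁ W₁ W₂)] [Fintype (Ir₂ W₁ W₂)] (i : Ir₁ W₁ W₂) {j k : Ir₂ W₁ W₂}
    (hjk : j ≠ k) (e : ℤ) : Prime.sq (pat i j k e) = 2 * e ^ 2 := by
  classical
  rw [Prime.sq, Finset.sum_eq_single i (fun x _ hx => by simp [pat, hx]) (by simp),
    ← Finset.sum_subset (Finset.subset_univ {j, k}) (fun y _ hy => by
      simp only [Finset.mem_insert, Finset.mem_singleton, not_or] at hy
      simp [pat, hy.1, hy.2]), Finset.sum_pair hjk]
  simp [pat, hjk, Ne.symm hjk]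
  ring

variable [Fintype (Ir₁ W₁ W₂)] [Fintype (Ir₂ W₁ W₂)]

omit [Fintype M] in
theorem three_le_card₁ (S : Setup M W₁ W₂ A₀ R) : 3 ≤ Fintype.card (Ir₁ W₁ W₂) := by
  rw [← Nat.card_eq_fintype_card, card_ir₁ S]; exact three_le₁ S

omit [Fintype M] in
theorem three_le_card₂ (S : Setup M W₁ W₂ A₀ R) : 3 ≤ Fintype.card (Ir₂ W₁ W₂) := by
  rw [← Nat.card_eq_fintype_card, card_ir₂ S]; exact three_le₂ S

/-- `τ α_ij` when `x = 0`. -/
theorem Block.gamma_eq {a : ι} (ha : B.deg a = 1) (i : Ir₁ W₁ W₂) {j : Ir₂ W₁ W₂} (hj : j ≠ 1)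
    (hx : Cfsg.classInner (tau S (B.alpha a i j)) (B.img a) = -(F.nn j : ℂ)) :
    tau S (B.alpha a i j) =
      (F.sgn j : ℂ) • (F.eta i j - F.eta i 1) - (F.nn j : ℂ) • B.img a := by
  classical
  set Γ := tau S (B.alpha a i j) with hΓ
  have hg : Cfsg.IsGeneralizedCharacter G Γ := tau_gen (B.alpha_gen a i j) (B.alpha_supp a i j)
  have hz : Cfsg.classInner Γ Γ = ((2 + F.nn j ^ 2 : ℤ) : ℂ) := by
    rw [hΓ, tau_inner (B.alpha_supp a i j) (B.alpha_supp a i j), B.alpha_norm a i hj, ha]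
    norm_num
  have hs2 : F.sgn j ^ 2 = 1 := by rcases F.sgn_eq j with h | h <;> rw [h] <;> norm_num
  obtain ⟨r, hr, hab⟩ := B.arr_alpha a i j
  have hca : B.coef Γ a = -F.nn j := by
    have := B.coef_spec hg a
    rw [hx] at this
    exact_mod_cast this.symm
  have hb := (B.bound hg hz).1
  have h2 : F.nn j ^ 2 ≤ ∑ b, B.coef Γ b ^ 2 := by
    refine le_trans ?_ (Finset.single_le_sum (f := fun b => B.coef Γ b ^ 2)
      (fun _ _ => sq_nonneg _) (Finset.mem_univ a))
    show F.nn j ^ 2 ≤ B.coef Γ a ^ 2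
    rw [hca, neg_sq]
  have he : ((B.deg a : ℤ) * F.sgn j) = 1 ∨ ((B.deg a : ℤ) * F.sgn j) = -1 := by
    rw [ha]; simpa using F.sgn_eq j
  have hr0 := pattern_eq (three_le_card₁ S) (three_le_card₂ S) hr hj he hab (by linarith)
  have hA : ∀ x y, F.arr Γ x y = pat i j 1 (F.sgn j) x y := fun x y => by
    rw [hΓ, hab, hr0, zero_add, ha, Nat.cast_one, one_mul]
  refine eq_of_inner hz ?_ ?_
  · simp only [classInner_sub_left, classInner_sub_right, classInner_smul_left,
      classInner_smul_right, F.eta_inner, B.eta_orth, B.eta_orth', B.self, map_intCast,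
      hj, Ne.symm hj, and_false, if_false, and_self, if_true]
    have := congrArg (Int.cast : ℤ → ℂ) hs2
    push_cast at this ⊢
    linear_combination 2 * this
  · simp only [classInner_sub_right, classInner_smul_right, F.arr_spec hg, hx, map_intCast, hA]
    simp only [pat, if_true, hj, Ne.symm hj, if_false]
    have := congrArg (Int.cast : ℤ → ℂ) hs2
    push_cast at this ⊢
    linear_combination 2 * this

/-- The first column. -/
theorem Block.gamma₀_eq {a : ι} (ha : B.deg a = 1)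
    (hx : ∀ i, ∀ j, j ≠ 1 → Cfsg.classInner (tau S (B.alpha a i j)) (B.img a) = -(F.nn j : ℂ)) :
    tau S (B.alpha₀ a) = (∑ i, F.eta i 1) - B.img a := by
  classical
  set Γ := tau S (B.alpha₀ a) with hΓ
  have hg : Cfsg.IsGeneralizedCharacter G Γ := tau_gen (B.alpha₀_gen a) (B.alpha₀_supp a)
  have hz : Cfsg.classInner Γ Γ = ((Nat.card W₁ + 1 : ℤ) : ℂ) := by
    rw [hΓ, tau_inner (B.alpha₀_supp a) (B.alpha₀_supp a), B.alpha₀_norm, ha]
    norm_num
  set y : ℤ := B.coef Γ a + 1 with hy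
  have hca : B.coef Γ a = y - 1 := by rw [hy]; ring
  have hcb : B.coef Γ (B.cj a) = y := by
    have h := B.coef_prop (B.alpha₀_supp a) ha (B.cj a)
    rw [← hΓ, B.coef_spec hg, B.coef_spec hg, B.deg_cj, ha, B.alpha₀_ch, B.alpha₀_ch, B.ch_inner,
      B.ch_inner, if_neg (B.cj_ne a).symm, if_pos rfl, Nat.cast_one, one_mul, hca] at h
    push_cast at h
    have h' : (B.coef Γ (B.cj a) : ℂ) = (y : ℂ) := by linear_combination h
    exact_mod_cast h'
  have hsum : 1 ≤ ∑ b, B.coef Γ b ^ 2 := by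
    have h2 : ∑ b ∈ ({a, B.cj a} : Finset ι), B.coef Γ b ^ 2 ≤ ∑ b, B.coef Γ b ^ 2 :=
      Finset.sum_le_sum_of_subset_of_nonneg (Finset.subset_univ _) fun _ _ _ => sq_nonneg _
    rw [Finset.sum_pair (B.cj_ne a).symm, hca, hcb] at h2
    rcases eq_or_ne y 0 with h0 | h0
    · rw [h0] at h2; linarith
    · linarith [one_le_sq h0, sq_nonneg (y - 1)]
  have hb := (B.bound hg hz).1
  have hrect : Rect 1 1 (F.arr Γ) := B.alpha₀_rect a
  have h00 : F.arr Γ 1 1 = 1 := by
    refine F.arr_eq ?_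
    rw [F.eta_one, hΓ, tau_inner_one (B.alpha₀_supp a), ← F.mu_one_one.1, Block.alpha₀,
      classInner_sub_left, classInner_smul_left, muSum_inner, (B.ch_mu a 1 1).1, ha]
    simp
  have hrow : ∀ i, ∀ j, j ≠ 1 →
      F.arr Γ i j - F.arr Γ i 1 = F.sgn j * F.nn j * y - 1 := by
    intro i j hj
    have h := tau_inner (B.alpha₀_supp a) (B.alpha_supp a i j)
    rw [B.gamma_eq ha i hj (hx i j hj), B.alpha₀_alpha a i hj, classInner_sub_right,
      classInner_smul_right, classInner_smul_right, classInner_sub_right, ← hΓ, F.arr_spec hg,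
      F.arr_spec hg, B.coef_spec hg, hca, map_intCast, map_intCast, ha] at h
    have h' : F.sgn j * (F.arr Γ i j - F.arr Γ i 1) - F.nn j * (y - 1) = F.nn j - 1 ^ 2 * F.sgn j := by
      push_cast at h
      exact_mod_cast (by push_cast; linear_combination h :
        ((F.sgn j * (F.arr Γ i j - F.arr Γ i 1) - F.nn j * (y - 1) : ℤ) : ℂ) =
          ((F.nn j - 1 ^ 2 * F.sgn j : ℤ) : ℂ))
    rcases F.sgn_eq j with e | e <;> rw [e] at h' ⊢ <;> linarith
  obtain ⟨j₁, hj₁⟩ := Fintype.exists_ne_of_one_lt_card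
    (by have := three_le_card₂ S; omega) (1 : Ir₂ W₁ W₂)
  have hne : ∀ i, ∃ j, F.arr Γ i j ≠ 0 := by
    intro i
    by_contra hall
    push Not at hall
    have h := hrow i j₁ hj₁
    rw [hall, hall, sub_self] at h
    obtain ⟨c, hc⟩ := (F.two_le_nn hj₁).2.1
    have h2 : (2 : ℤ) ∣ 1 := ⟨F.sgn j₁ * c * y, by rw [hc] at h; linarith⟩
    norm_num at h2
  have hq : (Fintype.card (Ir₁ W₁ W₂) : ℤ) = Nat.card W₁ := by
    rw [← Nat.card_eq_fintype_card, card_ir₁ S]
  obtain ⟨hcol, hsq⟩ := col_eq (three_le_card₂ S) hrect h00 hne (by rw [hq]; linarith)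
  have hy0 : y = 0 := by
    have h := hrow 1 j₁ hj₁
    rw [hcol, hcol, if_neg hj₁, if_pos rfl] at h
    have h0 : F.sgn j₁ * F.nn j₁ * y = 0 := by linarith
    have hs : F.sgn j₁ ≠ 0 := by rcases F.sgn_eq j₁ with e | e <;> rw [e] <;> norm_num
    have hn : F.nn j₁ ≠ 0 := by have := (F.two_le_nn hj₁).1; omega
    simpa [hs, hn] using h0
  refine eq_of_inner hz ?_ ?_
  · simp only [classInner_sub_left, classInner_sub_right, classInner_sum_left,
      classInner_sum_right, B.eta_orth, B.eta_orth', B.self, F.eta_inner]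
    rw [← card_ir₁ S, Nat.card_eq_fintype_card]
    simp
  · simp only [classInner_sub_right, classInner_sum_right, F.arr_spec hg, B.coef_spec hg, hcol,
      if_true, hca, hy0]
    rw [← card_ir₁ S, Nat.card_eq_fintype_card]
    simp

end CfsgLib.OddChar.Prime
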