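import Cfsg.Agent.Lib.OddChar.Prime.Levels
import Cfsg.Agent.Lib.OddChar.Prime.Flat
import Cfsg.Agent.Lib.OddChar.TISylow
import Cfsg.Agent.Lib.CharNormal.Galois

/-!
# Linear blocks when `M'` is a TI Sylow subgroup

* `FiveTI`: the hypotheses; `tau_res`: restriction to `M`;
* `dvd_sub_of_const`: the congruence on a central subgroup;
* `IsLin`: blocks of linear inductions, closed under automorphisms of `ℂ`; their images are
  constant on generators of cyclic subgroups of `M''` (`img_const`);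
* `Block.alpha₀_coef`, `Block.gamma_coef`: the two inequalities.
-/

set_option autoImplicit false
set_option linter.unusedSectionVars false

namespace CfsgLib.OddChar.Prime

open CfsgLib.Char CfsgLib.CharNormal
open CfsgLib.OddChar

universe u

variable {G : Type u} [Group G] [Fintype G] {M : Subgroup G} {W₁ W₂ : Subgroup G} {A₀ : Set G}
  {R : G → Subgroup G} [Fintype M] [Fintype (commutator M)]

/-- `M'` is a TI Sylow subgroup with normaliser `M`, and the Dade map is induction. -/
structure FiveTI (S : Setup M W₁ W₂ A₀ R) {p : ℕ} [Fact p.Prime] (P : Sylow p G) : Prop where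
  R_bot : ∀ a ∈ A₀, R a = ⊥
  eq : (P : Subgroup G) = (commutator M).map M.subtype
  ti : Cfsg.IsTISubset ((P : Subgroup G) : Set G)
  norm : Subgroup.normalizer ((P : Subgroup G) : Set G) = M

variable {S : Setup M W₁ W₂ A₀ R} {p : ℕ} [Fact p.Prime] {P : Sylow p G}

/-- Reciprocity for the Dade map. -/
theorem tau_res (h : FiveTI S P) {α : M → ℂ} (hα : Supp S α) {θ : G → ℂ}
    (hθ : Cfsg.IsClassFunction G θ) :
    Cfsg.classInner (tau S α) θ = Cfsg.classInner α (fun x : M => θ x) :=
  Dade.dade_classInner S.dade hα.1 hα.2 hθ fun a ha => by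
    rw [h.R_bot _ ha, Subgroup.card_bot, Nat.cast_one, inv_one, one_mul, Subgroup.coe_bot,
      finsum_mem_singleton, mul_one]

theorem card_sylow (h : FiveTI S P) : Nat.card (P : Subgroup G) = Nat.card (commutator M) := by
  rw [h.eq, Subgroup.card_map_of_injective M.subtype_injective]

/-- The congruence for characters constant on a central normal subgroup of `M'`. -/
theorem dvd_sub_of_const (h : FiveTI S P) (Z : Subgroup M) [hZn : Z.Normal]
    (hZK : Z ≤ commutator M) (hZc : ∀ z ∈ Z, ∀ k ∈ commutator M, z * k = k * z) {ψ : G → ℂ}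
    (hg : Cfsg.IsGeneralizedCharacter G ψ) (h1 : Cfsg.classInner ψ ψ = 1)
    (hconst : ∀ z ∈ Z, ∀ z' ∈ Z, z ≠ 1 → z' ≠ 1 → ψ (z : G) = ψ (z' : G)) {z : M} (hz : z ∈ Z)
    (hz1 : z ≠ 1) : ∃ k : ℤ, ψ 1 - ψ z = (k : ℂ) * (Nat.card (commutator M) : ℂ) := by
  have key : ∀ φ : G → ℂ, Cfsg.IsIrrCharacter G φ →
      (∀ z ∈ Z, ∀ z' ∈ Z, z ≠ 1 → z' ≠ 1 → φ (z : G) = φ (z' : G)) →
      ∃ k : ℤ, φ 1 - φ z = (k : ℂ) * (Nat.card (commutator M) : ℂ) := by
    intro φ hφ hc
    have hn1 : ∀ x : M, x ≠ 1 ↔ (x : G) ≠ 1 := fun x =>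
      ⟨fun hx e => hx (Subtype.ext e), fun hx e => hx (by rw [e]; rfl)⟩
    obtain ⟨n, d, hn, hd, k, hk⟩ := exists_dvd_sub p P h.ti (by rw [h.norm]; exact odd_M S)
      (Z.map M.subtype) (by rw [h.eq]; exact Subgroup.map_mono hZK)
      (fun x hx y hy => by
        rw [h.norm] at hx
        obtain ⟨y, hy', rfl⟩ := hy
        exact ⟨⟨x, hx⟩ * y * ⟨x, hx⟩⁻¹, hZn.conj_mem y hy' ⟨x, hx⟩, rfl⟩)
      (fun y hy g hg => by
        rw [h.eq] at hg
        obtain ⟨y, hy', rfl⟩ := hy
        obtain ⟨g, hg', rfl⟩ := hg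
        exact congrArg Subtype.val (hZc y hy' g hg'))
      φ hφ (fun y hy y' hy' e e' => by
        obtain ⟨y, hy1, rfl⟩ := hy
        obtain ⟨y', hy1', rfl⟩ := hy'
        exact hc y hy1 y' hy1' ((hn1 y).mpr e) ((hn1 y').mpr e'))
      (z : G) ⟨z, hz, rfl⟩ ((hn1 z).mp hz1)
    refine ⟨k, ?_⟩
    rw [hd, hn, ← card_sylow h, ← Int.cast_sub, hk]
    push_cast
    ring
  rcases gen_norm_one hg h1 with hi | hi
  · exact key ψ hi hconst
  · obtain ⟨k, hk⟩ := key (-ψ) hi fun a ha b hb e e' => by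
      simp only [Pi.neg_apply, hconst a ha b hb e e']
    simp only [Pi.neg_apply] at hk
    exact ⟨-k, by push_cast; linear_combination -hk⟩

variable [Fintype (Ir₁ W₁ W₂)] [Fintype (Ir₂ W₁ W₂)] {F : Fam S} {ι : Type*} [Fintype ι]

/-- A block of linear inductions closed under automorphisms of `ℂ`. -/
structure IsLin (B : Block F ι) : Prop where
  deg : ∀ b, B.deg b = 1
  val : ∀ b, ∀ z ∈ ⁅commutator M, commutator M⁆, B.ch b z = (Nat.card W₁ : ℂ)
  gal : ∀ (σ : ℂ ≃+* ℂ) (b : ι), ∃ b', B.ch b' = σ ∘ B.ch b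

omit [Fintype M] [Fintype (commutator M)] [Fintype (Ir₁ W₁ W₂)] [Fintype (Ir₂ W₁ W₂)] [Fintype G] in
theorem tau_ringEquiv (S : Setup M W₁ W₂ A₀ R) (σ : ℂ ≃+* ℂ) (α : M → ℂ) :
    tau S (σ ∘ α) = σ ∘ tau S α := by
  funext g
  simp only [tau, Cfsg.dadeIsometry, Function.comp_apply]
  split <;> simp

theorem IsLin.one (B : Block F ι) (hB : IsLin B) (a b : ι) : B.img a 1 = B.img b 1 := by
  have h := congrFun (B.link_eq (show B.deg a = B.deg b by rw [hB.deg, hB.deg])) 1
  rw [tau_apply_one, Pi.sub_apply] at h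
  exact sub_eq_zero.mp h.symm

/-- Automorphisms of `ℂ` permute the images. -/
theorem IsLin.img_galois {B : Block F ι} (hB : IsLin B) (σ : ℂ ≃+* ℂ) {a a' : ι}
    (ha : B.ch a' = σ ∘ B.ch a) : σ ∘ B.img a = B.img a' := by
  classical
  set b := B.cj a with hb
  obtain ⟨b', hb'⟩ := hB.gal σ b
  have hne : b' ≠ a' := fun e => B.cj_ne a (B.inj (funext fun x => σ.injective (by
    have h1 := congrFun (e ▸ hb' : B.ch a' = σ ∘ B.ch b) x
    rw [ha] at h1
    exact h1.symm)))
  have hgen : ∀ c, Cfsg.IsGeneralizedCharacter G (σ ∘ B.img c) ∧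
      Cfsg.classInner (σ ∘ B.img c) (σ ∘ B.img c) = 1 := fun c => by
    rcases gen_norm_one (B.gen c) (B.self c) with h | h
    · exact ⟨isGen_of_irr (isIrr_ringEquiv σ h), classInner_irr_self (isIrr_ringEquiv σ h)⟩
    · have e : σ ∘ B.img c = -(σ ∘ (-B.img c)) := by funext g; simp
      rw [e, classInner_neg_left, classInner_neg_right, neg_neg]
      exact ⟨isGen_neg (isGen_of_irr (isIrr_ringEquiv σ h)),
        classInner_irr_self (isIrr_ringEquiv σ h)⟩
  have hdiff : σ ∘ B.img a - σ ∘ B.img b = B.img a' - B.img b' := by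
    rw [← B.link_eq (show B.deg a' = B.deg b' by rw [hB.deg, hB.deg]), ha, hb']
    have h1 : σ ∘ B.ch a - σ ∘ B.ch b = σ ∘ (B.ch a - B.ch b) := by funext x; simp
    rw [h1, tau_ringEquiv, B.link_eq (show B.deg a = B.deg b by rw [hB.deg, hB.deg])]
    funext g; simp
  have hin := congrArg (fun f => Cfsg.classInner f (B.img a')) hdiff
  simp only [classInner_sub_left, B.self, B.ortho b' a' hne, sub_zero] at hin
  rcases unit_cases (hgen a).1 (hgen a).2 (B.gen a') (B.self a') with h | h | h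
  · rcases unit_cases (hgen b).1 (hgen b).2 (B.gen a') (B.self a') with h' | h' | h'
    · rw [h, h'] at hin; norm_num at hin
    · rw [h, h', B.self] at hin; norm_num at hin
    · exfalso
      obtain ⟨n, hn⟩ := gen_one_int (B.gen b)
      have h1 : B.img b 1 = -B.img b 1 := by
        have h2 := congrFun h' 1
        simp only [Function.comp_apply, Pi.neg_apply, hn, map_intCast] at h2
        rw [hB.one B a' b, hn] at h2
        rw [hn]
        exact h2
      exact unit_one_ne (B.gen b) (B.self b) (by linear_combination h1 / 2)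
  · exact h
  · rcases unit_cases (hgen b).1 (hgen b).2 (B.gen a') (B.self a') with h' | h' | h'
    · rw [h, classInner_neg_left, B.self, h'] at hin; norm_num at hin
    · rw [h, classInner_neg_left, B.self, h', B.self] at hin; norm_num at hin
    · rw [h, classInner_neg_left, B.self, h', classInner_neg_left, B.self] at hin; norm_num at hin

/-- The images are constant on the generators of a cyclic subgroup of `M''`. -/
theorem IsLin.img_const {B : Block F ι} (hB : IsLin B) (a : ι) {z : M}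
    (hz : z ∈ ⁅commutator M, commutator M⁆) (hz1 : z ≠ 1) {k : ℕ} (hk : k.Coprime (orderOf z)) :
    B.img a ((z : G) ^ k) = B.img a z := by
  obtain ⟨σ, hσ⟩ := exists_ringEquiv_root_pow (orderOf_pos z).ne' hk
  obtain ⟨a', ha'⟩ := hB.gal σ a
  have hzA : (z : G) ∈ A₀ :=
    S.kernel_mem z (Subgroup.commutator_le_left (commutator M) _ hz) hz1
  have hord : orderOf (z : G) ∣ orderOf z := dvd_of_eq (Subgroup.orderOf_coe z)
  have hsame : ∀ b, B.img b z = B.img a z := fun b => by
    have h := congrFun (B.link_eq (show B.deg b = B.deg a by rw [hB.deg, hB.deg])) (z : G)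
    rw [tau, Dade.dade_apply S.dade (B.supp_diff (show B.deg b = B.deg a by rw [hB.deg, hB.deg])).1
      hzA (x := 1) (u := 1) (one_mem _) (by simp), Pi.sub_apply, Pi.sub_apply, hB.val b z hz,
      hB.val a z hz, sub_self] at h
    exact sub_eq_zero.mp h.symm
  have hpow : ∀ b, σ (B.img b z) = B.img b ((z : G) ^ k) := fun b => by
    rcases gen_norm_one (B.gen b) (B.self b) with h | h
    · exact ringEquiv_char_apply hσ (isCharacter_of_isIrr h) hord
    · have := ringEquiv_char_apply hσ (isCharacter_of_isIrr h) hord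
      simp only [Pi.neg_apply, map_neg, neg_inj] at this
      exact this
  have hgal := congrFun (hB.img_galois σ ha') (z : G)
  rw [Function.comp_apply, hpow, hsame a'] at hgal
  exact hgal

/-- The coefficients of `τ α₀` on a linear block. -/
theorem Block.alpha₀_coef [DecidableEq ι] {B : Block F ι} (hB : IsLin B) (a : ι) :
    ∃ y : ℤ, (∀ b, Cfsg.classInner (tau S (B.alpha₀ a)) (B.img b) =
        ((y - if a = b then 1 else 0 : ℤ) : ℂ)) ∧
      (Fintype.card ι : ℤ) * y ^ 2 - 2 * y ≤ (Nat.card W₁ : ℤ) - 3 := by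
  classical
  set Γ := tau S (B.alpha₀ a) with hΓ
  have ha := hB.deg a
  have hg : Cfsg.IsGeneralizedCharacter G Γ := tau_gen (B.alpha₀_gen a) (B.alpha₀_supp a)
  have hz : Cfsg.classInner Γ Γ = ((Nat.card W₁ + 1 : ℤ) : ℂ) := by
    rw [hΓ, tau_inner (B.alpha₀_supp a) (B.alpha₀_supp a), B.alpha₀_norm, ha]
    norm_num
  set y : ℤ := B.coef Γ a + 1 with hy
  have hcb : ∀ b, B.coef Γ b = y - (if a = b then 1 else 0) := by
    intro b
    have h := B.coef_prop (B.alpha₀_supp a) ha b
    rw [← hΓ, B.coef_spec hg, B.coef_spec hg, hB.deg b, B.alpha₀_ch, B.alpha₀_ch, B.ch_inner,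
      B.ch_inner, if_pos rfl, Nat.cast_one, one_mul] at h
    have h' : (B.coef Γ b : ℂ) = ((y - (if a = b then 1 else 0) : ℤ) : ℂ) := by
      rw [h, hy]; split_ifs <;> push_cast <;> ring
    exact_mod_cast h'
  refine ⟨y, fun b => by rw [B.coef_spec hg, hcb b], ?_⟩
  have hsum : ∑ b, B.coef Γ b ^ 2 = (Fintype.card ι : ℤ) * y ^ 2 - 2 * y + 1 := by
    have : ∀ b, B.coef Γ b ^ 2 = y ^ 2 + (if a = b then 1 - 2 * y else 0) := fun b => by
      rw [hcb b]; split_ifs <;> ring
    rw [Finset.sum_congr rfl fun b _ => this b, Finset.sum_add_distrib, Finset.sum_const,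
      Finset.card_univ, nsmul_eq_mul, Finset.sum_ite_eq, if_pos (Finset.mem_univ a)]
    ring
  have hb := (B.bound hg hz).1
  rw [hsum] at hb
  -- the array has square sum at least three
  have h00 : F.arr Γ 1 1 = 1 := by
    refine F.arr_eq ?_
    rw [F.eta_one, hΓ, tau_inner_one (B.alpha₀_supp a)]
    have h1 : (fun _ : M => (1 : ℂ)) = F.mu 1 1 := F.mu_one_one.1.symm
    rw [h1, Block.alpha₀, classInner_sub_left, classInner_smul_left, muSum_inner, if_pos rfl, ha,
      (B.ch_mu a 1 1).1]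
    simp
  have hsq : (3 : ℤ) ≤ Prime.sq (F.arr Γ) := by
    by_cases hlt : Prime.sq (F.arr Γ) < Fintype.card (Ir₂ W₁ W₂)
    · have hrow := rows_ne_zero (B.alpha₀_rect a) h00 hlt
      have : (Fintype.card (Ir₁ W₁ W₂) : ℤ) ≤ Prime.sq (F.arr Γ) := by
        rw [Prime.sq, ← Finset.card_univ, Finset.cast_card]
        refine Finset.sum_le_sum fun x _ => ?_
        obtain ⟨z, hz0⟩ := hrow x
        exact le_trans (one_le_sq hz0)
          (Finset.single_le_sum (f := fun w => F.arr Γ x w ^ 2) (fun w _ => sq_nonneg _) (Finset.mem_univ z))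
      have := three_le_card₁ S
      omega
    · have := three_le_card₂ S
      omega
  linarith

/-- The coefficients of `τ (e ζ - ξ)` on a linear block. -/
theorem Block.gamma_coef [DecidableEq ι] {B : Block F ι} (hB : IsLin B) (a : ι) {ξ : M → ℂ}
    (hξ : Cfsg.IsIrrCharacter M ξ) (hoff : ∀ x : M, x ∉ commutator M → ξ x = 0) {e : ℕ}
    (h1 : ξ 1 = (e : ℂ) * (Nat.card W₁ : ℂ)) (hne : ∀ b, B.ch b ≠ ξ) :
    Supp S ((e : ℂ) • B.ch a - ξ) ∧ ∃ t : ℤ,
      (∀ b, Cfsg.classInner (tau S ((e : ℂ) • B.ch a - ξ)) (B.img b) =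
        (((if a = b then (e : ℤ) else 0) - t : ℤ) : ℂ)) ∧
      (Fintype.card ι : ℤ) * t ^ 2 - 2 * e * t ≤ 1 := by
  classical
  set f := (e : ℂ) • B.ch a - ξ with hf
  have hgen : Cfsg.IsGeneralizedCharacter M f := by
    rw [hf, show (e : ℂ) = ((e : ℤ) : ℂ) by simp]
    exact isGen_sub (isGen_intCast_smul (isGen_of_irr (B.irr a)) _) (isGen_of_irr hξ)
  have hsupp : Supp S f := supp_off (isClassFunction_of_isGen hgen)
    (by simp [hf, B.one, hB.deg a, h1]) fun x hx => by simp [hf, B.off a x hx, hoff x hx]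
  refine ⟨hsupp, ?_⟩
  set Γ := tau S f with hΓ
  have hg : Cfsg.IsGeneralizedCharacter G Γ := tau_gen hgen hsupp
  have hz : Cfsg.classInner Γ Γ = (((e : ℤ) ^ 2 + 1 : ℤ) : ℂ) := by
    rw [hΓ, tau_inner hsupp hsupp, hf]
    simp only [classInner_sub_left, classInner_sub_right, classInner_smul_left,
      classInner_smul_right, classInner_irr_self (B.irr a), classInner_irr_self hξ,
      classInner_irr_ne (B.irr a) hξ (hne a), classInner_irr_ne hξ (B.irr a) (hne a).symm,
      map_natCast]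
    push_cast
    ring
  have hfc : ∀ b, Cfsg.classInner f (B.ch b) = if a = b then (e : ℂ) else 0 := fun b => by
    rw [hf, classInner_sub_left, classInner_smul_left, B.ch_inner,
      classInner_irr_ne hξ (B.irr b) (hne b).symm]
    split_ifs <;> simp
  set t : ℤ := (e : ℤ) - B.coef Γ a with ht
  have hcb : ∀ b, B.coef Γ b = (if a = b then (e : ℤ) else 0) - t := by
    intro b
    have h := B.coef_prop hsupp (hB.deg a) b
    rw [← hΓ, B.coef_spec hg, B.coef_spec hg, hB.deg b, hfc, hfc, if_pos rfl, Nat.cast_one,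
      one_mul] at h
    have h' : (B.coef Γ b : ℂ) = (((if a = b then (e : ℤ) else 0) - t : ℤ) : ℂ) := by
      rw [h, ht]; split_ifs <;> push_cast <;> ring
    exact_mod_cast h'
  refine ⟨t, fun b => by rw [B.coef_spec hg, hcb b], ?_⟩
  have hsum : ∑ b, B.coef Γ b ^ 2 = (Fintype.card ι : ℤ) * t ^ 2 - 2 * e * t + (e : ℤ) ^ 2 := by
    have : ∀ b, B.coef Γ b ^ 2 = t ^ 2 + (if a = b then (e : ℤ) ^ 2 - 2 * e * t else 0) := fun b => by
      rw [hcb b]; split_ifs <;> ring
    rw [Finset.sum_congr rfl fun b _ => this b, Finset.sum_add_distrib, Finset.sum_const,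
      Finset.card_univ, nsmul_eq_mul, Finset.sum_ite_eq, if_pos (Finset.mem_univ a)]
    ring
  have hb := (B.bound hg hz).1
  rw [hsum] at hb
  have := sq_nonneg' (F.arr Γ)
  linarith

/-- The block of all linear inductions. -/
theorem exists_lin (F : Fam S) (hne : (degSet (M := M) 1).Nonempty) :
    ∃ B : Block F {φ : M → ℂ // φ ∈ degSet (M := M) 1}, (∀ b, B.ch b = b.1) ∧ IsLin B := by
  classical
  obtain ⟨B, hB, hd⟩ := exists_block_deg S F 1 hne
  refine ⟨B, hB, hd, fun b z hz => ?_, fun σ b => ?_⟩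
  · rw [hB]
    obtain ⟨θ, h1, -, e, -⟩ := mem_degSet.mp b.2
    rw [e, indFun_apply]
    rw [Nat.cast_one] at h1
    have hker : ∀ k : commutator M, (k : M) ∈ ⁅commutator M, commutator M⁆ →
        (θ : commutator M → ℂ) k = 1 := fun k hk => by
      have hk' : k ∈ commutator (commutator M) := by
        rw [← Subgroup.map_subtype_commutator] at hk
        obtain ⟨k', hk', e'⟩ := hk
        exact (Subtype.ext e' : k' = k) ▸ hk'
      have := congrArg Units.val (MonoidHom.mem_ker.mp
        (Abelianization.commutator_subset_ker (linearHom (isCharacter_of_isIrr θ.2) h1) hk'))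
      simpa [linearHom_apply] using this
    haveI : (⁅commutator M, commutator M⁆ : Subgroup M).Normal := Subgroup.commutator_normal _ _
    have hall : ∀ x : M, Cfsg.extendByZero (commutator M) (θ : commutator M → ℂ) (x⁻¹ * z * x) = 1 := by
      intro x
      have hx : x⁻¹ * z * x ∈ ⁅commutator M, commutator M⁆ := by
        simpa using (inferInstance : (⁅commutator M, commutator M⁆ : Subgroup M).Normal).conj_mem z hz x⁻¹
      rw [extendByZero_of_mem _ (Subgroup.commutator_le_left (commutator M) _ hx)]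
      exact hker _ hx
    rw [Finset.sum_congr rfl fun x _ => hall x, Finset.sum_const, Finset.card_univ, nsmul_eq_mul,
      mul_one, ← Nat.card_eq_fintype_card, ← (commutator M).index_mul_card, index_commutator S]
    have h0 : (Nat.card (commutator M) : ℂ) ≠ 0 := Nat.cast_ne_zero.mpr Nat.card_pos.ne'
    push_cast
    field_simp
  · obtain ⟨θ, h1, hθ, e, hirr⟩ := mem_degSet.mp b.2
    have hcomm : σ ∘ Cfsg.indFun (commutator M) (θ : commutator M → ℂ) =
        Cfsg.indFun (commutator M) (σ ∘ (θ : commutator M → ℂ)) := by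
      funext g
      simp only [Function.comp_apply, indFun_apply, map_mul, map_inv₀, map_natCast, map_sum]
      congr 1
      refine Finset.sum_congr rfl fun x _ => ?_
      by_cases hx : x⁻¹ * g * x ∈ commutator M
      · rw [extendByZero_of_mem _ hx, extendByZero_of_mem _ hx]; rfl
      · rw [extendByZero_of_notMem _ hx, extendByZero_of_notMem _ hx, map_zero]
    refine ⟨⟨σ ∘ b.1, mem_degSet.mpr ⟨⟨_, isIrr_ringEquiv σ θ.2⟩, ?_, fun e' => hθ (funext fun k => ?_),
      by rw [e, hcomm], ?_⟩⟩, by rw [hB, hB]⟩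
    · show σ ((θ : commutator M → ℂ) 1) = _
      rw [h1, map_natCast]
    · exact σ.injective (by rw [map_one]; exact congrFun e' k)
    · exact isIrr_ringEquiv σ (e ▸ hirr)

end CfsgLib.OddChar.Prime
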