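import Cfsg.Agent.Lib.Char.Product
import Cfsg.Agent.Lib.Char.Linear
import Cfsg.Agent.Lib.Char.Integral
import Cfsg.Agent.Lib.CharNormal.Kernel
import Cfsg.Agent.Lib.OddChar.CohExtend
import Cfsg.Agent.Lib.OddChar.Above
import Cfsg.Agent.Lib.FGS.ThompsonKernel
import Cfsg.Agent.Lib.CN.Structure

/-!
# Degrees of a nilpotent group modulo the derived group of its `p'`-part

For `K = P × Q` nilpotent (`P` its Sylow `p`-subgroup) and the irreducible characters trivial on
`Q'` (`lowSet`): the degrees are powers of `p` (`deg_lowSet`), the squares of the degrees sum to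
`|Q : Q'| |P|` (`sum_lowSet`), and below `p ^ k` to at least `|Q : Q'| p ^ (2k)` (`sum_lowSet_lt`).
-/

set_option autoImplicit false
set_option linter.unusedSectionVars false

namespace CfsgLib.OddChar.Prime

open CfsgLib.Char CfsgLib.CharNormal
open CfsgLib.OddChar.Coh (deg deg_eq deg_spec)

universe u

variable {K : Type u} [Group K] [Fintype K]

/-- The decomposition into the `p`-part and the `p'`-part. -/
structure NilSplit (p : ℕ) (P Q : Subgroup K) : Prop where
  isP : IsPGroup p P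
  cop : (Nat.card Q).Coprime p
  comm : ∀ a ∈ P, ∀ b ∈ Q, a * b = b * a
  compl : Subgroup.IsComplement' P Q

theorem exists_nilSplit [Group.IsNilpotent K] (p : ℕ) [Fact p.Prime] :
    ∃ P Q : Subgroup K, NilSplit p P Q := by
  obtain ⟨P, Q, hQ, hc⟩ := CfsgLib.FGS.hasNormalPComplement_of_isNilpotent (p := p) K
  have hcard : Nat.card Q = (P : Subgroup K).index := hc.index_eq_card.symm
  refine ⟨P, Q, P.isPGroup', ?_, fun a ha b hb => ?_, hc.symm⟩
  · rw [hcard, Nat.coprime_comm, (Fact.out : p.Prime).coprime_iff_not_dvd]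
    exact P.not_dvd_index
  · refine CfsgLib.OddLocal.commute_of_coprime_orderOf a b ?_
    exact (P.card_coprime_index.coprime_dvd_left (Subgroup.orderOf_dvd_natCard _ ha)).coprime_dvd_right
      (hcard ▸ Subgroup.orderOf_dvd_natCard _ hb)

variable {p : ℕ} [hp : Fact p.Prime] {P Q : Subgroup K} (hN : NilSplit p P Q)

open Classical in
/-- The irreducible characters trivial on `Q'`. -/
noncomputable def lowSet (Q : Subgroup K) : Finset (Cfsg.IrrCharacter K) :=
  Finset.univ.filter fun θ => ∀ d ∈ ⁅Q, Q⁆, (θ : K → ℂ) d = (θ : K → ℂ) 1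

theorem mem_lowSet {θ : Cfsg.IrrCharacter K} :
    θ ∈ lowSet Q ↔ ∀ d ∈ ⁅Q, Q⁆, (θ : K → ℂ) d = (θ : K → ℂ) 1 := by
  classical
  simp [lowSet]

include hN in
/-- The irreducible characters trivial on `Q'` as products. -/
theorem exists_lowEquiv :
    ∃ e : Cfsg.IrrCharacter P × {β : Cfsg.IrrCharacter Q // (β : Q → ℂ) 1 = 1} ≃ lowSet Q,
      ∀ x, ((e x).1 : K → ℂ) 1 = (x.1 : P → ℂ) 1 := by
  classical
  have := Fintype.ofFinite P
  have := Fintype.ofFinite Q
  let φ : P × Q →* K := MonoidHom.mk' (fun x => x.1 * x.2) fun x y => by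
    show ((x.1 * y.1 : P) : K) * ((x.2 * y.2 : Q) : K) = (x.1 : K) * x.2 * ((y.1 : K) * y.2)
    push_cast
    rw [mul_assoc, ← mul_assoc (y.1 : K), hN.comm _ y.1.2 _ x.2.2]
    group
  let e : P × Q ≃* K := MulEquiv.ofBijective φ hN.compl
  let mk : Cfsg.IrrCharacter P → Cfsg.IrrCharacter Q → Cfsg.IrrCharacter K := fun a b =>
    ⟨(fun x : P × Q => (a : P → ℂ) x.1 * (b : Q → ℂ) x.2) ∘ e.symm,
      isIrr_comp_mulEquiv (isIrr_prod a.2 b.2) e.symm⟩
  have hmk : ∀ a b (x : P × Q), (mk a b : K → ℂ) (e x) = (a : P → ℂ) x.1 * (b : Q → ℂ) x.2 :=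
    fun a b x => by simp [mk]
  have hQ' : ∀ a b (d : K) (hd : d ∈ Q), (mk a b : K → ℂ) d = (a : P → ℂ) 1 * (b : Q → ℂ) ⟨d, hd⟩ :=
    fun a b d hd => by
      have he : e (1, ⟨d, hd⟩) = d := by
        show ((1 : P) : K) * d = d
        simp
      rw [← hmk a b (1, ⟨d, hd⟩), he]
  have hone : ∀ a b, (mk a b : K → ℂ) 1 = (a : P → ℂ) 1 * (b : Q → ℂ) 1 := fun a b => hQ' a b 1 Q.one_mem
  -- linear exactly when trivial on the derived group
  have hlin : ∀ (a : Cfsg.IrrCharacter P) (b : Cfsg.IrrCharacter Q),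
      mk a b ∈ lowSet Q ↔ (b : Q → ℂ) 1 = 1 := by
    intro a b
    have ha0 : (a : P → ℂ) 1 ≠ 0 := irr_one_ne_zero a.2
    rw [mem_lowSet]
    constructor
    · intro h
      have hker : ∀ n ∈ (commutator Q), (b : Q → ℂ) n = (b : Q → ℂ) 1 := by
        intro n hn
        have hn' : (n : K) ∈ ⁅Q, Q⁆ := by
          rw [← Subgroup.map_subtype_commutator Q]; exact ⟨n, hn, rfl⟩
        have := h n hn'
        rw [hQ' a b n n.2, hone] at this
        exact mul_left_cancel₀ ha0 this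
      obtain ⟨ψ, hψ, e'⟩ := exists_irr_eq_comp_mk' (commutator Q) b.2 hker
      have := Fintype.ofFinite (Q ⧸ commutator Q)
      have h1 : ψ 1 = 1 := CfsgLib.Char.irr_one_eq_one_of_comm
        (fun x y => (mul_comm (x : Abelianization Q) y)) hψ
      rw [← e']
      simpa using h1
    · intro hb d hd
      have hdQ : d ∈ Q := Subgroup.commutator_le_self Q hd
      have hd' : (⟨d, hdQ⟩ : Q) ∈ commutator Q := by
        rw [← Subgroup.map_subtype_commutator Q] at hd
        obtain ⟨n, hn, rfl⟩ := hd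
        exact hn
      have hχ := isCharacter_of_isIrr b.2
      have := Abelianization.commutator_subset_ker (linearHom hχ hb) hd'
      rw [hQ' a b d hdQ, hone, hb]
      have h2 := congrArg Units.val (MonoidHom.mem_ker.mp this)
      simp only [linearHom_apply, Units.val_one] at h2
      rw [h2]
  refine ⟨Equiv.ofBijective (fun x => ⟨mk x.1 x.2.1, (hlin _ _).mpr x.2.2⟩) ⟨?_, ?_⟩, fun x => ?_⟩
  · rintro ⟨a, b, hb⟩ ⟨a', b', hb'⟩ h
    have hf : (fun x : P × Q => (a : P → ℂ) x.1 * (b : Q → ℂ) x.2) =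
        fun x : P × Q => (a' : P → ℂ) x.1 * (b' : Q → ℂ) x.2 := funext fun x => by
      rw [← hmk, ← hmk]
      exact congrFun (congrArg (fun t : lowSet Q => (t.1 : K → ℂ)) h) _
    have h1 := classInner_prod (a : P → ℂ) a' (b : Q → ℂ) b'
    rw [← hf, classInner_irr_self (isIrr_prod a.2 b.2)] at h1
    have ha : a = a' := by
      by_contra hne
      rw [classInner_irr_ne a.2 a'.2 fun e => hne (Subtype.ext e), zero_mul] at h1
      exact one_ne_zero h1
    have hb : b = b' := by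
      by_contra hne
      rw [classInner_irr_ne b.2 b'.2 fun e => hne (Subtype.ext e), mul_zero] at h1
      exact one_ne_zero h1
    subst ha; subst hb; rfl
  · rintro ⟨θ, hθ⟩
    obtain ⟨a, b, ha, hb, e'⟩ := (isIrr_prod_iff _).mp (isIrr_comp_mulEquiv θ.2 e)
    have he : mk ⟨a, ha⟩ ⟨b, hb⟩ = θ := Subtype.ext (funext fun k => by
      have := congrFun e' (e.symm k)
      simp only [Function.comp_apply, MulEquiv.apply_symm_apply] at this
      rw [this]; rfl)
    refine ⟨(⟨a, ha⟩, ⟨⟨b, hb⟩, (hlin ⟨a, ha⟩ ⟨b, hb⟩).mp (he ▸ hθ)⟩), Subtype.ext he⟩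
  · show (mk x.1 x.2.1 : K → ℂ) 1 = _
    rw [hone, x.2.2, mul_one]

include hN in
/-- Sums over `lowSet` of functions of the degree. -/
theorem sum_lowSet_eq [Fintype P] (f : ℕ → ℕ) :
    ∑ θ ∈ lowSet Q, f (deg (θ : K → ℂ)) =
      (commutator Q).index * ∑ α : Cfsg.IrrCharacter P, f (deg (α : P → ℂ)) := by
  classical
  have := Fintype.ofFinite Q
  obtain ⟨e, he⟩ := exists_lowEquiv hN
  have hd : ∀ x, deg ((e x).1 : K → ℂ) = deg (x.1 : P → ℂ) := fun x =>
    deg_eq ((he x).trans (deg_spec (isCharacter_of_isIrr x.1.2)))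
  rw [← Finset.sum_coe_sort (lowSet Q), ← e.sum_comp, Fintype.sum_prod_type, Finset.mul_sum]
  refine Finset.sum_congr rfl fun α _ => ?_
  simp only [hd]
  rw [Finset.sum_const, Finset.card_univ, smul_eq_mul, ← card_linear, Nat.card_eq_fintype_card]

theorem sum_deg_sq {H : Type u} [Group H] [Fintype H] :
    ∑ α : Cfsg.IrrCharacter H, deg (α : H → ℂ) ^ 2 = Nat.card H := by
  have h := sum_degree_sq (G := H)
  have h2 : ((∑ α : Cfsg.IrrCharacter H, deg (α : H → ℂ) ^ 2 : ℕ) : ℂ) = (Nat.card H : ℂ) := by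
    rw [← h]; push_cast
    exact Finset.sum_congr rfl fun α _ => by rw [deg_spec (isCharacter_of_isIrr α.2)]
  exact_mod_cast h2

include hN in
/-- The total of the squares of the degrees. -/
theorem sum_lowSet : ∑ θ ∈ lowSet Q, deg (θ : K → ℂ) ^ 2 = (commutator Q).index * Nat.card P := by
  have := Fintype.ofFinite P
  rw [sum_lowSet_eq hN (fun d => d ^ 2), sum_deg_sq]

include hN in
/-- The degrees in `lowSet`. -/
theorem deg_lowSet {θ : Cfsg.IrrCharacter K} (hθ : θ ∈ lowSet Q) :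
    ∃ k : ℕ, deg (θ : K → ℂ) = p ^ k ∧ p ^ (2 * k) ∣ Nat.card P ∧
      (1 ≤ k → p ^ (2 * k) * p ≤ Nat.card P) := by
  classical
  have := Fintype.ofFinite P
  obtain ⟨e, he⟩ := exists_lowEquiv hN
  obtain ⟨x, hx⟩ := e.surjective ⟨θ, hθ⟩
  set α := x.1
  have hd : deg (θ : K → ℂ) = deg (α : P → ℂ) := deg_eq (by
    have := he x
    rw [hx] at this
    rw [this, deg_spec (isCharacter_of_isIrr α.2)])
  obtain ⟨n, hn⟩ := hN.isP.exists_card_eq
  have hα := deg_spec (isCharacter_of_isIrr α.2)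
  obtain ⟨k, hk, hk'⟩ := (Nat.dvd_prime_pow hp.out).mp (hn ▸ degree_dvd_card α.2 hα)
  rw [hd]
  have hle : deg (α : P → ℂ) ^ 2 * Nat.card (Subgroup.center P) ≤ Nat.card P :=
    Above.sq_degree_le α.2 (Subgroup.center P) (fun d hd' c => by
      rw [← Subgroup.mem_center_iff.mp hd' c, mul_inv_cancel_right, mul_inv_cancel]) hα
  rw [hk', ← pow_mul, mul_comm k 2] at hle
  refine ⟨k, hk', ?_, fun h1 => ?_⟩
  · rw [hn]
    refine pow_dvd_pow p ((Nat.pow_le_pow_iff_right hp.out.one_lt).mp ?_)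
    exact le_trans (Nat.le_mul_of_pos_right _ Nat.card_pos) (hn ▸ hle)
  · refine le_trans (Nat.mul_le_mul_left _ ?_) hle
    have : Nontrivial P := by
      by_contra hnt
      rw [not_nontrivial_iff_subsingleton] at hnt
      have h0 : Nat.card P = 1 := Nat.card_eq_one_iff_unique.mpr ⟨hnt, inferInstance⟩
      rw [h0] at hle
      have : p ^ 1 ≤ p ^ (2 * k) := Nat.pow_le_pow_right hp.out.pos (by omega)
      have := Nat.card_pos (α := Subgroup.center P)
      have := hp.out.two_le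
      nlinarith
    have := hN.isP.center_nontrivial
    obtain ⟨j, hj⟩ := (hN.isP.to_subgroup (Subgroup.center P)).exists_card_eq
    rcases Nat.eq_zero_or_pos j with h0 | h0
    · exact absurd ((Finite.one_lt_card_iff_nontrivial).mpr inferInstance) (by rw [hj, h0, pow_zero]; exact lt_irrefl 1)
    · rw [hj]; exact Nat.le_self_pow h0.ne' p

include hN in
/-- The squares of the small degrees. -/
theorem sum_lowSet_lt {k : ℕ} (hk : 1 ≤ k) (hdvd : p ^ (2 * k) ∣ Nat.card P) :
    (commutator Q).index * p ^ (2 * k) ≤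
      ∑ θ ∈ (lowSet Q).filter (fun θ : Cfsg.IrrCharacter K => deg (θ : K → ℂ) < p ^ k),
        deg (θ : K → ℂ) ^ 2 := by
  classical
  have := Fintype.ofFinite P
  rw [Finset.sum_filter, sum_lowSet_eq hN (fun d => if d < p ^ k then d ^ 2 else 0)]
  refine Nat.mul_le_mul_left _ ?_
  have hbig : p ^ (2 * k) ∣
      ∑ α : Cfsg.IrrCharacter P, if deg (α : P → ℂ) < p ^ k then 0 else deg (α : P → ℂ) ^ 2 := by
    refine Finset.dvd_sum fun α _ => ?_
    split_ifs with h
    · exact dvd_zero _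
    · obtain ⟨n, hn⟩ := hN.isP.exists_card_eq
      obtain ⟨l, -, hl⟩ := (Nat.dvd_prime_pow hp.out).mp
        (hn ▸ degree_dvd_card α.2 (deg_spec (isCharacter_of_isIrr α.2)))
      rw [hl] at h ⊢
      rw [← pow_mul]
      refine pow_dvd_pow p ?_
      have := (Nat.pow_le_pow_iff_right hp.out.one_lt).mp (not_lt.mp h)
      omega
  have hadd : (∑ α : Cfsg.IrrCharacter P, if deg (α : P → ℂ) < p ^ k then deg (α : P → ℂ) ^ 2 else 0) +
      (∑ α : Cfsg.IrrCharacter P, if deg (α : P → ℂ) < p ^ k then 0 else deg (α : P → ℂ) ^ 2) =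
      Nat.card P := by
    rw [← Finset.sum_add_distrib, ← sum_deg_sq (H := P)]
    exact Finset.sum_congr rfl fun α _ => by split_ifs <;> simp
  refine Nat.le_of_dvd ?_ ((Nat.dvd_add_left hbig).mp (hadd ▸ hdvd))
  refine lt_of_lt_of_le zero_lt_one ?_
  refine le_trans ?_ (Finset.single_le_sum (fun _ _ => Nat.zero_le _) (Finset.mem_univ (irrOne : Cfsg.IrrCharacter P)))
  have h1 : deg ((irrOne : Cfsg.IrrCharacter P) : P → ℂ) = 1 := deg_eq (by rw [irrOne_apply, Nat.cast_one])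
  rw [h1, if_pos (Nat.one_lt_pow (by omega) hp.out.one_lt)]
  simp

include hN in
/-- The `p`-elements lie in `P`. -/
theorem NilSplit.mem_left [P.Normal] {a : K} {i : ℕ} (h : a ^ p ^ i = 1) : a ∈ P := by
  refine CfsgLib.CN.mem_of_coprime_index ?_
  refine Nat.Coprime.coprime_dvd_left (orderOf_dvd_of_pow_eq_one h) ?_
  rw [hN.compl.symm.index_eq_card]
  exact (hN.cop.symm).pow_left i

include hN in
theorem NilSplit.normal_left : P.Normal := by
  refine ⟨fun a ha g => ?_⟩
  obtain ⟨⟨x, y⟩, e⟩ := hN.compl.2 g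
  have e' : (x : K) * y = g := e
  rw [← e', show (x : K) * y * a * ((x : K) * y)⁻¹ = x * (y * a) * (y : K)⁻¹ * (x : K)⁻¹ by group,
    ← hN.comm a ha _ y.2, mul_assoc (x : K), mul_inv_cancel_right]
  exact mul_mem (mul_mem x.2 ha) (inv_mem x.2)

include hN in
theorem NilSplit.normal_right : Q.Normal := by
  refine ⟨fun b hb g => ?_⟩
  obtain ⟨⟨x, y⟩, e⟩ := hN.compl.2 g
  have e' : (x : K) * y = g := e
  rw [← e', show (x : K) * y * b * ((x : K) * y)⁻¹ = x * (y * b * (y : K)⁻¹) * (x : K)⁻¹ by group,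
    hN.comm _ x.2 _ (mul_mem (mul_mem y.2 hb) (inv_mem y.2)), mul_inv_cancel_right]
  exact mul_mem (mul_mem y.2 hb) (inv_mem y.2)

include hN in
/-- The elements of order prime to `p` lie in `Q`. -/
theorem NilSplit.mem_right {b : K} (h : (orderOf b).Coprime p) : b ∈ Q := by
  haveI := hN.normal_right
  refine CfsgLib.CN.mem_of_coprime_index ?_
  obtain ⟨n, hn⟩ := hN.isP.exists_card_eq
  rw [hN.compl.index_eq_card, hn]
  exact h.pow_right n

include hN in
/-- The `Q`-part of an irreducible character. -/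
theorem NilSplit.exists_Qpart (θ : Cfsg.IrrCharacter K) :
    ∃ θ' : Cfsg.IrrCharacter K, ∃ c : ℂ, c ≠ 0 ∧
      ∀ a ∈ P, ∀ b ∈ Q, c * (θ' : K → ℂ) (a * b) = (θ : K → ℂ) b := by
  classical
  have := Fintype.ofFinite P
  have := Fintype.ofFinite Q
  let φ : P × Q →* K := MonoidHom.mk' (fun x => x.1 * x.2) fun x y => by
    show ((x.1 * y.1 : P) : K) * ((x.2 * y.2 : Q) : K) = (x.1 : K) * x.2 * ((y.1 : K) * y.2)
    push_cast
    rw [mul_assoc, ← mul_assoc (y.1 : K), hN.comm _ y.1.2 _ x.2.2]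
    group
  let e : P × Q ≃* K := MulEquiv.ofBijective φ hN.compl
  obtain ⟨α, β, hα, hβ, he⟩ := (isIrr_prod_iff _).mp (isIrr_comp_mulEquiv θ.2 e)
  refine ⟨⟨(fun x : P × Q => (1 : ℂ) * β x.2) ∘ e.symm,
      isIrr_comp_mulEquiv (isIrr_prod (φ := fun _ : P => (1 : ℂ)) isIrrCharacter_one hβ) e.symm⟩,
    α 1, irr_one_ne_zero hα, fun a ha b hb => ?_⟩
  have h1 : e.symm (a * b) = (⟨a, ha⟩, ⟨b, hb⟩) := by
    rw [MulEquiv.symm_apply_eq]; rfl
  have h2 : (θ : K → ℂ) b = α 1 * β ⟨b, hb⟩ := by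
    have := congrFun he (1, ⟨b, hb⟩)
    simp only [Function.comp_apply] at this
    have he1 : e (1, ⟨b, hb⟩) = b := by
      show ((1 : P) : K) * b = b
      simp
    rw [he1] at this
    exact this
  rw [h2]
  show α 1 * ((1 : ℂ) * β (e.symm (a * b)).2) = _
  rw [h1, one_mul]

end CfsgLib.OddChar.Prime
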