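import Cfsg.Agent.Lib.OddChar.Prime.DegBlock
import Cfsg.Agent.Lib.OddChar.Prime.Criteria
import Cfsg.Agent.Lib.OddChar.Prime.NilSplit
import Cfsg.Agent.Lib.OddChar.CentralCoh
import Cfsg.Agent.S1514

/-!
# A large coherent block when `M'` is nilpotent

* `exists_system`: a set of irreducible characters vanishing off `M'` is a coherence system;
* `Fam.colRes`, `Fam.irr_or_col`, `Fam.colRes_triv`: the invariant characters of `M'`;
* `levels_block`: the characters trivial on the derived group of the `p'`-part give a block whose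
  weight exceeds `2 n` when `q` is small against `p` or against the `p'`-part.
-/

set_option autoImplicit false
set_option linter.unusedSectionVars false

namespace CfsgLib.OddChar.Prime

open CfsgLib.Char CfsgLib.CharNormal
open CfsgLib.OddChar
open CfsgLib.OddChar.Coh (deg deg_eq deg_spec)
open scoped ComplexConjugate

universe u

variable {G : Type u} [Group G] [Fintype G] {M : Subgroup G} {W₁ W₂ : Subgroup G} {A₀ : Set G}
  {R : G → Subgroup G} [Fintype M] [Fintype (commutator M)] {S : Setup M W₁ W₂ A₀ R}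

omit [Fintype G] in
theorem indFun_off (θ : commutator M → ℂ) (x : M) (hx : x ∉ commutator M) :
    Cfsg.indFun (commutator M) θ x = 0 := by
  classical
  rw [indFun_apply, Finset.sum_eq_zero, mul_zero]
  intro y _
  refine extendByZero_of_notMem _ fun h => hx ?_
  have := (inferInstance : (commutator M).Normal).conj_mem _ h y
  simpa [mul_assoc] using this

include S in
/-- An irreducible character vanishing off `M'` is not real. -/
theorem conjFun_ne_of_off {φ : M → ℂ} (hirr : Cfsg.IsIrrCharacter M φ)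
    (hoff : ∀ x : M, x ∉ commutator M → φ x = 0) : Cfsg.conjFun φ ≠ φ := by
  intro e'
  have h1 : φ = fun _ => 1 := by
    have h := irr_real_eq_one (odd_M S) (χ := ⟨φ, hirr⟩)
      ((irrConj_eq_self_iff _).mpr fun g => Complex.conj_eq_iff_im.mp (congrFun e' g))
    exact (congrArg Subtype.val h).trans (funext fun g => irrOne_apply g)
  obtain ⟨a, ha, ha1⟩ := exists_mem_ne_one S.ne₁
  have hx : (⟨a, S.le₁ ha⟩ : M) ∉ commutator M := fun hK => by
    have : (⟨a, S.le₁ ha⟩ : M) ∈ commutator M ⊓ W₁.subgroupOf M := ⟨hK, ha⟩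
    rw [S.inf_eq, Subgroup.mem_bot] at this
    exact ha1 (congrArg Subtype.val this)
  have h2 := hoff _ hx
  rw [h1] at h2
  simp at h2

/-- A set of irreducible characters vanishing off `M'` gives a coherence system. -/
theorem exists_system (T : Finset (M → ℂ)) (hT : T.Nonempty)
    (hirr : ∀ φ ∈ T, Cfsg.IsIrrCharacter M φ) (hconj : ∀ φ ∈ T, Cfsg.conjFun φ ∈ T)
    (hoff : ∀ φ ∈ T, ∀ x : M, x ∉ commutator M → φ x = 0) :
    ∃ R', Cfsg.IsCoherenceSystem (↑T : Set (M → ℂ)) (tau S) R' := by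
  refine Cfsg.Agent.S1514.result _ hT hirr
    (fun φ hφ => ⟨hconj φ hφ, conjFun_ne_of_off (S := S) (hirr φ hφ) (hoff φ hφ)⟩) (tau S)
    ⟨fun a _ b _ => tau_add a b, fun a _ n => ?_, fun a ha b hb => ?_, fun a ha => ?_⟩
    fun a _ => tau_apply_one a
  · rw [← Int.cast_smul_eq_zsmul ℂ, tau_smul, Int.cast_smul_eq_zsmul]
  · exact tau_inner (supp_zspanOn T hirr hoff ha).1 (supp_zspanOn T hirr hoff hb).1
  · exact tau_gen (supp_zspanOn (S := S) T hirr hoff ha).2 (supp_zspanOn (S := S) T hirr hoff ha).1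

variable [Fintype (Ir₁ W₁ W₂)] [Fintype (Ir₂ W₁ W₂)] (F : Fam S)

/-- The invariant characters of `M'`. -/
noncomputable def Fam.colRes (j : Ir₂ W₁ W₂) : Cfsg.IrrCharacter (commutator M) :=
  ⟨fun k => F.mu 1 j k, (F.res_irr j).1⟩

theorem Fam.colRes_deg (j : Ir₂ W₁ W₂) :
    ((deg (F.colRes j : commutator M → ℂ) : ℕ) : ℤ) = F.sgn j + F.nn j * Nat.card W₁ := by
  have h : (F.colRes j : commutator M → ℂ) 1 = F.mu 1 j 1 := rfl
  rw [deg_spec (isCharacter_of_isIrr (F.colRes j).2), F.mu_apply_one] at h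
  exact_mod_cast h

theorem Fam.colRes_conj (j : Ir₂ W₁ W₂) :
    Cfsg.conjFun (F.colRes j : commutator M → ℂ) = F.colRes j⁻¹ := by
  funext k
  have h := congrFun (F.mu_conj 1 j).1 (k : M)
  rw [show (1 : Ir₁ W₁ W₂)⁻¹ = 1 from
    Subtype.ext (inv_one (G := ↥(W₁ ⊔ W₂) →* ℂˣ))] at h
  simpa [Fam.colRes, Cfsg.conjFun] using h

/-- A nonprincipal character of `M'` induces irreducibly unless it is a column. -/
theorem Fam.irr_or_col (θ : Cfsg.IrrCharacter (commutator M))
    (hne : (θ : commutator M → ℂ) ≠ fun _ => 1) :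
    Cfsg.IsIrrCharacter M (Cfsg.indFun (commutator M) (θ : commutator M → ℂ)) ∨
      ∃ j : Ir₂ W₁ W₂, j ≠ 1 ∧ θ = F.colRes j := by
  rcases F.mem_cases ⟨θ, θ.2, hne, fun k hk => by
      rw [Subgroup.mem_bot] at hk
      rw [show k = 1 from Subtype.ext hk], rfl⟩ with h | ⟨j, hj, e⟩
  · exact Or.inl h.1
  · refine Or.inr ⟨j, hj, ?_⟩
    rw [← (F.res_irr j).2] at e
    obtain ⟨g, hg⟩ := Above.exists_conj_of_indFun_eq (commutator M) (F.res_irr j).1 θ.2 e
    refine Subtype.ext (hg.symm.trans (funext fun k => ?_))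
    rw [CharNormal.conjFun_apply]
    have h := isClassFunction_of_isIrr (F.mu_irr 1 j) (k : M)
    show F.mu 1 j _ = F.mu 1 j k
    exact h g

variable {p : ℕ} [Fact p.Prime] {P Q : Subgroup (commutator M)}

/-- The columns are trivial on the `p'`-part of `M'`. -/
theorem Fam.colRes_triv (hN : NilSplit p P Q) (hp : Nat.card W₂ = p) (j : Ir₂ W₁ W₂) :
    ∀ b ∈ Q, (F.colRes j : commutator M → ℂ) b = (F.colRes j : commutator M → ℂ) 1 := by
  classical
  obtain ⟨θ', c, hc, hval⟩ := hN.exists_Qpart (F.colRes j)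
  haveI := hN.normal_left
  have hinv : ∀ x ∈ W₁.subgroupOf M, (fun k : commutator M => (θ' : commutator M → ℂ)
      ⟨x * k * x⁻¹, (inferInstance : (commutator M).Normal).conj_mem (k : M) k.2 x⟩) = θ' := by
    intro x _
    funext k
    obtain ⟨⟨⟨a, ha⟩, ⟨b, hb⟩⟩, e⟩ := hN.compl.2 k
    have e' : a * b = k := e
    let σ : commutator M → commutator M := fun k =>
      ⟨x * k * x⁻¹, (inferInstance : (commutator M).Normal).conj_mem (k : M) k.2 x⟩
    have hmul : ∀ u v, σ (u * v) = σ u * σ v := fun u v => Subtype.ext (by simp [σ])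
    let σ' : commutator M →* commutator M := MonoidHom.mk' σ hmul
    have hσa : σ a ∈ P := by
      obtain ⟨i, hi⟩ := hN.isP ⟨a, ha⟩
      exact hN.mem_left (i := i) (by
        show σ' a ^ p ^ i = 1
        rw [← map_pow, show a ^ p ^ i = 1 by simpa using congrArg Subtype.val hi, map_one])
    have hσb : σ b ∈ Q := hN.mem_right (Nat.Coprime.coprime_dvd_left
      ((orderOf_map_dvd σ' b).trans (Subgroup.orderOf_dvd_natCard Q hb)) hN.cop)
    show (θ' : commutator M → ℂ) (σ k) = _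
    refine mul_left_cancel₀ hc ?_
    rw [← e', hmul, hval _ hσa _ hσb, hval _ ha _ hb]
    exact isClassFunction_of_isIrr (F.mu_irr 1 j) (b : M) x
  by_cases h1 : (θ' : commutator M → ℂ) = fun _ => 1
  · intro b hb
    rw [← hval 1 P.one_mem b hb, ← hval 1 P.one_mem 1 Q.one_mem, h1]
  exfalso
  obtain ⟨j', hj'⟩ := F.exists_eq_res θ'.2 hinv
  have hj1 : j' ≠ 1 := fun e => h1 (by
    rw [← hj', e]; funext k; exact F.res_one 1 k.2)
  refine hj1 (ir₂_eq_one fun w hw => ?_)
  have hχ := isCharacter_of_isIrr (F.mu_irr 1 j')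
  let wK : commutator M := ⟨⟨w, S.le w.2⟩, S.le_commutator (show (⟨w, S.le w.2⟩ : M) ∈ W₂.subgroupOf M from hw)⟩
  have hwP : wK ∈ P := hN.mem_left (i := 1) (by
    have h0 : (w : G) ^ p = 1 := by
      rw [← hp]
      exact congrArg Subtype.val (pow_card_eq_one' (x := (⟨(w : G), hw⟩ : W₂)))
    refine Subtype.ext (Subtype.ext ?_)
    rw [pow_one]
    simpa [wK] using h0)
  have hker : F.mu 1 j' (⟨w, S.le w.2⟩ : M) = F.mu 1 j' 1 := by
    have := (hval wK hwP 1 Q.one_mem).trans (hval 1 P.one_mem 1 Q.one_mem).symm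
    rw [mul_one, one_mul] at this
    have h2 := mul_left_cancel₀ hc this
    rw [← hj'] at h2
    exact h2
  obtain ⟨a, ha, ha1⟩ := exists_mem_ne_one S.ne₁
  let x : ↥(W₁ ⊔ W₂) := ⟨a, Subgroup.mem_sup_left ha⟩
  have hx : (x : G) ∉ W₂ := fun h => ha1 (by
    have : a ∈ W₁ ⊓ W₂ := ⟨ha, h⟩
    rwa [S.sn.2.2.1, Subgroup.mem_bot] at this)
  have hxw : ((w * x : ↥(W₁ ⊔ W₂)) : G) ∉ W₂ := fun h => hx (by
    have := mul_mem (inv_mem hw) h
    simpa using this)
  have e1 := F.mu_val 1 j' (w * x) hxw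
  rw [show (⟨((w * x : ↥(W₁ ⊔ W₂)) : G), S.le (w * x).2⟩ : M) =
    (⟨w, S.le w.2⟩ : M) * ⟨x, S.le x.2⟩ from rfl, apply_eq_one_mul hχ hker,
    F.mu_val 1 j' x hx] at e1
  simp only [map_mul, Units.val_mul, one_val₁] at e1
  have hs : (F.sgn j' : ℂ) ≠ 0 := by rcases F.sgn_eq j' with h | h <;> simp [h]
  have e2 := mul_left_cancel₀ hs e1
  simp only [MonoidHom.one_apply, Units.val_one, one_mul] at e2
  exact Units.ext (mul_eq_right₀ (Units.ne_zero _) |>.mp e2.symm)

/-- The degrees of the columns are powers of `p`. -/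
theorem Fam.colRes_deg_pow (hN : NilSplit p P Q) (hp : Nat.card W₂ = p) {j : Ir₂ W₁ W₂}
    (hj : j ≠ 1) : F.colRes j ∈ lowSet Q ∧ ∃ e : ℕ, 1 ≤ e ∧
      deg (F.colRes j : commutator M → ℂ) = p ^ e ∧ p ^ (2 * e) * p ≤ Nat.card P := by
  have hlow : F.colRes j ∈ lowSet Q := mem_lowSet.mpr fun d hd =>
    F.colRes_triv hN hp j d (Subgroup.commutator_le_self Q hd)
  obtain ⟨e, he, -, hle⟩ := deg_lowSet hN hlow
  have h1 : 1 ≤ e := by
    by_contra h0
    obtain rfl : e = 0 := by omega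
    have hd := F.colRes_deg j
    rw [he, pow_zero] at hd
    have h2 := (F.two_le_nn hj).2.2.1
    have h3 : (3 : ℤ) ≤ Nat.card W₁ := by exact_mod_cast three_le₁ S
    omega
  exact ⟨hlow, e, h1, he, hle h1⟩

open Classical in
/-- The nonprincipal characters trivial on `Q'` which are not columns. -/
noncomputable def Fam.srcSet (Q : Subgroup (commutator M)) :
    Finset (Cfsg.IrrCharacter (commutator M)) :=
  (lowSet Q).filter fun θ => (θ : commutator M → ℂ) ≠ (fun _ => 1) ∧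
    ∀ j : Ir₂ W₁ W₂, j ≠ 1 → θ ≠ F.colRes j

open Classical in
/-- Below a bound, the columns and the principal character take little. -/
theorem Fam.low_le_src (D : ℕ) (f : Cfsg.IrrCharacter (commutator M) → Prop) [DecidablePred f]
    (hD : ∀ j : Ir₂ W₁ W₂, j ≠ 1 → f (F.colRes j) →
      deg (F.colRes j : commutator M → ℂ) ^ 2 ≤ D) :
    ∑ θ ∈ (lowSet Q).filter f, deg (θ : commutator M → ℂ) ^ 2 ≤
      (∑ θ ∈ (F.srcSet Q).filter f, deg (θ : commutator M → ℂ) ^ 2) + 1 +
        (Nat.card W₂ - 1) * D := by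
  set g := fun θ : Cfsg.IrrCharacter (commutator M) => deg (θ : commutator M → ℂ) ^ 2
  set C := ((Finset.univ.erase (1 : Ir₂ W₁ W₂)).image F.colRes).filter f
  have hsub : (lowSet Q).filter f ⊆ (F.srcSet Q).filter f ∪ ({irrOne} ∪ C) := by
    intro θ hθ
    obtain ⟨h1, h2⟩ := Finset.mem_filter.mp hθ
    by_cases he : (θ : commutator M → ℂ) = fun _ => 1
    · exact Finset.mem_union_right _ (Finset.mem_union_left _ (Finset.mem_singleton.mpr
        (Subtype.ext (he.trans (funext fun g => (irrOne_apply g).symm)))))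
    by_cases hc : ∃ j : Ir₂ W₁ W₂, j ≠ 1 ∧ θ = F.colRes j
    · obtain ⟨j, hj, rfl⟩ := hc
      exact Finset.mem_union_right _ (Finset.mem_union_right _ (Finset.mem_filter.mpr
        ⟨Finset.mem_image_of_mem _ (Finset.mem_erase.mpr ⟨hj, Finset.mem_univ _⟩), h2⟩))
    · push Not at hc
      exact Finset.mem_union_left _ (Finset.mem_filter.mpr
        ⟨Finset.mem_filter.mpr ⟨h1, he, hc⟩, h2⟩)
  have hone : g irrOne = 1 := by
    show deg _ ^ 2 = 1
    rw [deg_eq (n := 1) (by rw [irrOne_apply, Nat.cast_one]), one_pow]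
  have hC : ∑ θ ∈ C, g θ ≤ (Nat.card W₂ - 1) * D := by
    refine le_trans (Finset.sum_le_card_nsmul C g D fun θ hθ => ?_) ?_
    · obtain ⟨h1, h2⟩ := Finset.mem_filter.mp hθ
      obtain ⟨j, hj, rfl⟩ := Finset.mem_image.mp h1
      exact hD j (Finset.mem_erase.mp hj).1 h2
    · rw [smul_eq_mul]
      refine Nat.mul_le_mul_right _ (le_trans (Finset.card_filter_le _ _)
        (le_trans Finset.card_image_le ?_))
      rw [Finset.card_erase_of_mem (Finset.mem_univ _), Finset.card_univ,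
        ← Nat.card_eq_fintype_card, card_ir₂ S]
  refine (Finset.sum_le_sum_of_subset hsub).trans ?_
  refine (Finset.sum_union_inter (f := g) ▸ Nat.le_add_right _ _).trans ?_
  rw [add_assoc]
  refine Nat.add_le_add_left ?_ _
  refine (Finset.sum_union_inter (f := g) ▸ Nat.le_add_right _ _).trans ?_
  rw [Finset.sum_singleton, hone]
  exact Nat.add_le_add_left hC 1

/-- The block of the characters trivial on `Q'`. -/
theorem levels_block (hN : NilSplit p P Q) (hp : Nat.card W₂ = p)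
    (hcase : 2 * Nat.card W₁ + 1 ≤ (commutator Q).index ∨ 2 * Nat.card W₁ + 1 ≤ p) :
    ∃ (T : Finset (M → ℂ)) (B : Block F {φ : M → ℂ // φ ∈ T}) (a : {φ : M → ℂ // φ ∈ T}),
      B.deg a = 1 ∧ ∀ j : Ir₂ W₁ W₂, j ≠ 1 → 2 * F.nn j < ∑ b, (B.deg b : ℤ) ^ 2 := by
  classical
  have hpp : p.Prime := Fact.out
  set q := Nat.card W₁ with hq
  have hq3 : 3 ≤ q := three_le₁ S
  set E := (commutator Q).index
  have hE : 0 < E := Nat.pos_of_ne_zero Subgroup.index_ne_zero_of_finite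
  set Θ := F.srcSet Q with hΘ
  set T := Θ.image fun θ : Cfsg.IrrCharacter (commutator M) => Cfsg.indFun (commutator M) (θ : commutator M → ℂ) with hTdef
  obtain ⟨j₁, hj₁⟩ := Fintype.exists_ne_of_one_lt_card
    (by have := three_le_card₂ S; omega) (1 : Ir₂ W₁ W₂)
  have hp3 : 3 ≤ p := hp ▸ three_le₂ S
  have hsrc : ∀ θ ∈ Θ, θ ∈ lowSet Q ∧ Cfsg.IsIrrCharacter M
      (Cfsg.indFun (commutator M) (θ : commutator M → ℂ)) := by
    intro θ hθ
    obtain ⟨h1, h2, h3⟩ := Finset.mem_filter.mp hθ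
    exact ⟨h1, (F.irr_or_col θ h2).resolve_right fun ⟨j, hj, e⟩ => h3 j hj e⟩
  have hirr : ∀ φ ∈ T, Cfsg.IsIrrCharacter M φ := fun φ hφ => by
    obtain ⟨θ, hθ, rfl⟩ := Finset.mem_image.mp hφ; exact (hsrc θ hθ).2
  have hoff : ∀ φ ∈ T, ∀ x : M, x ∉ commutator M → φ x = 0 := fun φ hφ x hx => by
    obtain ⟨θ, -, rfl⟩ := Finset.mem_image.mp hφ; exact indFun_off _ x hx
  have hconj : ∀ φ ∈ T, Cfsg.conjFun φ ∈ T := fun φ hφ => by
    obtain ⟨θ, hθ, rfl⟩ := Finset.mem_image.mp hφ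
    obtain ⟨h1, h2, h3⟩ := Finset.mem_filter.mp hθ
    refine Finset.mem_image.mpr ⟨⟨_, PairBessel.isIrr_conjFun θ.2⟩, Finset.mem_filter.mpr
      ⟨mem_lowSet.mpr fun d hd => ?_, fun e => h2 (funext fun k => ?_), fun j hj e => h3 j⁻¹ ?_ ?_⟩,
      (conjFun_indFun _).symm⟩
    · show conj _ = conj _
      rw [mem_lowSet.mp h1 d hd]
    · simpa [Cfsg.conjFun] using congrArg conj (congrFun e k)
    · exact fun e' => hj (by
        rw [← inv_inv₂ j, e']; exact Subtype.ext (inv_one (G := ↥(W₁ ⊔ W₂) →* ℂˣ)))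
    · refine Subtype.ext ?_
      rw [← F.colRes_conj j, ← congrArg Subtype.val e, Coh.conjFun_conjFun]
  have hdegθ : ∀ θ : Cfsg.IrrCharacter (commutator M),
      deg (Cfsg.indFun (commutator M) (θ : commutator M → ℂ)) = q * deg (θ : commutator M → ℂ) :=
    fun θ => by
      rw [Above.deg_indFun _ (deg_spec (isCharacter_of_isIrr θ.2)), index_commutator S]
  -- the images carry at least a `q`-th of the mass
  have hfib : ∀ D : ℕ, q * (∑ θ ∈ Θ.filter (fun θ : Cfsg.IrrCharacter (commutator M) =>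
        deg (θ : commutator M → ℂ) < D), deg (θ : commutator M → ℂ) ^ 2) ≤
      ∑ φ ∈ T.filter (fun φ => deg φ < q * D), deg φ ^ 2 := by
    intro D
    rw [← Finset.sum_fiberwise_of_maps_to (t := T.filter fun φ => deg φ < q * D)
      (g := fun θ : Cfsg.IrrCharacter (commutator M) =>
        Cfsg.indFun (commutator M) (θ : commutator M → ℂ)) (fun θ hθ => ?_), Finset.mul_sum]
    · refine Finset.sum_le_sum fun φ hφ => ?_
      set Fb := (Θ.filter fun θ : Cfsg.IrrCharacter (commutator M) =>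
        deg (θ : commutator M → ℂ) < D).filter fun θ : Cfsg.IrrCharacter (commutator M) =>
          Cfsg.indFun (commutator M) (θ : commutator M → ℂ) = φ with hFb
      have hd : ∀ θ ∈ Fb, q * deg (θ : commutator M → ℂ) = deg φ := fun θ hθ => by
        rw [← hdegθ, (Finset.mem_filter.mp hθ).2]
      have hcard : Fb.card ≤ q := by
        have h := fibre_le S Fb fun θ hθ =>
          (hsrc θ (Finset.mem_filter.mp (Finset.mem_filter.mp hθ).1).1).2
        refine h.trans (le_trans (Nat.mul_le_mul_left _ (Finset.card_le_card (t := {φ}) ?_))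
          (by rw [Finset.card_singleton, mul_one]))
        intro x hx
        obtain ⟨θ, hθ, rfl⟩ := Finset.mem_image.mp hx
        exact Finset.mem_singleton.mpr (Finset.mem_filter.mp hθ).2
      calc q * ∑ θ ∈ Fb, deg (θ : commutator M → ℂ) ^ 2
          = ∑ θ ∈ Fb, q * deg (θ : commutator M → ℂ) ^ 2 := by rw [Finset.mul_sum]
        _ ≤ deg φ ^ 2 := by
          refine Nat.le_of_mul_le_mul_left ?_ (show 0 < q by omega)
          rw [Finset.mul_sum]
          refine (Finset.sum_le_card_nsmul Fb _ (deg φ ^ 2) fun θ hθ => le_of_eq ?_).trans ?_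
          · rw [← hd θ hθ]; ring
          · rw [smul_eq_mul]; exact Nat.mul_le_mul_right _ hcard
    · obtain ⟨h1, h2⟩ := Finset.mem_filter.mp hθ
      exact Finset.mem_filter.mpr ⟨Finset.mem_image_of_mem _ h1,
        by rw [hdegθ]; exact Nat.mul_lt_mul_of_pos_left h2 (by omega)⟩
  -- the mass below `p ^ k`
  have hmass : ∀ k : ℕ, 1 ≤ k → p ^ (2 * k) ∣ Nat.card P →
      2 * q * p ^ k < ∑ θ ∈ Θ.filter (fun θ : Cfsg.IrrCharacter (commutator M) =>
        deg (θ : commutator M → ℂ) < p ^ k), deg (θ : commutator M → ℂ) ^ 2 := by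
    intro k hk hdvd
    have h1 := sum_lowSet_lt hN hk hdvd
    have hcol : ∀ j : Ir₂ W₁ W₂, j ≠ 1 → deg (F.colRes j : commutator M → ℂ) < p ^ k →
        deg (F.colRes j : commutator M → ℂ) ^ 2 ≤ if k = 1 then 0 else p ^ (2 * (k - 1)) := by
      intro j hj hlt
      obtain ⟨-, e, he1, he, -⟩ := F.colRes_deg_pow hN hp hj
      rw [he] at hlt ⊢
      have := (Nat.pow_lt_pow_iff_right hpp.one_lt).mp hlt
      rw [if_neg (by omega), ← pow_mul]
      exact Nat.pow_le_pow_right hpp.pos (by omega)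
    have h2 := h1.trans (F.low_le_src _ _ hcol)
    rw [hp] at h2
    by_contra hcon
    push Not at hcon
    have h3 : E * p ^ (2 * k) ≤ 2 * q * p ^ k + 1 + (p - 1) * if k = 1 then 0 else p ^ (2 * (k - 1)) :=
      h2.trans (Nat.add_le_add_right (Nat.add_le_add_right hcon 1) _)
    obtain ⟨x, rfl⟩ : ∃ x, p = x + 1 := ⟨p - 1, by omega⟩
    rw [Nat.add_sub_cancel] at h3
    rcases Nat.lt_or_ge k 2 with hk2 | hk2
    · obtain rfl : k = 1 := by omega
      simp only [if_pos, mul_zero, add_zero, pow_one, mul_one] at h3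
      rcases hcase with hc | hc
      · have h4 := Nat.mul_le_mul_right ((x + 1) ^ 2) hc
        have h5 : q * (x + 1) ≤ q * (x + 1) ^ 2 :=
          Nat.mul_le_mul_left _ (Nat.le_self_pow (by omega) _)
        have h6 : 2 ≤ (x + 1) ^ 2 := le_trans (by omega) (Nat.le_self_pow (by omega) (x + 1))
        linarith only [h3, h4, h5, h6]
      · have h4 := Nat.mul_le_mul_right (x + 1) (show 2 * q ≤ x by omega)
        have h5 : (x + 1) ^ 2 ≤ E * (x + 1) ^ 2 := Nat.le_mul_of_pos_left _ hE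
        have h6 : (x + 1) ^ 2 = x * (x + 1) + (x + 1) := by ring
        omega
    · obtain ⟨l, rfl⟩ : ∃ l, k = l + 1 := ⟨k - 1, by omega⟩
      rw [if_neg (by omega), Nat.add_sub_cancel, show 2 * (l + 1) = 2 * l + 2 by ring, pow_add,
        pow_add, mul_comm 2 l, pow_mul, pow_one] at h3
      obtain ⟨y, hy, hy3⟩ : ∃ y, (x + 1) ^ l = y ∧ x + 1 ≤ y :=
        ⟨_, rfl, Nat.le_self_pow (by omega) _⟩
      rw [hy] at h3
      rcases hcase with hc | hc
      · have h4 := Nat.mul_le_mul_right (y ^ 2 * (x + 1) ^ 2) hc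
        have h5 : q * (y * (x + 1)) ≤ q * (y * (x + 1)) ^ 2 :=
          Nat.mul_le_mul_left _ (Nat.le_self_pow (by omega) _)
        have h6 : 0 ≤ y ^ 2 * (x * x + x) := Nat.zero_le _
        have h7 : 2 ≤ y ^ 2 := le_trans (by omega) (Nat.le_self_pow (by omega) y)
        linarith only [h3, h4, h5, h6, h7]
      · have h4 := Nat.mul_le_mul_right (y * (x + 1)) (show 2 * q ≤ x by omega)
        have h5 : y ^ 2 * (x + 1) ^ 2 ≤ E * (y ^ 2 * (x + 1) ^ 2) := Nat.le_mul_of_pos_left _ hE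
        have h6 : x * (y * (x + 1)) ≤ x * y ^ 2 := by
          rw [pow_two]; exact Nat.mul_le_mul_left _ (Nat.mul_le_mul_left _ hy3)
        have h7 : 2 ≤ y ^ 2 := le_trans (by omega) (Nat.le_self_pow (by omega) y)
        have h8 : 0 ≤ y ^ 2 * (x * x) := Nat.zero_le _
        linarith only [h3, h4, h5, h6, h7, h8]
  obtain ⟨-, e₁, he₁, -, hPbig⟩ := F.colRes_deg_pow hN hp hj₁
  -- a linear member
  have hP2 : p ^ (2 * 1) ∣ Nat.card P := by
    obtain ⟨n, hn⟩ := hN.isP.exists_card_eq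
    rw [hn, ← pow_succ] at hPbig
    rw [hn]
    exact pow_dvd_pow p (by have := (Nat.pow_le_pow_iff_right hpp.one_lt).mp hPbig; omega)
  obtain ⟨θ₀, hθ₀, hθ₀1⟩ : ∃ θ ∈ Θ, deg (θ : commutator M → ℂ) = 1 := by
    have h := hmass 1 le_rfl hP2
    obtain ⟨θ, hθ, -⟩ := Finset.exists_ne_zero_of_sum_ne_zero (show _ ≠ 0 from Nat.ne_zero_of_lt h)
    obtain ⟨h1, h2⟩ := Finset.mem_filter.mp hθ
    obtain ⟨k, hk, -⟩ := deg_lowSet hN (hsrc θ h1).1
    rw [hk] at h2
    have hk0 := (Nat.pow_lt_pow_iff_right hpp.one_lt).mp h2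
    exact ⟨θ, h1, by rw [hk, show k = 0 by omega, pow_zero]⟩
  set χ₁ := Cfsg.indFun (commutator M) (θ₀ : commutator M → ℂ)
  have hχ₁ : χ₁ ∈ T := Finset.mem_image_of_mem _ hθ₀
  have hd₁ : deg χ₁ = q := by rw [hdegθ, hθ₀1, mul_one]
  obtain ⟨R', hR⟩ := exists_system (S := S) T ⟨χ₁, hχ₁⟩ hirr hconj hoff
  have hcoh : Cfsg.IsCoherent (↑T : Set (M → ℂ)) {1}ᶜ (tau S) := by
    refine Coh.coherent_chain hR T subset_rfl hconj hχ₁ (fun φ hφ => ?_) fun χ hχ hlt => ?_
    · obtain ⟨θ, hθ, rfl⟩ := Finset.mem_image.mp hφ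
      rw [hd₁, hdegθ]
      obtain ⟨k, hk, -⟩ := deg_lowSet hN (hsrc θ hθ).1
      exact ⟨Nat.le_mul_of_pos_right _ (hk ▸ pow_pos hpp.pos k), dvd_mul_right _ _⟩
    · obtain ⟨θ, hθ, rfl⟩ := Finset.mem_image.mp hχ
      rw [hd₁, hdegθ] at hlt ⊢
      obtain ⟨k, hk, hdvd, -⟩ := deg_lowSet hN (hsrc θ hθ).1
      rw [hk] at hlt ⊢
      have hk1 : 1 ≤ k := by
        by_contra h0
        obtain rfl : k = 0 := by omega
        simp at hlt
      rw [Finset.sum_congr rfl fun φ hφ => Above.wt_irr (hirr φ (Finset.mem_filter.mp hφ).1)]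
      have h1 := (Nat.mul_lt_mul_of_pos_left (hmass k hk1 hdvd) (show 0 < q by omega)).trans_le
        (hfib (p ^ k))
      have h2 : ((q * (2 * q * p ^ k) : ℕ) : ℝ) <
          ((∑ φ ∈ T.filter (fun φ => deg φ < q * p ^ k), deg φ ^ 2 : ℕ) : ℝ) := by exact_mod_cast h1
      push_cast at h2 ⊢
      linarith
  obtain ⟨B, hB⟩ := exists_block F T hirr hconj
    (fun φ hφ => conjFun_ne_of_off (S := S) (hirr φ hφ) (hoff φ hφ)) (fun φ hφ => by
      obtain ⟨θ, -, rfl⟩ := Finset.mem_image.mp hφ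
      exact ⟨deg (θ : commutator M → ℂ), by
        rw [indFun_one, index_commutator S, deg_spec (isCharacter_of_isIrr θ.2), mul_comm]⟩)
    hoff hcoh
  have hBd : ∀ b, deg (b.1 : M → ℂ) = q * B.deg b := fun b => deg_eq (by
    rw [← hB b, B.one, Nat.cast_mul, mul_comm])
  refine ⟨T, B, ⟨χ₁, hχ₁⟩, ?_, fun j hj => ?_⟩
  · have := hBd ⟨χ₁, hχ₁⟩
    rw [hd₁] at this
    exact (Nat.eq_of_mul_eq_mul_left (show 0 < q by omega) (by rw [mul_one]; exact this)).symm
  obtain ⟨-, e, he1, he, hle⟩ := F.colRes_deg_pow hN hp hj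
  -- the mass of the source
  have htot : E * Nat.card P ≤ (∑ θ ∈ Θ, deg (θ : commutator M → ℂ) ^ 2) + 1 +
      (p - 1) * (Nat.card P / p) := by
    have := F.low_le_src (Q := Q) (Nat.card P / p) (fun _ => True) fun i hi _ => by
      obtain ⟨-, e', -, he', hle'⟩ := F.colRes_deg_pow hN hp hi
      rw [Nat.le_div_iff_mul_le hpp.pos, he', ← pow_mul, mul_comm e' 2]
      exact hle'
    rw [Finset.filter_true_of_mem (by simp), Finset.filter_true_of_mem (by simp), hp,
      sum_lowSet hN] at this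
    exact this
  have hsum : (∑ θ ∈ Θ, deg (θ : commutator M → ℂ) ^ 2) ≤ q * ∑ b, B.deg b ^ 2 := by
    have h := hfib (Finset.univ.sum (fun θ : Cfsg.IrrCharacter (commutator M) =>
      deg (θ : commutator M → ℂ)) + 1)
    rw [Finset.filter_true_of_mem fun θ _ => Nat.lt_succ_of_le
      (Finset.single_le_sum (f := fun θ : Cfsg.IrrCharacter (commutator M) =>
        deg (θ : commutator M → ℂ)) (fun _ _ => Nat.zero_le _) (Finset.mem_univ θ))] at h
    refine Nat.le_of_mul_le_mul_left (h.trans (le_trans (Finset.sum_le_sum_of_subset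
      (Finset.filter_subset _ _)) (le_of_eq ?_))) (show 0 < q by omega)
    rw [← Finset.sum_coe_sort T, Finset.mul_sum, Finset.mul_sum]
    refine Finset.sum_congr rfl fun b _ => ?_
    rw [hBd b]; ring
  obtain ⟨n, hn⟩ := hN.isP.exists_card_eq
  have hn1 : 2 * e + 1 ≤ n := by
    rw [hn, ← pow_succ] at hle
    exact (Nat.pow_le_pow_iff_right hpp.one_lt).mp hle
  obtain ⟨r, rfl⟩ : ∃ r, n = 2 * e + 1 + r := ⟨n - (2 * e + 1), by omega⟩
  have hcd : (p : ℕ) ^ (2 * e) * p ^ r * p = Nat.card P := by rw [hn]; ring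
  rw [← hcd, Nat.mul_div_cancel _ hpp.pos, mul_comm 2 e, pow_mul] at htot
  have hd := F.colRes_deg j
  rw [he] at hd
  have hs : -1 ≤ F.sgn j := by rcases F.sgn_eq j with h | h <;> omega
  set x := p ^ e with hx
  have hx3 : p ≤ x := Nat.le_self_pow (by omega) _
  have hr1 : 1 ≤ p ^ r := Nat.one_le_pow _ _ hpp.pos
  have key : 2 * (x + 1) < q * ∑ b, B.deg b ^ 2 := by
    refine lt_of_lt_of_le ?_ hsum
    obtain ⟨z, rfl⟩ : ∃ z, p = z + 1 := ⟨p - 1, by omega⟩
    rw [Nat.add_sub_cancel] at htot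
    by_contra hcon
    push Not at hcon
    have h3 := htot.trans (Nat.add_le_add_right (Nat.add_le_add_right hcon 1) _)
    rcases hcase with hc | hc
    · have h4 := Nat.mul_le_mul_right (x ^ 2 * (z + 1) ^ r * (z + 1)) hc
      have h6 : 0 < q * (x ^ 2 * (z + 1) ^ r * (z + 1)) := by positivity
      have h7 := Nat.mul_le_mul_left (x ^ 2) hr1
      have h8 : 3 * x ≤ x ^ 2 := by rw [pow_two]; exact Nat.mul_le_mul_right _ (by omega)
      linarith only [h3, h4, h6, h7, h8, hx3, hp3]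
    · have h5 : x ^ 2 * (z + 1) ^ r * (z + 1) ≤ E * (x ^ 2 * (z + 1) ^ r * (z + 1)) :=
        Nat.le_mul_of_pos_left _ hE
      have h7 := Nat.mul_le_mul_left (x ^ 2) hr1
      have h8 : 7 * x ≤ x ^ 2 := by rw [pow_two]; exact Nat.mul_le_mul_right _ (by omega)
      have hx7 : 7 ≤ x := by omega
      linarith only [h3, h5, h7, h8, hx7]
  have key' : (2 * (x + 1) : ℤ) < (q : ℤ) * ∑ b, (B.deg b : ℤ) ^ 2 := by exact_mod_cast key
  have hlt : (q : ℤ) * (2 * F.nn j) < (q : ℤ) * ∑ b, (B.deg b : ℤ) ^ 2 := by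
    push_cast at hd
    nlinarith
  exact lt_of_mul_lt_mul_left hlt (by omega)

end CfsgLib.OddChar.Prime
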