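import Cfsg.Agent.Lib.OddChar.Prime.Columns
import Cfsg.Agent.Lib.OddChar.Prime.DegBlock

/-!
# The members of degree `a` given by an invariant hyperplane

`Line.card_degSet`: `(p - 1) u ≤ |degSet a| a²`.
-/

set_option autoImplicit false
set_option linter.unusedSectionVars false

namespace CfsgLib.OddChar.Prime

open CfsgLib.Char CfsgLib.CharNormal
open CfsgLib.OddLocal
open CfsgLib.OddChar

universe u

variable {G : Type u} [Group G] [Fintype G] {M W₁ U W₂ L U₁ : Subgroup G} {a : ℕ} {A₀ : Set G}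
  {R : G → Subgroup G}

theorem Line.card_degSet [Fintype M] [Fintype (commutator M)] [Fintype (Ir₁ W₁ W₂)]
    [Fintype (Ir₂ W₁ W₂)] {S : Setup M W₁ W₂ A₀ R} (F : Fam S)
    (hP : Cfsg.IsTypePWith M W₁ U W₂) (hp : (Nat.card W₂).Prime) (hch : Chief M W₁ U W₂)
    (hl : Line M W₁ U W₂ L U₁ a)
    (hd : ∀ j : Ir₂ W₁ W₂, j ≠ 1 → F.sgn j + F.nn j * Nat.card W₁ ≠ (a : ℤ)) :
    (Nat.card W₂ - 1) * (cU M U).relIndex U ≤ (degSet (M := M) a).card * (a * a) := by
  classical
  haveI := Fact.mk hp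
  set H := Cfsg.fittingHallOf M with hH
  set C := cU M U with hC
  have hHd : H ≤ ⁅M, M⁆ := hP.U_compl.1
  have hUd : U ≤ ⁅M, M⁆ := hP.U_compl.2.1
  set Hk := subK M H with hHk
  set Vk := subK M U with hVk
  set Uk := subK M U₁ with hUk
  let rK : Hk →* H := MonoidHom.mk' (fun k => ⟨((k.1 : M) : G), k.2⟩) fun _ _ => rfl
  have hrK : Function.Surjective rK := fun x => ⟨⟨toK (x : G) (hHd x.2), x.2⟩, rfl⟩
  -- linear characters of `H / L`
  haveI : (L.subgroupOf H).Normal :=
    Subgroup.normal_subgroupOf_iff_le_normalizer hl.le |>.mpr (hch.le_norm hl.ge hl.le)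
  haveI : IsCyclic (↥H ⧸ L.subgroupOf H) := isCyclic_of_prime_card (p := Nat.card W₂) hl.idx
  letI : CommGroup (↥H ⧸ L.subgroupOf H) := IsCyclic.commGroup
  let Λ : Type u := {μ : (↥H ⧸ L.subgroupOf H) →* ℂˣ // μ ≠ 1}
  haveI : Finite ((↥H ⧸ L.subgroupOf H) →* ℂˣ) := Finite.of_equiv _
    (CommGroup.monoidHom_mulEquiv_of_hasEnoughRootsOfUnity (↥H ⧸ L.subgroupOf H) ℂ).some.symm.toEquiv
  have := Fintype.ofFinite ((↥H ⧸ L.subgroupOf H) →* ℂˣ)
  have hΛ : Fintype.card Λ = Nat.card W₂ - 1 := by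
    have h1 : Fintype.card ((↥H ⧸ L.subgroupOf H) →* ℂˣ) = Nat.card W₂ := by
      rw [← Nat.card_eq_fintype_card, CommGroup.card_monoidHom_of_hasEnoughRootsOfUnity _ ℂ]
      exact hl.idx
    rw [Fintype.card_subtype_compl, h1, Fintype.card_subtype_eq]
  let lam : Λ → (Hk →* ℂˣ) := fun μ => (μ.1.comp (QuotientGroup.mk' _)).comp rK
  have hker : ∀ (μ : Λ) (x : H), μ.1 (QuotientGroup.mk' _ x) = 1 ↔ (x : G) ∈ L := by
    intro μ x
    constructor
    · intro h
      rcases Subgroup.eq_bot_or_eq_top_of_prime_card (hp := ⟨by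
        rw [show Nat.card (↥H ⧸ L.subgroupOf H) = Nat.card W₂ from hl.idx]; exact hp⟩) μ.1.ker with
        e | e
      · have h1 : QuotientGroup.mk' (L.subgroupOf H) x ∈ μ.1.ker := h
        rw [e, Subgroup.mem_bot] at h1
        exact (QuotientGroup.eq_one_iff (N := L.subgroupOf H) _).mp h1
      · exact absurd (MonoidHom.ext fun z => MonoidHom.mem_ker.mp (e ▸ Subgroup.mem_top z)) μ.2
    · intro h
      rw [show QuotientGroup.mk' (L.subgroupOf H) x = 1 from (QuotientGroup.eq_one_iff _).mpr h,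
        map_one]
  have hs : ∀ μ, SemiInd.IsStab Hk Vk Uk (lam μ) := fun μ => by
    refine ⟨subK_inf hP, subK_sup hP, fun k hk => hl.U₁_le hk, fun v hv => ?_⟩
    refine (hl.mem ((v : M) : G) hv).trans ?_
    constructor
    · intro h x
      rw [← div_eq_one, ← map_div]
      exact (hker μ (rK (_ / x))).mpr (by
        show ((v : M) : G) * ((x.1 : M) : G) * ((v : M) : G)⁻¹ / ((x.1 : M) : G) ∈ L
        rw [div_eq_mul_inv]; exact h _ x.2)
    · intro h x hx
      obtain ⟨x', hx'⟩ := hrK ⟨x, hx⟩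
      have h1 := h x'
      rw [← div_eq_one, ← map_div] at h1
      have h2 := (hker μ (rK (_ / x'))).mp h1
      have h3 : ((v : M) : G) * ((x'.1 : M) : G) * ((v : M) : G)⁻¹ / ((x'.1 : M) : G) ∈ L := h2
      rw [show ((x'.1 : M) : G) = x from congrArg Subtype.val hx', div_eq_mul_inv] at h3
      exact h3
  -- linear characters of `U₁ / C`
  set Ck := (subK M C).subgroupOf Uk with hCk
  haveI : Ck.Normal := Subgroup.normal_subgroupOf_iff_le_normalizer
    (fun (k : commutator M) hk => hl.cU_le (show ((k : M) : G) ∈ C from hk)) |>.mpr fun (k : commutator M) hk => by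
    rw [Subgroup.mem_normalizer_iff]
    intro x
    exact Subgroup.mem_normalizer_iff.mp
      ((le_sup_left.trans (cU_normal hP)) (hl.U₁_le hk)) ((x : M) : G)
  letI : CommGroup (↥Uk ⧸ Ck) :=
    { (inferInstance : Group (↥Uk ⧸ Ck)) with
      mul_comm := fun x y => by
        obtain ⟨x, rfl⟩ := QuotientGroup.mk_surjective x
        obtain ⟨y, rfl⟩ := QuotientGroup.mk_surjective y
        rw [← QuotientGroup.mk_mul, ← QuotientGroup.mk_mul, QuotientGroup.eq]
        show ((((x * y)⁻¹ * (y * x) : Uk) : commutator M) : M).1 ∈ C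
        set s : G := ((x.1 : M) : G)
        set t : G := ((y.1 : M) : G)
        show (s * t)⁻¹ * (t * s) ∈ C
        rw [show (s * t)⁻¹ * (t * s) = t⁻¹ * s⁻¹ * t⁻¹⁻¹ * s⁻¹⁻¹ by group]
        exact derived_U_le hP (Subgroup.commutator_mem_commutator (inv_mem (hl.U₁_le y.2))
          (inv_mem (hl.U₁_le x.2))) }
  haveI : Finite ((↥Uk ⧸ Ck) →* ℂˣ) := Finite.of_equiv _
    (CommGroup.monoidHom_mulEquiv_of_hasEnoughRootsOfUnity (↥Uk ⧸ Ck) ℂ).some.symm.toEquiv
  have := Fintype.ofFinite ((↥Uk ⧸ Ck) →* ℂˣ)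
  let psi : ((↥Uk ⧸ Ck) →* ℂˣ) → (Uk →* ℂˣ) := fun ν => ν.comp (QuotientGroup.mk' _)
  choose θ hθ using fun x : Λ × ((↥Uk ⧸ Ck) →* ℂˣ) => SemiInd.exists_semi (hs x.1) (psi x.2)
  have hu : U₁.relIndex U = a := hl.index
  have hψcard : Fintype.card ((↥Uk ⧸ Ck) →* ℂˣ) * a = (cU M U).relIndex U := by
    rw [← Nat.card_eq_fintype_card, CommGroup.card_monoidHom_of_hasEnoughRootsOfUnity _ ℂ, ← hu]
    have h1 : Nat.card (↥Uk ⧸ Ck) = C.relIndex U₁ := by
      show (subK M C).relIndex Uk = _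
      have e1 := Subgroup.relIndex_mul_relIndex ⊥ (subK M C) Uk bot_le fun k hk => hl.cU_le hk
      have e2 := Subgroup.relIndex_mul_relIndex ⊥ C U₁ bot_le hl.cU_le
      rw [Subgroup.relIndex_bot_left, Subgroup.relIndex_bot_left, card_subK (hl.cU_le.trans (hl.U₁_le.trans hUd)),
        card_subK (hl.U₁_le.trans hUd)] at e1
      rw [Subgroup.relIndex_bot_left, Subgroup.relIndex_bot_left, ← e1] at e2
      exact Nat.eq_of_mul_eq_mul_left Nat.card_pos e2.symm
    rw [h1, Subgroup.relIndex_mul_relIndex C U₁ U hl.cU_le hl.U₁_le]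
  have hdeg : ∀ x, θ x 1 = (a : ℂ) := fun x => by
    have h1 := SemiInd.index_sup (hs x.1)
    rw [card_subK (hl.U₁_le.trans hUd), card_subK hUd] at h1
    have h2 := Subgroup.relIndex_mul_relIndex ⊥ U₁ U bot_le hl.U₁_le
    rw [Subgroup.relIndex_bot_left, Subgroup.relIndex_bot_left, hu, mul_comm, ← h1] at h2
    rw [(hθ x).apply_one (hs x.1), Nat.eq_of_mul_eq_mul_right Nat.card_pos h2]
  have hne : ∀ x, θ x ≠ fun _ => 1 := fun x e => by
    have := hdeg x
    rw [e] at this
    simp only at this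
    exact hl.one_lt.ne (by exact_mod_cast this)
  let I : Finset (Cfsg.IrrCharacter (commutator M)) :=
    Finset.univ.image fun x => ⟨θ x, (hθ x).irr (hs x.1)⟩
  -- fibres
  have hI : (Nat.card W₂ - 1) * (cU M U).relIndex U ≤ I.card * (a * a) := by
    have hfib : (Finset.univ : Finset (Λ × ((↥Uk ⧸ Ck) →* ℂˣ))).card ≤ a * I.card := by
      refine Finset.card_le_mul_card_image _ _ fun φ hφ => ?_
      obtain ⟨x₀, -, rfl⟩ := Finset.mem_image.mp hφ
      let Fib := {x : Λ × ((↥Uk ⧸ Ck) →* ℂˣ) // θ x = θ x₀}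
      have hconj : ∀ x : Fib, ∃ v : Vk, conjFun Hk (v : commutator M) (fun h => (lam x₀.1 h : ℂ)) =
          fun h => (lam x.1.1 h : ℂ) := by
        intro x
        have hx := ((hθ x.1).res_inner (hs x.1.1) (lam x.1.1)).mpr ⟨1, conjFun_one _ _⟩
        simp only [x.2] at hx
        obtain ⟨g, hg⟩ := ((hθ x₀).res_inner (hs x₀.1) (lam x.1.1)).mp hx
        obtain ⟨h, hh, v, hv, rfl⟩ :=
          Subgroup.mem_sup_of_normal_left.mp ((subK_sup hP).symm ▸ Subgroup.mem_top g)
        rw [← conjFun_conjFun, conjFun_of_mem Hk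
          (isClassFunction_of_isIrr (SemiInd.isIrr_lin _)) hh] at hg
        exact ⟨⟨v, hv⟩, hg⟩
      choose v hv using hconj
      let f : Fib → Vk ⧸ Uk.subgroupOf Vk := fun x => ((v x)⁻¹ : Vk)
      have hf : Function.Injective f := by
        intro x y e
        have h1 : ((((v x)⁻¹)⁻¹ * (v y)⁻¹ : Vk) : commutator M) ∈ Hk ⊔ Uk :=
          Subgroup.mem_sup_right ((QuotientGroup.eq (s := Uk.subgroupOf Vk)).mp e)
        have h2 := (SemiInd.inertia_iff (hs x₀.1) _).mp h1
        have h3 : conjFun Hk (v y : commutator M) (fun h => (lam x₀.1 h : ℂ)) =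
            conjFun Hk (v x : commutator M) (fun h => (lam x₀.1 h : ℂ)) := by
          conv_lhs => rw [← h2]
          rw [conjFun_conjFun]
          simp
        rw [hv x, hv y] at h3
        have h4 : x.1.1 = y.1.1 := by
          refine Subtype.ext (MonoidHom.ext fun z => ?_)
          obtain ⟨z', rfl⟩ := QuotientGroup.mk_surjective z
          obtain ⟨z'', rfl⟩ := hrK z'
          exact (Units.ext (congrFun h3 z'')).symm
        obtain ⟨⟨μ, ν⟩, hx⟩ := x
        obtain ⟨⟨μ', ν'⟩, hy⟩ := y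
        simp only at h4
        subst h4
        have h5 := (hθ (μ, ν)).psi_eq (hs μ) (ψ' := psi ν') (by rw [hx, ← hy]; exact hθ (μ, ν'))
        have h6 : ν = ν' := MonoidHom.ext fun z => by
          obtain ⟨z', rfl⟩ := QuotientGroup.mk_surjective z
          exact DFunLike.congr_fun h5 z'
        rw [Subtype.mk.injEq, h6]
      have hle := Nat.card_le_card_of_injective f hf
      have hidx : Nat.card (Vk ⧸ Uk.subgroupOf Vk) = a := by
        show Uk.relIndex Vk = a
        rw [← hu]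
        have e1 := Subgroup.relIndex_mul_relIndex ⊥ Uk Vk bot_le fun k hk => hl.U₁_le hk
        have e2 := Subgroup.relIndex_mul_relIndex ⊥ U₁ U bot_le hl.U₁_le
        rw [Subgroup.relIndex_bot_left, Subgroup.relIndex_bot_left,
          card_subK (hl.U₁_le.trans hUd), card_subK hUd] at e1
        rw [Subgroup.relIndex_bot_left, Subgroup.relIndex_bot_left, ← e1] at e2
        exact Nat.eq_of_mul_eq_mul_left Nat.card_pos e2.symm
      rw [hidx, Nat.card_eq_fintype_card, Fintype.card_subtype] at hle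
      refine le_trans (Finset.card_le_card fun x hx => ?_) hle
      rw [Finset.mem_filter] at hx ⊢
      exact ⟨Finset.mem_univ _, congrArg Subtype.val hx.2⟩
    rw [Finset.card_univ, Fintype.card_prod, hΛ] at hfib
    calc _ = (Nat.card W₂ - 1) * Fintype.card ((↥Uk ⧸ Ck) →* ℂˣ) * a := by rw [← hψcard]; ring
      _ ≤ a * I.card * a := Nat.mul_le_mul_right a hfib
      _ = _ := by ring
  refine hI.trans (Nat.mul_le_mul_right _ ?_)
  refine Finset.card_le_card_of_injOn
    (fun φ : Cfsg.IrrCharacter (commutator M) => Cfsg.indFun (commutator M) (φ : commutator M → ℂ))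
    (fun φ hφ => ?_) fun φ hφ φ' hφ' e => ?_
  · obtain ⟨x, -, rfl⟩ := Finset.mem_image.mp hφ
    exact mem_degSet_of S F ((hθ x).irr (hs x.1)) (hdeg x) (hne x) hd
  · obtain ⟨x, -, rfl⟩ := Finset.mem_image.mp hφ
    obtain ⟨y, -, rfl⟩ := Finset.mem_image.mp hφ'
    obtain ⟨-, -, -, -, hI₂⟩ :=
      mem_degSet.mp (mem_degSet_of S F ((hθ x).irr (hs x.1)) (hdeg x) (hne x) hd)
    obtain ⟨g, hg⟩ := exists_conj_of_constituents (commutator M) hI₂ ((hθ x).irr (hs x.1))
      ((hθ y).irr (hs y.1))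
      (by rw [← frobenius_reciprocity' (commutator M) _ (isClassFunction_of_isIrr hI₂),
            classInner_irr_self hI₂]; exact one_ne_zero)
      (by
        have e' : Cfsg.indFun (commutator M) (θ x) = Cfsg.indFun (commutator M) (θ y) := e
        rw [← frobenius_reciprocity' (commutator M) _ (isClassFunction_of_isIrr hI₂), ← e',
          classInner_irr_self hI₂]
        exact one_ne_zero)
    obtain ⟨k, hk, w, hw, rfl⟩ :=
      Subgroup.mem_sup_of_normal_left.mp (S.sup_eq.symm ▸ Subgroup.mem_top g)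
    rw [← conjFun_conjFun, conjFun_of_mem (commutator M)
      (isClassFunction_of_isIrr ((hθ x).irr (hs x.1))) hk] at hg
    by_cases hw1 : w = 1
    · subst hw1
      rw [conjFun_one] at hg
      exact Subtype.ext hg
    · exfalso
      -- both characters are trivial on `L`
      have hkerL : ∀ (z : Λ × ((↥Uk ⧸ Ck) →* ℂˣ)) (h : Hk), ((h.1 : M) : G) ∈ L →
          θ z h = θ z 1 := fun z h hh => (hθ z).ker (hs z.1) h fun g => by
        refine (hker z.1 (rK _)).mpr ?_
        show ((g : M) : G) * ((h.1 : M) : G) * ((g : M) : G)⁻¹ ∈ L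
        obtain ⟨s, hs', t, ht, e⟩ := hP.U_compl.2.2.2 _ (coe_mem_derived g)
        rw [e, show s * t * ((h.1 : M) : G) * (s * t)⁻¹ = s * (t * ((h.1 : M) : G) * t⁻¹) * s⁻¹ by
          group]
        exact (Subgroup.mem_normalizer_iff.mp (hch.le_norm hl.ge hl.le hs') _).mp
          ((Subgroup.mem_normalizer_iff.mp (hl.norm ht) _).mp hh)
      have hwH := le_normalizer_fittingHallOf M w.2
      set L' := L.map (MulAut.conj (w : G)).toMonoidHom with hL'
      have hL'H : L' ≤ H := by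
        rintro _ ⟨z, hz, rfl⟩
        exact (Subgroup.mem_normalizer_iff.mp hwH z).mp (hl.le hz)
      have hsup : L ⊔ L' = H := by
        have hle : L ⊔ L' ≤ H := sup_le hl.le hL'H
        have h1 := Subgroup.relIndex_mul_relIndex L (L ⊔ L') H le_sup_left hle
        rw [hl.idx] at h1
        rcases (Nat.dvd_prime hp).mp (Dvd.intro_left _ h1) with h2 | h2
        · exact le_antisymm hle (Subgroup.relIndex_eq_one.mp h2)
        · exfalso
          rw [h2] at h1
          have h3 : L.relIndex (L ⊔ L') = 1 :=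
            Nat.eq_of_mul_eq_mul_right hp.pos (h1.trans (one_mul _).symm)
          refine hl.stab w hw (fun e' => hw1 (Subtype.ext e')) (Subgroup.eq_of_le_of_card_ge
            (le_sup_right.trans (Subgroup.relIndex_eq_one.mp h3)) ?_)
          rw [card_map_conj]
      let kr := charKer (isCharacter_of_isIrr ((hθ x).irr (hs x.1)))
      have hin : H ≤ (kr.map (commutator M).subtype).map M.subtype := by
        rw [← hsup]
        refine sup_le (fun z hz => ?_) ?_
        · exact ⟨_, ⟨toK z (hHd (hl.le hz)), mem_charKer.mpr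
            (hkerL x ⟨toK z (hHd (hl.le hz)), hl.le hz⟩ hz), rfl⟩, rfl⟩
        · rintro _ ⟨z, hz, rfl⟩
          have hz' : (w : G) * z * (w : G)⁻¹ ∈ H := hL'H ⟨z, hz, rfl⟩
          refine ⟨_, ⟨toK _ (hHd hz'), mem_charKer.mpr ?_, rfl⟩, rfl⟩
          have h5 := congrFun hg (toK z (hHd (hl.le hz)))
          have h6 : θ x (toK ((w : G) * z * (w : G)⁻¹) (hHd hz')) = θ y (toK z (hHd (hl.le hz))) :=
            h5
          rw [h6, hkerL y ⟨toK z (hHd (hl.le hz)), hl.le hz⟩ hz, hdeg, hdeg]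
      refine ((hθ x).res_inner (hs x.1) (lam x.1)).mpr ⟨1, conjFun_one _ _⟩ ?_
      have hconst : (fun h : Hk => θ x h) = (a : ℂ) • fun _ : Hk => (1 : ℂ) := by
        funext h
        obtain ⟨_, ⟨k', hk', rfl⟩, e'⟩ := hin (show ((h.1 : M) : G) ∈ H from h.2)
        rw [← show k' = h.1 from Subtype.ext (Subtype.ext e'), mem_charKer.mp hk', hdeg]
        simp
      rw [hconst, classInner_smul_left, classInner_irr_ne isIrrCharacter_one (SemiInd.isIrr_lin _)
        (fun e' => ?_), mul_zero]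
      refine x.1.2 (MonoidHom.ext fun z => ?_)
      obtain ⟨z', rfl⟩ := QuotientGroup.mk_surjective z
      obtain ⟨z'', rfl⟩ := hrK z'
      exact Units.ext (congrFun e' z'').symm

end CfsgLib.OddChar.Prime
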