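import Cfsg.Agent.Lib.OddChar.Prime.Factor
import Cfsg.Agent.Lib.Solvable.FrobeniusComplement
import Cfsg.Agent.Lib.CharNormal.CentralCount
import Cfsg.Agent.Lib.CharNormal.Clifford

/-!
# `H / C_H(U)` as a module for `U`

* `line_or_irred`: an invariant hyperplane, or irreducible;
* `Irred.exists_gen`: `U / C` is cyclic; `Irred.commutative`: `H` is abelian when `C_H(U)` is central;
* `Line`, `exists_line`: the data of an invariant hyperplane.
-/

set_option autoImplicit false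
set_option linter.unusedSectionVars false

namespace CfsgLib.OddChar.Prime

open CfsgLib.OddLocal
open CfsgLib.OddChar
open scoped commutatorElement

universe u

variable {G : Type u} [Group G] [Finite G] {M W₁ U W₂ : Subgroup G}

local notation "H₀" => Cfsg.fittingHallOf M

theorem Chief.le_norm (hch : Chief M W₁ U W₂) {L : Subgroup G} (hN : kerU M U ≤ L) (hL : L ≤ H₀) :
    H₀ ≤ Subgroup.normalizer (L : Set G) := by
  have key : ∀ t ∈ H₀, ∀ x ∈ L, t * x * t⁻¹ ∈ L := fun t ht x hx => by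
    rw [show t * x * t⁻¹ = (t * x * t⁻¹ * x⁻¹) * x by group]
    exact mul_mem (hN (hch.comm (Subgroup.commutator_mem_commutator ht (hL hx)))) hx
  intro t ht
  rw [Subgroup.mem_normalizer_iff]
  refine fun x => ⟨key t ht x, fun h => ?_⟩
  simpa [mul_assoc] using key t⁻¹ (inv_mem ht) _ h

theorem Chief.index_kerU (hch : Chief M W₁ U W₂) :
    (kerU M U).relIndex H₀ = Nat.card W₂ ^ Nat.card W₁ := by
  have h := Subgroup.relIndex_mul_relIndex ⊥ (kerU M U) H₀ bot_le inf_le_left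
  rw [Subgroup.relIndex_bot_left, Subgroup.relIndex_bot_left, hch.card, mul_comm] at h
  exact Nat.eq_of_mul_eq_mul_right Nat.card_pos h

/-- Between `C_H(U)` and `H` nothing is normalised by `M` when `U` and `W₁` normalise it. -/
theorem Chief.eq_or_eq (hP : Cfsg.IsTypePWith M W₁ U W₂) (hch : Chief M W₁ U W₂) {L : Subgroup G}
    (hN : kerU M U ≤ L) (hL : L ≤ H₀) (hU : U ≤ Subgroup.normalizer (L : Set G))
    (hW : W₁ ≤ Subgroup.normalizer (L : Set G)) : L = kerU M U ∨ L = H₀ := by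
  refine hch.minimal L hN hL fun t ht => ?_
  obtain ⟨d, hd, w, hw, rfl⟩ := hP.W₁_compl.2.2.2 t ht
  obtain ⟨a, ha, b, hb, rfl⟩ := hP.U_compl.2.2.2 d hd
  exact mul_mem (mul_mem (hch.le_norm hN hL ha) (hU hb)) (hW hw)

/-- `U` leaves nothing between `C_H(U)` and `H`. -/
def Irred (M U : Subgroup G) : Prop :=
  ∀ L : Subgroup G, kerU M U ≤ L → L ≤ Cfsg.fittingHallOf M →
    U ≤ Subgroup.normalizer (L : Set G) → L = kerU M U ∨ L = Cfsg.fittingHallOf M

/-- An invariant hyperplane, or irreducibility. -/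
theorem line_or_irred (hP : Cfsg.IsTypePWith M W₁ U W₂) (hq : (Nat.card W₁).Prime)
    (hp : (Nat.card W₂).Prime) (hch : Chief M W₁ U W₂) :
    (∃ L : Subgroup G, kerU M U ≤ L ∧ L ≤ H₀ ∧ U ≤ Subgroup.normalizer (L : Set G) ∧
      L.relIndex H₀ = Nat.card W₂) ∨ Irred M U := by
  classical
  refine or_iff_not_imp_right.mpr fun hir => ?_
  unfold Irred at hir
  push Not at hir
  obtain ⟨L₀, hNL₀, hL₀, hUL₀, hne₀, hne₀'⟩ := hir
  obtain ⟨L, ⟨hNL, hLH, hUL, hLne⟩, hLmax⟩ := (Set.toFinite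
    {L : Subgroup G | kerU M U ≤ L ∧ L ≤ H₀ ∧ U ≤ Subgroup.normalizer (L : Set G) ∧
      L ≠ H₀}).exists_maximal ⟨L₀, hNL₀, hL₀, hUL₀, hne₀'⟩
  refine ⟨L, hNL, hLH, hUL, ?_⟩
  -- conjugates of `L`
  have hconj : ∀ w ∈ W₁, ∀ L' : Subgroup G, L' = L.map (MulAut.conj w).toMonoidHom →
      kerU M U ≤ L' ∧ L' ≤ H₀ ∧ U ≤ Subgroup.normalizer (L' : Set G) ∧
      L'.relIndex H₀ = L.relIndex H₀ := by
    intro w hw L' hL'
    have hwM : w ∈ M := hP.W₁_compl.2.1 hw
    have hHw : Subgroup.map (MulAut.conj w).toMonoidHom H₀ = H₀ := by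
      refine Subgroup.eq_of_le_of_card_ge ?_ (by rw [card_map_conj])
      rintro _ ⟨x, hx, rfl⟩
      exact (Subgroup.mem_normalizer_iff.mp (le_normalizer_fittingHallOf M hwM) x).mp hx
    have hmem : ∀ x, x ∈ L' ↔ w⁻¹ * x * w ∈ L := fun x => by
      rw [hL']
      constructor
      · rintro ⟨y, hy, rfl⟩; simpa [mul_assoc] using hy
      · intro h; exact ⟨_, h, by simp [mul_assoc]⟩
    refine ⟨fun x hx => (hmem x).mpr (hNL ?_), ?_, fun v hv => ?_, ?_⟩
    · simpa using (Subgroup.mem_normalizer_iff.mp (hch.normal (inv_mem hwM)) x).mp hx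
    · rw [hL', ← hHw]; exact Subgroup.map_mono hLH
    · have hv' : w⁻¹ * v * w ∈ U := by
        simpa using (Subgroup.mem_normalizer_iff.mp (hP.U_normal (inv_mem hw)) v).mp hv
      rw [Subgroup.mem_normalizer_iff]
      intro x
      rw [hmem, hmem, Subgroup.mem_normalizer_iff.mp (hUL hv') (w⁻¹ * x * w)]
      group
    · rw [hL']
      conv_lhs => rw [← hHw]
      exact Subgroup.relIndex_map_map_of_injective _ _ (MulAut.conj w).injective
  obtain ⟨X, ⟨hNX, hXH, hUX, k, hk⟩, hXmin⟩ := (Set.toFinite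
    {X : Subgroup G | kerU M U ≤ X ∧ X ≤ H₀ ∧ U ≤ Subgroup.normalizer (X : Set G) ∧
      ∃ k : ℕ, X.relIndex H₀ = L.relIndex H₀ ^ k}).exists_minimal
    ⟨H₀, inf_le_left, le_rfl, (typeP_U_le hP).trans (le_normalizer_fittingHallOf M),
      0, by simp⟩
  have hsub : ∀ w ∈ W₁, X ≤ L.map (MulAut.conj w).toMonoidHom := by
    intro w hw
    obtain ⟨hNL', hL'H, hUL', hidx⟩ := hconj w hw _ rfl
    set L' := L.map (MulAut.conj w).toMonoidHom with hL'
    by_contra hle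
    have hsup : L' ⊔ X = H₀ := by
      -- maximality transported
      by_contra hne
      obtain ⟨hNY, hYH, hUY, -⟩ := hconj w hw _ rfl
      have hwM : w⁻¹ ∈ M := inv_mem (hP.W₁_compl.2.1 hw)
      set Y := (L' ⊔ X).map (MulAut.conj w⁻¹).toMonoidHom with hY
      have hmemY : ∀ x, x ∈ Y ↔ w * x * w⁻¹ ∈ L' ⊔ X := fun x => by
        rw [hY]
        constructor
        · rintro ⟨y, hy, rfl⟩; simpa [mul_assoc] using hy
        · intro h; exact ⟨_, h, by simp [mul_assoc]⟩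
      have hHw : ∀ x, w * x * w⁻¹ ∈ H₀ ↔ x ∈ H₀ := fun x =>
        (Subgroup.mem_normalizer_iff.mp
          (le_normalizer_fittingHallOf M (hP.W₁_compl.2.1 hw)) x).symm
      have hLY : L ≤ Y := fun x hx => (hmemY x).mpr (Subgroup.mem_sup_left ⟨x, hx, rfl⟩)
      have hYH' : Y ≤ H₀ := fun x hx => (hHw x).mp ((sup_le hL'H hXH) ((hmemY x).mp hx))
      have hUY' : U ≤ Subgroup.normalizer (Y : Set G) := fun v hv => by
        have hv' : w * v * w⁻¹ ∈ U := (Subgroup.mem_normalizer_iff.mp (hP.U_normal hw) v).mp hv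
        rw [Subgroup.mem_normalizer_iff]
        intro x
        rw [hmemY, hmemY, Subgroup.mem_normalizer_iff.mp
          (((le_inf hUL' hUX).trans (Subgroup.normalizer_inf_normalizer_le_normalizer_sup L' X)) hv') (w * x * w⁻¹)]
        group
      have hYne : Y ≠ H₀ := fun e => hne (le_antisymm (sup_le hL'H hXH) fun x hx => by
        have h1 : w⁻¹ * x * w ∈ H₀ := (hHw _).mp (by simpa [mul_assoc] using hx)
        have := (hmemY _).mp (e ▸ h1)
        simpa [mul_assoc] using this)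
      have hYL : Y ≤ L := hLmax ⟨hNL.trans hLY, hYH', hUY', hYne⟩ hLY
      refine hle fun x hx => ⟨w⁻¹ * x * w, hYL ((hmemY _).mpr ?_), by simp [mul_assoc]⟩
      simpa [mul_assoc] using Subgroup.mem_sup_right (S := L') hx
    have hXL' : X ≤ Subgroup.normalizer (L' : Set G) := hXH.trans (hch.le_norm hNL' hL'H)
    have h1 : L'.relIndex H₀ = L'.relIndex X := by
      haveI : (L'.subgroupOf (L' ⊔ X)).Normal := Subgroup.normal_subgroupOf_iff_le_normalizer
        le_sup_left |>.mpr (sup_le Subgroup.le_normalizer hXL')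
      have e := Subgroup.relIndex_sup_left (H := X.subgroupOf (L' ⊔ X))
        (K := L'.subgroupOf (L' ⊔ X))
      rw [← Subgroup.subgroupOf_sup le_sup_left le_sup_right,
        Subgroup.relIndex_subgroupOf le_rfl, Subgroup.relIndex_subgroupOf le_sup_right, hsup] at e
      exact e
    have h2 : (L' ⊓ X).relIndex H₀ = L.relIndex H₀ ^ (k + 1) := by
      rw [← Subgroup.relIndex_mul_relIndex (L' ⊓ X) X H₀ inf_le_right hXH,
        Subgroup.inf_relIndex_right, ← h1, hidx, hk, pow_succ']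
    have h3 := hXmin ⟨le_inf hNL' hNX, inf_le_right.trans hXH,
      CfsgLib.Solvable.le_normalizer_inf hUL' hUX, k + 1, h2⟩
      inf_le_right
    exact hle (h3.trans inf_le_left)
  -- the intersection of the conjugates
  have hXN : X = kerU M U := by
    let Y : Subgroup G := ⨅ w : W₁, L.map (MulAut.conj (w : G)).toMonoidHom
    have hXY : X ≤ Y := le_iInf fun w => hsub w w.2
    have hmemY : ∀ x, x ∈ Y ↔ ∀ w ∈ W₁, w⁻¹ * x * w ∈ L := fun x => by
      simp only [Y, Subgroup.mem_iInf, Subtype.forall]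
      refine forall₂_congr fun w _ => ⟨?_, fun h => ⟨_, h, by simp [mul_assoc]⟩⟩
      rintro ⟨y, hy, rfl⟩; simpa [mul_assoc] using hy
    have hYL : Y ≤ L := fun x hx => by simpa using (hmemY x).mp hx 1 (one_mem _)
    have hUY : U ≤ Subgroup.normalizer (Y : Set G) := fun v hv => by
      rw [Subgroup.mem_normalizer_iff]
      intro x
      rw [hmemY, hmemY]
      refine forall₂_congr fun w hw => ?_
      have hv' : w⁻¹ * v * w ∈ U := by
        simpa using (Subgroup.mem_normalizer_iff.mp (hP.U_normal (inv_mem hw)) v).mp hv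
      rw [Subgroup.mem_normalizer_iff.mp (hUL hv') (w⁻¹ * x * w)]
      group
    have hWY : W₁ ≤ Subgroup.normalizer (Y : Set G) := fun t ht => by
      rw [Subgroup.mem_normalizer_iff]
      intro x
      rw [hmemY, hmemY]
      constructor
      · intro h w hw
        have := h (t⁻¹ * w) (mul_mem (inv_mem ht) hw)
        simpa [mul_assoc] using this
      · intro h w hw
        have := h (t * w) (mul_mem ht hw)
        simpa [mul_assoc] using this
    rcases hch.eq_or_eq hP (hNX.trans hXY) (hYL.trans hLH) hUY hWY with h | h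
    · exact le_antisymm (hXY.trans h.le) hNX
    · exact absurd (le_antisymm hLH (h.ge.trans hYL)) hLne
  rw [hXN, hch.index_kerU] at hk
  obtain ⟨d, -, hd⟩ := (Nat.dvd_prime_pow hp).mp (show L.relIndex H₀ ∣ Nat.card W₂ ^ Nat.card W₁ by
    rw [← hch.index_kerU]; exact Subgroup.relIndex_dvd_of_le_left H₀ hNL)
  rw [hd, ← pow_mul] at hk
  have hdk := Nat.pow_right_injective hp.two_le hk
  rcases (Nat.dvd_prime hq).mp ⟨k, hdk⟩ with h | h
  · rw [hd, h, pow_one]
  · exfalso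
    have hLN : L = kerU M U := by
      refine (Subgroup.eq_of_le_of_card_ge hNL ?_).symm
      have e := Subgroup.relIndex_mul_relIndex (kerU M U) L H₀ hNL hLH
      rw [hch.index_kerU, hd, h] at e
      have e1 : (kerU M U).relIndex L = 1 :=
        Nat.eq_of_mul_eq_mul_right (pow_pos hp.pos _) (e.trans (one_mul _).symm)
      exact Subgroup.card_le_of_le (Subgroup.relIndex_eq_one.mp e1)
    refine hne₀ (le_antisymm ?_ hNL₀)
    by_contra hnot
    -- `L₀` is a proper invariant subgroup above `L`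
    exact hnot ((hLmax ⟨hNL₀, hL₀, hUL₀, hne₀'⟩ (hLN ▸ hNL₀)).trans hLN.le)

/-- The data of an invariant hyperplane. -/
structure Line (M W₁ U W₂ : Subgroup G) (L U₁ : Subgroup G) (a : ℕ) : Prop where
  ge : kerU M U ≤ L
  le : L ≤ Cfsg.fittingHallOf M
  norm : U ≤ Subgroup.normalizer (L : Set G)
  idx : L.relIndex (Cfsg.fittingHallOf M) = Nat.card W₂
  U₁_le : U₁ ≤ U
  mem : ∀ v ∈ U, v ∈ U₁ ↔ ∀ x ∈ Cfsg.fittingHallOf M, v * x * v⁻¹ * x⁻¹ ∈ L
  cU_le : cU M U ≤ U₁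
  index : U₁.relIndex U = a
  dvd : a ∣ Nat.card W₂ - 1
  one_lt : 1 < a
  pow : ∀ v ∈ U, v ^ a ∈ cU M U
  min : ∀ k, (∀ v ∈ U, v ^ k ∈ cU M U) → a ∣ k
  stab : ∀ w ∈ W₁, w ≠ 1 → L.map (MulAut.conj w).toMonoidHom ≠ L

theorem exists_line (hP : Cfsg.IsTypePWith M W₁ U W₂) (hU : U ≠ ⊥) (hq : (Nat.card W₁).Prime)
    (hp : (Nat.card W₂).Prime) (hch : Chief M W₁ U W₂) {L : Subgroup G} (hNL : kerU M U ≤ L)
    (hLH : L ≤ H₀) (hUL : U ≤ Subgroup.normalizer (L : Set G))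
    (hidx : L.relIndex H₀ = Nat.card W₂) : ∃ U₁ a, Line M W₁ U W₂ L U₁ a := by
  classical
  haveI := Fact.mk hp
  haveI := Fact.mk hq
  haveI : (L.subgroupOf H₀).Normal :=
    Subgroup.normal_subgroupOf_iff_le_normalizer hLH |>.mpr (hch.le_norm hNL hLH)
  have hUH : U ≤ Subgroup.normalizer (H₀ : Set G) :=
    (typeP_U_le hP).trans (le_normalizer_fittingHallOf M)
  let ac : U → MulAut ↥H₀ := fun v => (Subgroup.normalizerMonoidHom H₀) ⟨v, hUH v.2⟩
  have hac : ∀ (v : U) (x : ↥H₀), ((ac v x : ↥H₀) : G) = v * x * (v : G)⁻¹ := fun _ _ => rfl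
  have hLac : ∀ v : U, (L.subgroupOf H₀).map (ac v : ↥H₀ →* ↥H₀) = L.subgroupOf H₀ := by
    intro v
    ext x
    constructor
    · rintro ⟨y, hy, rfl⟩
      exact (Subgroup.mem_normalizer_iff.mp (hUL v.2) y).mp hy
    · intro hx
      refine ⟨(ac v).symm x, ?_, (ac v).apply_symm_apply x⟩
      have e := hac v ((ac v).symm x)
      rw [(ac v).apply_symm_apply] at e
      exact (Subgroup.mem_normalizer_iff.mp (hUL v.2) _).mpr (e ▸ hx)
  let f : U →* MulAut (↥H₀ ⧸ L.subgroupOf H₀) := MonoidHom.mk'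
    (fun v => QuotientGroup.congr _ _ (ac v) (hLac v)) fun v v' => by
      ext z
      obtain ⟨x, rfl⟩ := QuotientGroup.mk_surjective z
      show ((ac (v * v') x : ↥H₀) : ↥H₀ ⧸ L.subgroupOf H₀) = ((ac v (ac v' x) : ↥H₀) : _)
      congr 1
      exact Subtype.ext (by simp [hac, mul_assoc])
  have hker : ∀ v : U, v ∈ f.ker ↔ ∀ x ∈ H₀, (v : G) * x * (v : G)⁻¹ * x⁻¹ ∈ L := by
    intro v
    rw [MonoidHom.mem_ker]
    constructor
    · intro h x hx
      have h1 := DFunLike.congr_fun h ((⟨x, hx⟩ : ↥H₀) : ↥H₀ ⧸ L.subgroupOf H₀)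
      have h2 : ((ac v ⟨x, hx⟩ : ↥H₀) : ↥H₀ ⧸ L.subgroupOf H₀) = ((⟨x, hx⟩ : ↥H₀) : _) := h1
      have h3 := (QuotientGroup.eq.mp h2.symm)
      rw [Subgroup.mem_subgroupOf] at h3
      have h4 : x⁻¹ * ((v : G) * x * (v : G)⁻¹) ∈ L := h3
      have h5 := (Subgroup.mem_normalizer_iff.mp (hch.le_norm hNL hLH hx) _).mp h4
      rwa [mul_inv_cancel_left] at h5
    · intro h
      ext z
      obtain ⟨x, rfl⟩ := QuotientGroup.mk_surjective z
      show ((ac v x : ↥H₀) : ↥H₀ ⧸ L.subgroupOf H₀) = (x : _)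
      rw [eq_comm, QuotientGroup.eq, Subgroup.mem_subgroupOf]
      show (x : G)⁻¹ * ((v : G) * x * (v : G)⁻¹) ∈ L
      have h5 := (Subgroup.mem_normalizer_iff.mp (hch.le_norm hNL hLH (inv_mem x.2)) _).mp (h x x.2)
      simpa [mul_assoc] using h5
  set U₁ : Subgroup G := f.ker.map U.subtype with hU₁
  have hU₁le : U₁ ≤ U := Subgroup.map_subtype_le _
  have hmem : ∀ v ∈ U, v ∈ U₁ ↔ ∀ x ∈ H₀, v * x * v⁻¹ * x⁻¹ ∈ L := fun v hv => by
    rw [← hker ⟨v, hv⟩]
    exact ⟨fun ⟨y, hy, e⟩ => (Subtype.ext e : y = ⟨v, hv⟩) ▸ hy, fun h => ⟨_, h, rfl⟩⟩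
  have hcU : cU M U ≤ U₁ := fun v hv => (hmem v (cU_le hv)).mpr fun x hx => by
    rw [← Subgroup.mem_centralizer_iff.mp hv.2 x hx, mul_inv_cancel_right, mul_inv_cancel]
    exact one_mem L
  have hidxU₁ : U₁.relIndex U = Nat.card f.range := by
    rw [← Subgroup.index_ker, Subgroup.relIndex, hU₁, Subgroup.subgroupOf,
      Subgroup.comap_map_eq_self_of_injective U.subtype_injective]
  have hQ : Nat.card (↥H₀ ⧸ L.subgroupOf H₀) = Nat.card W₂ := hidx
  haveI : IsCyclic (↥H₀ ⧸ L.subgroupOf H₀) := isCyclic_of_prime_card hQ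
  haveI : Fact (Nat.card (↥H₀ ⧸ L.subgroupOf H₀)).Prime := ⟨hQ ▸ hp⟩
  haveI : IsCyclic (MulAut (↥H₀ ⧸ L.subgroupOf H₀)) :=
    (IsCyclic.mulAutMulEquiv _).isCyclic.mpr inferInstance
  have hdvd : Nat.card f.range ∣ Nat.card W₂ - 1 := by
    refine (Subgroup.card_subgroup_dvd_card _).trans ?_
    rw [IsCyclic.card_mulAut, hQ, Nat.totient_prime hp]
  -- powers
  have hpow : ∀ v ∈ U, v ^ Nat.card f.range ∈ U₁ := fun v hv => by
    refine ⟨(⟨v, hv⟩ : U) ^ Nat.card f.range, ?_, rfl⟩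
    rw [SetLike.mem_coe, MonoidHom.mem_ker, map_pow]
    exact congrArg Subtype.val (pow_card_eq_one' (x := (⟨f ⟨v, hv⟩, _, rfl⟩ : f.range)))
  have hpowC : ∀ v ∈ U, v ^ Nat.card f.range ∈ cU M U := by
    intro v hv
    refine ⟨pow_mem hv _, hch.cent _ (pow_mem hv _) ?_⟩
    let Y : Subgroup G := H₀ ⊓ ⨅ w : W₁, L.map (MulAut.conj (w : G)).toMonoidHom
    have hmemY : ∀ x, x ∈ Y ↔ x ∈ H₀ ∧ ∀ w ∈ W₁, w⁻¹ * x * w ∈ L := fun x => by
      simp only [Y, Subgroup.mem_inf, Subgroup.mem_iInf, Subtype.forall]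
      refine and_congr_right fun _ => forall₂_congr fun w _ =>
        ⟨?_, fun h => ⟨_, h, by simp [mul_assoc]⟩⟩
      rintro ⟨y, hy, rfl⟩; simpa [mul_assoc] using hy
    have hNY : kerU M U ≤ Y := fun x hx => (hmemY x).mpr ⟨hx.1, fun w hw => hNL (by
      simpa using (Subgroup.mem_normalizer_iff.mp
        (hch.normal (inv_mem (hP.W₁_compl.2.1 hw))) x).mp hx)⟩
    have hUY : U ≤ Subgroup.normalizer (Y : Set G) := fun t ht => by
      rw [Subgroup.mem_normalizer_iff]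
      intro x
      rw [hmemY, hmemY, ← Subgroup.mem_normalizer_iff.mp (hUH ht) x]
      refine and_congr_right fun _ => forall₂_congr fun w hw => ?_
      have ht' : w⁻¹ * t * w ∈ U := by
        simpa using (Subgroup.mem_normalizer_iff.mp (hP.U_normal (inv_mem hw)) t).mp ht
      rw [Subgroup.mem_normalizer_iff.mp (hUL ht') (w⁻¹ * x * w)]
      group
    have hWY : W₁ ≤ Subgroup.normalizer (Y : Set G) := fun t ht => by
      rw [Subgroup.mem_normalizer_iff]
      intro x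
      rw [hmemY, hmemY, ← Subgroup.mem_normalizer_iff.mp
        (le_normalizer_fittingHallOf M (hP.W₁_compl.2.1 ht)) x]
      refine and_congr_right fun _ => ⟨fun h w hw => ?_, fun h w hw => ?_⟩
      · have := h (t⁻¹ * w) (mul_mem (inv_mem ht) hw)
        simpa [mul_assoc] using this
      · have := h (t * w) (mul_mem ht hw)
        simpa [mul_assoc] using this
    have hYN : Y = kerU M U := by
      refine (hch.eq_or_eq hP hNY inf_le_left hUY hWY).resolve_right fun e => ?_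
      have h1 : H₀ ≤ L := fun x hx => by
        simpa using ((hmemY x).mp (e.ge hx)).2 1 (one_mem _)
      rw [Subgroup.relIndex_eq_one.mpr h1] at hidx
      exact hp.one_lt.ne hidx
    intro x hx
    rw [← hYN, hmemY]
    have hu := (Subgroup.mem_normalizer_iff.mp (hUH (pow_mem hv (Nat.card f.range))) x⁻¹).mp
      (inv_mem hx)
    refine ⟨by simpa [mul_assoc] using mul_mem hx hu, fun w hw => ?_⟩
    have hv' : w⁻¹ * v * w ∈ U := by
      simpa using (Subgroup.mem_normalizer_iff.mp (hP.U_normal (inv_mem hw)) v).mp hv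
    have hx' : w⁻¹ * x⁻¹ * w ∈ H₀ := by
      simpa using (Subgroup.mem_normalizer_iff.mp
        (le_normalizer_fittingHallOf M (inv_mem (hP.W₁_compl.2.1 hw))) x⁻¹).mp (inv_mem hx)
    have h := (hmem _ (pow_mem hv' _)).mp (hpow _ hv') _ hx'
    rw [show (w⁻¹ * v * w) ^ Nat.card f.range = w⁻¹ * v ^ Nat.card f.range * w by
      simpa using conj_pow (i := Nat.card f.range) (a := w⁻¹) (b := v)] at h
    have h2 := (Subgroup.mem_normalizer_iff.mp (hch.le_norm hNL hLH (inv_mem hx')) _).mp h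
    simpa [mul_assoc] using h2
  refine ⟨U₁, Nat.card f.range, hNL, hLH, hUL, hidx, hU₁le, hmem, hcU, hidxU₁, hdvd, ?_, hpowC,
    fun k hk => ?_, fun w hw hw1 e => ?_⟩
  · refine (Finite.one_lt_card_iff_nontrivial).mpr ((Subgroup.nontrivial_iff_ne_bot _).mpr fun e => ?_)
    have e1 : Nat.card f.range = 1 := by rw [e, Subgroup.card_bot]
    exact cU_ne hP hU fun v hv => by
      have h2 := hpowC v hv
      rwa [e1, pow_one] at h2
  · obtain ⟨⟨g, v, rfl⟩, hg⟩ := IsCyclic.exists_generator (α := f.range)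
    have e : orderOf (f v) = Nat.card f.range := by
      rw [← orderOf_eq_card_of_forall_mem_zpowers hg, ← Subgroup.orderOf_coe]
    rw [← e, orderOf_dvd_iff_pow_eq_one, ← map_pow, ← MonoidHom.mem_ker]
    exact (hker _).mpr ((hmem _ (pow_mem v.2 k)).mp (hcU (hk v v.2)))
  · have hz : W₁ ≤ Subgroup.normalizer (L : Set G) := by
      have e' : Subgroup.zpowers w = W₁ := Subgroup.eq_of_le_of_card_ge
        (Subgroup.zpowers_le.mpr hw) (by
          rw [Nat.card_zpowers]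
          rcases (Nat.dvd_prime hq).mp (Subgroup.orderOf_dvd_natCard _ hw) with h | h
          · exact absurd (orderOf_eq_one_iff.mp h) hw1
          · exact h.ge)
      rw [← e', Subgroup.zpowers_le, Subgroup.mem_normalizer_iff]
      intro x
      conv_rhs => rw [← e]
      exact ⟨fun hx => ⟨x, hx, rfl⟩, fun ⟨y, hy, hye⟩ => (MulAut.conj w).injective hye ▸ hy⟩
    rcases hch.eq_or_eq hP hNL hLH hUL hz with h | h
    · rw [h, hch.index_kerU] at hidx
      have h2 := Nat.pow_right_injective hp.two_le (hidx.trans (pow_one _).symm)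
      exact hq.one_lt.ne' h2
    · rw [h, Subgroup.relIndex_self] at hidx
      exact hp.one_lt.ne hidx

/-- `U / C` is cyclic. -/
theorem Irred.exists_gen (hP : Cfsg.IsTypePWith M W₁ U W₂) (hp : (Nat.card W₂).Prime)
    (hch : Chief M W₁ U W₂) (hir : Irred M U) :
    ∃ u₀ ∈ U, ∀ v ∈ U, ∃ k : ℤ, v * (u₀ ^ k)⁻¹ ∈ cU M U := by
  classical
  set N := kerU M U with hN
  set C := cU M U with hC
  have hUH : U ≤ Subgroup.normalizer (H₀ : Set G) :=
    (typeP_U_le hP).trans (le_normalizer_fittingHallOf M)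
  have hUN : U ≤ Subgroup.normalizer (N : Set G) := (typeP_U_le hP).trans hch.normal
  haveI : (C.subgroupOf U).Normal := Subgroup.normal_subgroupOf_iff_le_normalizer cU_le
    |>.mpr (le_sup_left.trans (cU_normal hP))
  have hHN : H₀ ≤ Subgroup.normalizer (N : Set G) := (fittingHallOf_le M).trans hch.normal
  haveI : (N.subgroupOf H₀).Normal :=
    Subgroup.normal_subgroupOf_iff_le_normalizer inf_le_left |>.mpr hHN
  letI : CommGroup (↥H₀ ⧸ N.subgroupOf H₀) :=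
    { (inferInstance : Group (↥H₀ ⧸ N.subgroupOf H₀)) with
      mul_comm := fun a b => by
        obtain ⟨x, rfl⟩ := QuotientGroup.mk_surjective a
        obtain ⟨y, rfl⟩ := QuotientGroup.mk_surjective b
        rw [← QuotientGroup.mk_mul, ← QuotientGroup.mk_mul, QuotientGroup.eq,
          Subgroup.mem_subgroupOf]
        show ((x : G) * y)⁻¹ * (y * x) ∈ N
        rw [show ((x : G) * y)⁻¹ * (y * x) = (y : G)⁻¹ * (x : G)⁻¹ * (y : G)⁻¹⁻¹ * (x : G)⁻¹⁻¹ by
          group]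
        exact hch.comm (Subgroup.commutator_mem_commutator (inv_mem y.2) (inv_mem x.2)) }
  let ac : U → MulAut ↥H₀ := fun v => (Subgroup.normalizerMonoidHom H₀) ⟨v, hUH v.2⟩
  have hac : ∀ (v : U) (x : ↥H₀), ((ac v x : ↥H₀) : G) = v * x * (v : G)⁻¹ := fun _ _ => rfl
  have hNac : ∀ v : U, (N.subgroupOf H₀).map (ac v : ↥H₀ →* ↥H₀) = N.subgroupOf H₀ := by
    intro v
    ext x
    constructor
    · rintro ⟨y, hy, rfl⟩
      exact (Subgroup.mem_normalizer_iff.mp (hUN v.2) y).mp hy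
    · intro hx
      refine ⟨(ac v).symm x, ?_, (ac v).apply_symm_apply x⟩
      have e := hac v ((ac v).symm x)
      rw [(ac v).apply_symm_apply] at e
      exact (Subgroup.mem_normalizer_iff.mp (hUN v.2) _).mpr (e ▸ hx)
  let f : U →* MulAut (↥H₀ ⧸ N.subgroupOf H₀) := MonoidHom.mk'
    (fun v => QuotientGroup.congr _ _ (ac v) (hNac v)) fun v v' => by
      ext z
      obtain ⟨x, rfl⟩ := QuotientGroup.mk_surjective z
      show ((ac (v * v') x : ↥H₀) : ↥H₀ ⧸ N.subgroupOf H₀) = ((ac v (ac v' x) : ↥H₀) : _)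
      congr 1
      exact Subtype.ext (by simp [hac, mul_assoc])
  have hfix : ∀ (v : U) (x : ↥H₀), f v x = x ↔ (v : G) * x * (v : G)⁻¹ * (x : G)⁻¹ ∈ N := by
    intro v x
    show ((ac v x : ↥H₀) : ↥H₀ ⧸ N.subgroupOf H₀) = _ ↔ _
    rw [eq_comm, QuotientGroup.eq, Subgroup.mem_subgroupOf]
    show (x : G)⁻¹ * ((v : G) * x * (v : G)⁻¹) ∈ N ↔ _
    rw [Subgroup.mem_normalizer_iff.mp (hHN x.2) ((x : G)⁻¹ * ((v : G) * x * (v : G)⁻¹))]
    simp [mul_assoc]
  have hcov : C.subgroupOf U ≤ f.ker := fun v hv => by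
    rw [MonoidHom.mem_ker]
    ext z
    obtain ⟨x, rfl⟩ := QuotientGroup.mk_surjective z
    refine (hfix v x).mpr ?_
    rw [← Subgroup.mem_centralizer_iff.mp (Subgroup.mem_subgroupOf.mp hv).2 _ x.2,
      mul_inv_cancel_right, mul_inv_cancel]
    exact one_mem N
  have hfpf : ∀ e : U ⧸ C.subgroupOf U, e ≠ 1 → ∀ z : ↥H₀ ⧸ N.subgroupOf H₀,
      QuotientGroup.lift _ f hcov e z = z → z = 1 := by
    intro e he z
    obtain ⟨v, rfl⟩ := QuotientGroup.mk_surjective e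
    obtain ⟨x, rfl⟩ := QuotientGroup.mk_surjective z
    intro hz
    have hz' : f v x = x := hz
    let Z : Subgroup G := {
      carrier := {y | y ∈ H₀ ∧ (v : G) * y * (v : G)⁻¹ * y⁻¹ ∈ N}
      one_mem' := ⟨one_mem _, by simp [one_mem]⟩
      mul_mem' := fun {a b} ha hb => ⟨mul_mem ha.1 hb.1, by
        rw [show (v : G) * (a * b) * (v : G)⁻¹ * (a * b)⁻¹ = ((v : G) * a * (v : G)⁻¹ * a⁻¹) *
          (a * ((v : G) * b * (v : G)⁻¹ * b⁻¹) * a⁻¹) by group]
        exact mul_mem ha.2 ((Subgroup.mem_normalizer_iff.mp (hHN ha.1) _).mp hb.2)⟩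
      inv_mem' := fun {a} ha => ⟨inv_mem ha.1, by
        rw [show (v : G) * a⁻¹ * (v : G)⁻¹ * a⁻¹⁻¹ =
          a⁻¹ * ((v : G) * a * (v : G)⁻¹ * a⁻¹)⁻¹ * a⁻¹⁻¹ by group]
        exact (Subgroup.mem_normalizer_iff.mp (hHN (inv_mem ha.1)) _).mp (inv_mem ha.2)⟩ }
    have hNZ : N ≤ Z := fun y hy => ⟨hy.1, by
      rw [show (v : G) * y * (v : G)⁻¹ * y⁻¹ = ((v : G) * y * (v : G)⁻¹) * y⁻¹ from rfl]
      exact mul_mem ((Subgroup.mem_normalizer_iff.mp (hUN v.2) y).mp hy) (inv_mem hy)⟩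
    have key : ∀ t ∈ U, ∀ y ∈ Z, t * y * t⁻¹ ∈ Z := by
      intro t ht y hy
      refine ⟨(Subgroup.mem_normalizer_iff.mp (hUH ht) y).mp hy.1, ?_⟩
      -- `t v = v t c`
      have hc : (v : G)⁻¹ * t⁻¹ * v * t ∈ C := by
        have h1 := derived_U_le hP (Subgroup.commutator_mem_commutator (inv_mem v.2) (inv_mem ht))
        rw [commutatorElement_def] at h1
        simpa using h1
      set c := (v : G)⁻¹ * t⁻¹ * v * t with hcdef
      have hcy : c * y = y * c := (Subgroup.mem_centralizer_iff.mp hc.2 y hy.1).symm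
      have e : (v : G) * (t * y * t⁻¹) * (v : G)⁻¹ * (t * y * t⁻¹)⁻¹ =
          t * ((v : G) * y * (v : G)⁻¹ * y⁻¹) * t⁻¹ := by
        calc _ = t * ((v : G) * (c * y * c⁻¹) * (v : G)⁻¹ * y⁻¹) * t⁻¹ := by
              rw [hcdef]; group
          _ = _ := by rw [hcy, mul_inv_cancel_right]
      rw [e]
      exact (Subgroup.mem_normalizer_iff.mp (hUN ht) _).mp hy.2
    rcases hir Z hNZ (fun y hy => hy.1) (fun t ht => by
      rw [Subgroup.mem_normalizer_iff]
      refine fun y => ⟨key t ht y, fun h => ?_⟩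
      simpa [mul_assoc] using key t⁻¹ (inv_mem ht) _ h) with h | h
    · exact (QuotientGroup.eq_one_iff _).mpr (h.le ⟨x.2, (hfix v x).mp hz'⟩)
    · exfalso
      refine he ((QuotientGroup.eq_one_iff _).mpr ⟨v.2, hch.cent _ v.2 fun y hy => ?_⟩)
      have h2 := inv_mem (h.ge hy).2
      simpa [mul_assoc] using h2
  haveI : Nontrivial (↥H₀ ⧸ N.subgroupOf H₀) := Finite.one_lt_card_iff_nontrivial.mp (by
    rw [show Nat.card (↥H₀ ⧸ N.subgroupOf H₀) = N.relIndex H₀ from rfl, hch.index_kerU]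
    exact Nat.one_lt_pow Nat.card_pos.ne' hp.one_lt)
  have hcomm : ∀ a b : U ⧸ C.subgroupOf U, a * b = b * a := fun a b => by
    obtain ⟨x, rfl⟩ := QuotientGroup.mk_surjective a
    obtain ⟨y, rfl⟩ := QuotientGroup.mk_surjective b
    rw [← QuotientGroup.mk_mul, ← QuotientGroup.mk_mul, QuotientGroup.eq, Subgroup.mem_subgroupOf]
    show ((x : G) * y)⁻¹ * (y * x) ∈ C
    rw [show ((x : G) * y)⁻¹ * (y * x) = (y : G)⁻¹ * (x : G)⁻¹ * (y : G)⁻¹⁻¹ * (x : G)⁻¹⁻¹ by
      group]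
    exact derived_U_le hP (Subgroup.commutator_mem_commutator (inv_mem y.2) (inv_mem x.2))
  obtain ⟨g, hg⟩ := (CfsgLib.Solvable.isCyclic_of_fpf_comm _ hfpf hcomm).exists_generator
  obtain ⟨u₀, rfl⟩ := QuotientGroup.mk_surjective g
  refine ⟨u₀, u₀.2, fun v hv => ?_⟩
  obtain ⟨k, hk⟩ := hg ((⟨v, hv⟩ : U) : U ⧸ C.subgroupOf U)
  refine ⟨k, ?_⟩
  have h1 : (((⟨v, hv⟩ : U) * (u₀ ^ k)⁻¹ : U) : U ⧸ C.subgroupOf U) = 1 := by
    rw [QuotientGroup.mk_mul, QuotientGroup.mk_inv, QuotientGroup.mk_zpow]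
    show _ * ((u₀ : U ⧸ C.subgroupOf U) ^ k)⁻¹ = 1
    rw [show ((u₀ : U ⧸ C.subgroupOf U) ^ k) = _ from hk, mul_inv_cancel]
  simpa [Subgroup.mem_subgroupOf] using (QuotientGroup.eq_one_iff _).mp h1

open CfsgLib.Char CfsgLib.CharNormal in
open scoped ComplexConjugate in
/-- A nondegenerate commutator pairing has square index. -/
theorem isSquare_of_nondeg {K : Type u} [Group K] [Finite K] (Z : Subgroup K) [Z.Normal]
    (hZ : Z ≤ Subgroup.center K) (hcomm : ∀ x y : K, x * y * x⁻¹ * y⁻¹ ∈ Z) (φ : Z →* ℂˣ)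
    (hnd : ∀ x ∉ Z, ∃ y : K, φ ⟨y * x * y⁻¹ * x⁻¹, hcomm y x⟩ ≠ 1) :
    ∃ d : ℕ, d ^ 2 = Z.index := by
  classical
  have := Fintype.ofFinite K
  have := Fintype.ofFinite Z
  have hφ : Cfsg.IsIrrCharacter Z fun z => (φ z : ℂ) :=
    isIrrCharacter_hom ((Units.coeHom ℂ).comp φ)
  obtain ⟨χ, hχ⟩ := exists_irr_over Z hφ
  set f : K → ℂ := (χ : K → ℂ) with hf
  have hd := irr_one_ne_zero χ.2
  have hcm : ∀ (z : Z) (g : K), f (z * g) * f 1 = f z * f g := fun z g =>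
    char_center_mul χ.2 (hZ z.2) g
  have hval : ∀ z : Z, f z = f 1 * (φ z : ℂ) := by
    intro z
    have hsum : (∑ m : Z, f m * conj (φ m : ℂ)) ≠ 0 := fun h0 => hχ (by
      rw [classInner_def, h0, mul_zero])
    have hin : conj (φ z : ℂ) * (φ z : ℂ) = 1 := by
      rw [← char_inv (isCharacter_of_isIrr hφ), map_inv, Units.inv_mul]
    have e : f z * conj (φ z : ℂ) * (∑ m : Z, f m * conj (φ m : ℂ)) =
        f 1 * (∑ m : Z, f m * conj (φ m : ℂ)) := by
      conv_rhs => rw [← Equiv.sum_comp (Equiv.mulLeft z) (fun m : Z => f m * conj (φ m : ℂ))]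
      rw [Finset.mul_sum, Finset.mul_sum]
      refine Finset.sum_congr rfl fun m _ => ?_
      rw [Equiv.coe_mulLeft, map_mul, Units.val_mul, map_mul, Subgroup.coe_mul]
      linear_combination -(conj (φ z : ℂ) * conj (φ m : ℂ)) * hcm z m
    calc f z = f z * (conj (φ z : ℂ) * (φ z : ℂ)) := by rw [hin, mul_one]
      _ = f 1 * (φ z : ℂ) := by rw [← mul_assoc, mul_right_cancel₀ hsum e]
  have hoff : ∀ x ∉ Z, f x = 0 := by
    intro x hx
    obtain ⟨y, hy⟩ := hnd x hx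
    have e1 : f (y * x * y⁻¹) = f x := isClassFunction_of_isIrr χ.2 x y
    have e2 := hcm ⟨_, hcomm y x⟩ x
    rw [hval, show ((⟨y * x * y⁻¹ * x⁻¹, hcomm y x⟩ : Z) : K) * x = y * x * y⁻¹ by simp, e1] at e2
    by_contra h0
    refine hy (Units.ext ?_)
    refine (mul_right_cancel₀ (mul_ne_zero hd h0) ?_ : (φ _ : ℂ) = 1)
    linear_combination -e2
  obtain ⟨d, hd0, hd1⟩ := exists_degree_pos χ.2
  refine ⟨d, ?_⟩
  have hnorm := classInner_irr_self χ.2
  rw [classInner_def] at hnorm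
  have hterm : ∀ x : K, f x * conj (f x) = if x ∈ Z then (d : ℂ) ^ 2 else 0 := by
    intro x
    split_ifs with hx
    · have hin : (φ ⟨x, hx⟩ : ℂ) * conj (φ ⟨x, hx⟩ : ℂ) = 1 := by
        rw [← char_inv (isCharacter_of_isIrr hφ), map_inv, Units.mul_inv]
      rw [show f x = f 1 * (φ ⟨x, hx⟩ : ℂ) from hval ⟨x, hx⟩, map_mul,
        show f 1 = (d : ℂ) from hd1, map_natCast]
      linear_combination (d : ℂ) ^ 2 * hin
    · rw [hoff x hx, zero_mul]
  rw [Finset.sum_congr rfl fun x _ => hterm x, Finset.sum_ite, Finset.sum_const_zero, add_zero,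
    Finset.sum_const, nsmul_eq_mul] at hnorm
  have hc : (Finset.univ.filter fun x : K => x ∈ Z).card = Nat.card Z := by
    rw [Nat.card_eq_fintype_card, Fintype.card_subtype]
  rw [hc, inv_mul_eq_iff_eq_mul₀ (Nat.cast_ne_zero.mpr Nat.card_pos.ne'), mul_one] at hnorm
  have h2 : Nat.card Z * d ^ 2 = Nat.card K := by exact_mod_cast hnorm
  rw [← Z.card_mul_index] at h2
  exact Nat.eq_of_mul_eq_mul_left Nat.card_pos h2

/-- `H` is abelian when `C_H(U)` is central. -/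
theorem Irred.commutative (hP : Cfsg.IsTypePWith M W₁ U W₂) (hq : (Nat.card W₁).Prime)
    (hp : (Nat.card W₂).Prime) (hodd : Odd (Nat.card G)) (hch : Chief M W₁ U W₂) (hir : Irred M U)
    (hcen : ∀ z ∈ kerU M U, ∀ x ∈ H₀, z * x = x * z) : ∀ x ∈ H₀, ∀ y ∈ H₀, x * y = y * x := by
  classical
  by_contra hna
  push Not at hna
  obtain ⟨x₀, hx₀, y₀, hy₀, hne⟩ := hna
  set N := kerU M U with hN
  set Z : Subgroup ↥H₀ := N.subgroupOf H₀ with hZ
  have hHN : H₀ ≤ Subgroup.normalizer (N : Set G) := (fittingHallOf_le M).trans hch.normal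
  haveI : Z.Normal := Subgroup.normal_subgroupOf_iff_le_normalizer inf_le_left |>.mpr hHN
  have hZc : Z ≤ Subgroup.center ↥H₀ := fun z hz =>
    Subgroup.mem_center_iff.mpr fun g => Subtype.ext (hcen z hz g g.2).symm
  have hcomm : ∀ x y : ↥H₀, x * y * x⁻¹ * y⁻¹ ∈ Z := fun x y =>
    hch.comm (Subgroup.commutator_mem_commutator x.2 y.2)
  have := Fintype.ofFinite Z
  letI : CommGroup Z := { (inferInstance : Group Z) with
    mul_comm := fun a b => Subtype.ext (Subtype.ext (hcen _ a.2 _ b.1.2)) }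
  obtain ⟨φ, hφ⟩ := CommGroup.exists_apply_ne_one_of_hasEnoughRootsOfUnity Z ℂ
    (show (⟨_, hcomm ⟨x₀, hx₀⟩ ⟨y₀, hy₀⟩⟩ : Z) ≠ 1 from fun e => hne (by
      have h1 : x₀ * y₀ * x₀⁻¹ * y₀⁻¹ = 1 := congrArg (fun z : Z => ((z : ↥H₀) : G)) e
      rw [mul_inv_eq_one, mul_inv_eq_iff_eq_mul] at h1
      exact h1))
  -- central commutators
  have hmul : ∀ a b y : ↥H₀, φ ⟨y * (a * b) * y⁻¹ * (a * b)⁻¹, hcomm y (a * b)⟩ =
      φ ⟨y * a * y⁻¹ * a⁻¹, hcomm y a⟩ * φ ⟨y * b * y⁻¹ * b⁻¹, hcomm y b⟩ := by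
    intro a b y
    rw [← map_mul]
    congr 1
    refine Subtype.ext ?_
    show y * (a * b) * y⁻¹ * (a * b)⁻¹ = (y * a * y⁻¹ * a⁻¹) * (y * b * y⁻¹ * b⁻¹)
    calc _ = (y * a * y⁻¹ * a⁻¹) * (a * (y * b * y⁻¹ * b⁻¹) * a⁻¹) := by group
      _ = _ := by rw [Subgroup.mem_center_iff.mp (hZc (hcomm y b)) a, mul_inv_cancel_right]
  let Rad : Subgroup ↥H₀ := {
    carrier := {a | ∀ y, φ ⟨y * a * y⁻¹ * a⁻¹, hcomm y a⟩ = 1}
    one_mem' := fun y => by
      rw [show (⟨y * 1 * y⁻¹ * 1⁻¹, hcomm y 1⟩ : Z) = 1 from Subtype.ext (by simp), map_one]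
    mul_mem' := fun {a b} ha hb y => by rw [hmul, ha y, hb y, one_mul]
    inv_mem' := fun {a} ha y => by
      have h := hmul a a⁻¹ y
      rw [ha y, one_mul] at h
      rw [← h, show (⟨y * (a * a⁻¹) * y⁻¹ * (a * a⁻¹)⁻¹, hcomm y (a * a⁻¹)⟩ : Z) = 1 from
        Subtype.ext (by simp), map_one] }
  set L : Subgroup G := Rad.map (H₀).subtype with hL
  have hmemL : ∀ x, x ∈ L ↔ ∃ hx : x ∈ H₀, (⟨x, hx⟩ : ↥H₀) ∈ Rad := fun x =>
    ⟨fun ⟨y, hy, e⟩ => e ▸ ⟨y.2, hy⟩, fun ⟨hx, h⟩ => ⟨_, h, rfl⟩⟩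
  have hNL : N ≤ L := fun x hx => (hmemL x).mpr ⟨hx.1, fun y => by
    rw [show (⟨y * ⟨x, hx.1⟩ * y⁻¹ * (⟨x, hx.1⟩ : ↥H₀)⁻¹, hcomm y ⟨x, hx.1⟩⟩ : Z) = 1 from
      Subtype.ext (Subtype.ext (by
        show (y : G) * x * (y : G)⁻¹ * x⁻¹ = 1
        rw [← hcen x hx _ y.2, mul_inv_cancel_right, mul_inv_cancel])), map_one]⟩
  have key : ∀ t ∈ U, ∀ x ∈ L, t * x * t⁻¹ ∈ L := by
    intro t ht x hx
    obtain ⟨hxH, hr⟩ := (hmemL x).mp hx
    have htH := le_normalizer_fittingHallOf M (typeP_U_le hP ht)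
    refine (hmemL _).mpr ⟨(Subgroup.mem_normalizer_iff.mp htH x).mp hxH, fun y => ?_⟩
    have hy' : t⁻¹ * y * t ∈ H₀ := by
      simpa using (Subgroup.mem_normalizer_iff.mp (inv_mem htH) y).mp y.2
    refine Eq.trans ?_ (hr ⟨_, hy'⟩)
    congr 1
    refine Subtype.ext (Subtype.ext ?_)
    show (y : G) * (t * x * t⁻¹) * (y : G)⁻¹ * (t * x * t⁻¹)⁻¹ =
      (t⁻¹ * y * t) * x * (t⁻¹ * y * t)⁻¹ * x⁻¹
    have hz : (t⁻¹ * y * t) * x * (t⁻¹ * y * t)⁻¹ * x⁻¹ ∈ N :=
      hch.comm (Subgroup.commutator_mem_commutator hy' hxH)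
    calc _ = t * ((t⁻¹ * y * t) * x * (t⁻¹ * y * t)⁻¹ * x⁻¹) * t⁻¹ := by group
      _ = _ := by rw [Subgroup.mem_centralizer_iff.mp hz.2 t ht, mul_inv_cancel_right]
  rcases hir L hNL (Subgroup.map_subtype_le _) (fun t ht => by
    rw [Subgroup.mem_normalizer_iff]
    refine fun x => ⟨key t ht x, fun h => ?_⟩
    simpa [mul_assoc] using key t⁻¹ (inv_mem ht) _ h) with h | h
  · obtain ⟨d, hd⟩ := isSquare_of_nondeg Z hZc hcomm φ fun x hx => by
      by_contra hall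
      push Not at hall
      exact hx (h.le ⟨x, hall, rfl⟩)
    rw [show Z.index = N.relIndex H₀ from rfl, hch.index_kerU] at hd
    obtain ⟨i, -, rfl⟩ := (Nat.dvd_prime_pow hp).mp (Dvd.intro _ ((pow_two d).symm.trans hd))
    rw [← pow_mul] at hd
    obtain ⟨c, hc⟩ := hodd.of_dvd_nat (Subgroup.card_subgroup_dvd_card W₁)
    have := Nat.pow_right_injective hp.two_le hd
    omega
  · obtain ⟨hx, hr⟩ := (hmemL y₀).mp (h.ge hy₀)
    exact hφ (hr ⟨x₀, hx₀⟩)

end CfsgLib.OddChar.Prime
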