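import Cfsg.Agent.Lib.OddChar.Prime.Hyp
import Cfsg.Agent.Lib.OddChar.PairLocal

/-!
# The predecessors of PF 10–11 hold
-/

set_option autoImplicit false

namespace CfsgLib.OddChar.Prime

open CfsgLib.OddLocal
open CfsgLib.OddChar

universe u

variable {G : Type u} [Group G] [Finite G]

/-- A standard factorisation with `K = W₁`. -/
theorem exists_decomposition_W₁ (hG : Cfsg.IsMinSimpleOddOrder G) {M W₁ U W₂ : Subgroup G}
    (hM : IsCoatom M) (hP : Cfsg.IsTypePWith M W₁ U W₂) :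
    ∃ U₀ : Subgroup G, Cfsg.IsSigmaDecomposition M W₁ U₀ ∧
      W₂ = Cfsg.sigmaCore M ⊓ Subgroup.centralizer (W₁ : Set G) := by
  have B := S15.s16Base hG
  obtain ⟨K, U₀, hKU⟩ := S15.exists_decomposition B.h1350 hM B.h1351 B.h1352
  have hK1 := S15.K_ne_bot_of_typeP hG B.toBase hM hKU hP
  obtain ⟨U', hP', -⟩ := S15.typeP_data hG B hM hKU hK1
  obtain ⟨g, hg, he, -⟩ := conj_data (maximal_solvable hG hM) hP hP'
  have hKU' := S15.decomposition_conj hKU hg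
  rw [he] at hKU'
  obtain ⟨U'', hP'', -⟩ := S15.typeP_data hG B hM hKU' hP.W₁_ne
  refine ⟨_, hKU', ?_⟩
  obtain ⟨x, hx, hx1⟩ := (Subgroup.bot_or_exists_ne_one W₁).resolve_left hP.W₁_ne
  exact (hP.W₂_centralizer x hx hx1).symm.trans (hP''.W₂_centralizer x hx hx1)

/-- The partner of a subgroup of type P. -/
theorem partner_of_minimal (hG : Cfsg.IsMinSimpleOddOrder G) {M W₁ U W₂ : Subgroup G}
    (hM : IsCoatom M) (hP : Cfsg.IsTypePWith M W₁ U W₂) :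
    ∃ N V : Subgroup G, IsCoatom N ∧ Cfsg.IsTypePWith N W₂ V W₁ ∧ M ⊓ N = W₁ ⊔ W₂ ∧
      (Cfsg.IsOfTypeII M ∨ Cfsg.IsOfTypeII N) := by
  have B := S15.s16Base hG
  obtain ⟨U₀, hKU, rfl⟩ := exists_decomposition_W₁ hG hM hP
  have hK1 := hP.W₁_ne
  obtain ⟨Ms, ⟨hMs, hKst, hKstH⟩, -⟩ := B.h1366 M hM W₁ U₀ hKU hK1
  set Ks := Cfsg.sigmaCore M ⊓ Subgroup.centralizer (W₁ : Set G) with hKs
  have hKs1 : Ks ≠ ⊥ := (B.h1354 M hM W₁ hKU.cyclic hKU.hall).1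
  obtain ⟨⟨Us, hKUs⟩, -⟩ := B.h1352 Ms hMs Ks ((B.h1351 Ms hMs).2 Ks hKstH) hKstH
  obtain ⟨hII, -⟩ := B.h1369 M hM W₁ U₀ hKU hK1 Ms hMs hKst hKstH
  obtain ⟨V', hT, -⟩ := S15.typeP_data hG B hMs hKUs hKs1
  rw [show Cfsg.sigmaCore Ms ⊓ Subgroup.centralizer (Ks : Set G) = W₁ from hKst.symm] at hT
  refine ⟨Ms, V', hMs, hT, (B.h1368 M hM W₁ U₀ hKU hK1 Ms hMs hKst hKstH).1, ?_⟩
  rcases hII with h | h
  · exact Or.inl (S15.typeII_of hG B hM hKU hK1 h)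
  · exact Or.inr (S15.typeII_of hG B hMs hKUs hKs1 (h Us hKUs))

/-- The bundle of predecessors holds. -/
theorem pre_of_minimal (hG : Cfsg.IsMinSimpleOddOrder G) : Pre G where
  minSimple := hG
  partner := fun _ _ _ _ hM hP => partner_of_minimal hG hM hP
  regularII := fun _ _ hN hII hc =>
    (S15.typeI_II_complement hG (S15.s16Base hG) hN (Or.inr ⟨hII, hc⟩)).2.1
  sylowNorm := fun _ hM => (S15.typeCore_sylow_hall hG (S15.s16Base hG) hM).1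

end CfsgLib.OddChar.Prime
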