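import Cfsg.Agent.Lib.OddChar.Prime.Criteria

/-!
# Two blocks: linear members and members of degree `e`

* `sq_alpha_lower`: `q sq ≥ 2 e² (q - 1)`;
* `Block.flat_of_relay`: enough members of degree `e` force the flat case.
-/

set_option autoImplicit false
set_option linter.unusedSectionVars false

namespace CfsgLib.OddChar.Prime

open CfsgLib.Char CfsgLib.CharNormal
open CfsgLib.OddChar
open scoped ComplexConjugate

universe u

variable {G : Type u} [Group G] [Fintype G] {M : Subgroup G} {W₁ W₂ : Subgroup G} {A₀ : Set G}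
  {R : G → Subgroup G} [Fintype M] {S : Setup M W₁ W₂ A₀ R} {F : Fam S} {ι κ : Type*} [Fintype ι]
  [Fintype κ] (B : Block F ι) (C : Block F κ) [Fintype (Ir₁ W₁ W₂)] [Fintype (Ir₂ W₁ W₂)]

theorem sq_alpha_lower (c : κ) (i : Ir₁ W₁ W₂) {j : Ir₂ W₁ W₂} (hj : j ≠ 1) :
    2 * (C.deg c : ℤ) ^ 2 * ((Nat.card W₁ : ℤ) - 1) ≤
      (Nat.card W₁ : ℤ) * Prime.sq (F.arr (tau S (C.alpha c i j))) := by
  classical
  obtain ⟨r, hr, hab⟩ := C.arr_alpha c i j
  set f := F.arr (tau S (C.alpha c i j)) with hf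
  set e : ℤ := (C.deg c : ℤ) * F.sgn j with he
  set g : ℤ := r 1 j - r 1 1 with hg
  have hd : ∀ x, f x j - f x 1 = g + if x = i then 2 * e else 0 := fun x => by
    have h := hr x j
    rw [hab, hab]
    by_cases hx : x = i
    · simp [pat, hx, hj, Ne.symm hj] at h ⊢
      linarith
    · simp [pat, hx] at h ⊢
      linarith
  have h2 : ∑ x, (f x j - f x 1) ^ 2 ≤ 2 * Prime.sq f := by
    rw [Prime.sq, Finset.mul_sum]
    refine Finset.sum_le_sum fun x _ => ?_
    have h3 : f x j ^ 2 + f x 1 ^ 2 ≤ ∑ y, f x y ^ 2 := by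
      have := Finset.sum_le_sum_of_subset_of_nonneg (f := fun y => f x y ^ 2)
        (Finset.subset_univ ({j, 1} : Finset (Ir₂ W₁ W₂))) fun _ _ _ => sq_nonneg _
      rwa [Finset.sum_pair hj] at this
    nlinarith [sq_nonneg (f x j + f x 1)]
  have h4 : ∑ x, (f x j - f x 1) ^ 2 =
      (Nat.card W₁ : ℤ) * g ^ 2 + (4 * e * g + 4 * e ^ 2) := by
    rw [Finset.sum_congr rfl fun x _ => (show (f x j - f x 1) ^ 2 =
      g ^ 2 + if x = i then 4 * e * g + 4 * e ^ 2 else 0 by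
        rw [hd x]; split_ifs <;> ring), Finset.sum_add_distrib, Finset.sum_const, Finset.card_univ,
      nsmul_eq_mul, Finset.sum_ite_eq', if_pos (Finset.mem_univ i), ← card_ir₁ S,
      Nat.card_eq_fintype_card]
  have he2 : e ^ 2 = (C.deg c : ℤ) ^ 2 := by
    rcases F.sgn_eq j with h | h <;> rw [he, h] <;> ring
  rw [h4] at h2
  have hq : (0 : ℤ) ≤ Nat.card W₁ := Int.natCast_nonneg _
  rw [← he2]
  nlinarith [sq_nonneg ((Nat.card W₁ : ℤ) * g + 2 * e), mul_le_mul_of_nonneg_left h2 hq]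

/-- `ξ ↦ e ζ - ξ`. -/
noncomputable def relayFun (a : ι) (c : κ) : M → ℂ := (C.deg c : ℂ) • B.ch a - C.ch c

variable {B C}

theorem relay_supp {a : ι} (ha : B.deg a = 1) (c : κ) : Supp S (relayFun B C a c) :=
  supp_off (fun g x => by
      simp only [relayFun, Pi.sub_apply, Pi.smul_apply, isClassFunction_of_isIrr (B.irr a) g x,
        isClassFunction_of_isIrr (C.irr c) g x])
    (by simp [relayFun, B.one, C.one, ha]) fun x hx => by simp [relayFun, B.off _ x hx, C.off _ x hx]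

theorem relay_gen (a : ι) (c : κ) : Cfsg.IsGeneralizedCharacter M (relayFun B C a c) := by
  rw [relayFun, show ((C.deg c : ℕ) : ℂ) = (((C.deg c : ℕ) : ℤ) : ℂ) by simp]
  exact isGen_sub (isGen_intCast_smul (isGen_of_irr (B.irr a)) _) (isGen_of_irr (C.irr c))

open Classical in
/-- The inequalities of the relay. -/
theorem relay_core {e : ℕ} {n : ℤ} (hB : ∀ b, B.deg b = 1) (hC : ∀ b, C.deg b = e)
    (hd : ∀ a b, B.ch a ≠ C.ch b) (hm : 2 ≤ Fintype.card ι) (hn2 : 0 ≤ n)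
    (hme : 2 * n ≤ Fintype.card κ) (hme2 : 2 ≤ Fintype.card κ)
    (hmB : 2 * (e : ℤ) ^ 2 < (Nat.card W₁ : ℤ) * Fintype.card ι)
    (hcop : IsCoprime (e : ℤ) n) (a : ι) (c : κ) (i : Ir₁ W₁ W₂) {j : Ir₂ W₁ W₂} (hj : j ≠ 1)
    (hn : F.nn j = n) :
    ∃ w x : ℤ, (∀ b, Cfsg.classInner (tau S (relayFun B C a c)) (B.img b) =
        (w : ℂ) + (e : ℂ) * (if a = b then 1 else 0)) ∧
      Cfsg.classInner (tau S (B.alpha a i j)) (B.img a) = (x : ℂ) - (n : ℂ) ∧
      (e : ℤ) * x = -(n * w) ∧ (w = 0 ∨ (w = -e ∧ Fintype.card ι = 2)) := by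
  classical
  set Γe := tau S (C.alpha c i j) with hΓe
  have hge : Cfsg.IsGeneralizedCharacter G Γe := tau_gen (C.alpha_gen c i j) (C.alpha_supp c i j)
  set z : ℤ := B.coef Γe a with hz
  set x₁ : ℤ := C.coef Γe c + n with hx₁
  have hαB : ∀ b, Cfsg.classInner (C.alpha c i j) (B.ch b) = 0 := fun b => by
    rw [C.alpha_ch c i j B b, classInner_irr_ne (C.irr c) (B.irr b) (hd b c).symm, mul_zero]
  have hcz : ∀ b, B.coef Γe b = z := fun b => by
    have h := B.coef_prop (C.alpha_supp c i j) (hB a) b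
    rw [← hΓe, hαB, hαB, hB b, B.coef_spec hge, B.coef_spec hge, ← hz] at h
    have h' : (B.coef Γe b : ℂ) = (z : ℂ) := by linear_combination h
    exact_mod_cast h'
  have hcx : ∀ b, C.coef Γe b = x₁ - if c = b then n else 0 := fun b => by
    have h := C.prop (C.alpha_supp c i j) c b
    rw [← hΓe, C.alpha_ch, C.alpha_ch, C.ch_inner, C.ch_inner, C.coef_spec hge, C.coef_spec hge,
      hC b, hC c, if_pos rfl, hn] at h
    have he0 : (e : ℂ) ≠ 0 := Nat.cast_ne_zero.mpr (hC c ▸ (C.deg_pos c).ne')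
    have h' := mul_left_cancel₀ he0 h
    have h'' : (C.coef Γe b : ℂ) = ((x₁ - if c = b then n else 0 : ℤ) : ℂ) := by
      rw [hx₁]; split_ifs at h' ⊢ <;> push_cast <;> linear_combination -h'
    exact_mod_cast h''
  have hnorm : Cfsg.classInner Γe Γe = ((2 * (e : ℤ) ^ 2 + n ^ 2 : ℤ) : ℂ) := by
    rw [hΓe, tau_inner (C.alpha_supp c i j) (C.alpha_supp c i j), C.alpha_norm c i hj, hC c, hn]
  have hb := C.bound₂ B (fun p r => (hd r p).symm) hge hnorm
  rw [Finset.sum_congr rfl fun b _ => (show C.coef Γe b ^ 2 =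
      x₁ ^ 2 + if c = b then n ^ 2 - 2 * n * x₁ else 0 by rw [hcx b]; split_ifs <;> ring),
    Finset.sum_congr rfl fun b _ => (show B.coef Γe b ^ 2 = z ^ 2 by rw [hcz b]),
    Finset.sum_add_distrib, Finset.sum_const, Finset.sum_const, Finset.card_univ, Finset.card_univ,
    nsmul_eq_mul, nsmul_eq_mul, Finset.sum_ite_eq, if_pos (Finset.mem_univ c)] at hb
  have hlow := sq_alpha_lower C c i hj
  rw [hC c, ← hΓe] at hlow
  have hq0 : (0 : ℤ) ≤ Nat.card W₁ := Int.natCast_nonneg _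
  have hxnn : 0 ≤ (Fintype.card κ : ℤ) * x₁ ^ 2 - 2 * n * x₁ := by
    rcases le_or_gt x₁ 0 with h | h
    · nlinarith
    · nlinarith [mul_le_mul_of_nonneg_left (show (1 : ℤ) ≤ x₁ from h)
        (show (0 : ℤ) ≤ (Fintype.card κ : ℤ) * x₁ by positivity)]
  have hz0 : z = 0 := by
    by_contra hne
    have h1 := one_le_sq hne
    have h2 : (Nat.card W₁ : ℤ) * ((Fintype.card ι : ℤ) * z ^ 2) ≤ 2 * (e : ℤ) ^ 2 := by
      nlinarith [mul_le_mul_of_nonneg_left hb hq0, mul_nonneg hq0 hxnn]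
    nlinarith [mul_le_mul_of_nonneg_left h1
      (show (0 : ℤ) ≤ (Nat.card W₁ : ℤ) * Fintype.card ι by positivity)]
  -- the test function `e ζ - ξ`
  set Γ' := tau S (relayFun B C a c) with hΓ'
  have hs := relay_supp (C := C) (hB a) c
  have hg' : Cfsg.IsGeneralizedCharacter G Γ' := tau_gen (relay_gen a c) hs
  set w : ℤ := B.coef Γ' a - e with hw
  set y : ℤ := C.coef Γ' c + 1 with hy
  have hrB : ∀ b, Cfsg.classInner (relayFun B C a c) (B.ch b) =
      (e : ℂ) * (if a = b then 1 else 0) := fun b => by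
    rw [relayFun, classInner_sub_left, classInner_smul_left, B.ch_inner, hC c,
      classInner_irr_ne (C.irr c) (B.irr b) (hd b c).symm, sub_zero]
  have hrC : ∀ b, Cfsg.classInner (relayFun B C a c) (C.ch b) = -(if c = b then 1 else 0) :=
    fun b => by
    rw [relayFun, classInner_sub_left, classInner_smul_left, C.ch_inner,
      classInner_irr_ne (B.irr a) (C.irr b) (hd a b), mul_zero, zero_sub]
  have hcw : ∀ b, B.coef Γ' b = w + if a = b then (e : ℤ) else 0 := fun b => by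
    have h := B.coef_prop hs (hB a) b
    rw [← hΓ', hB b, B.coef_spec hg', B.coef_spec hg', hrB, hrB, if_pos rfl] at h
    have h' : (B.coef Γ' b : ℂ) = ((w + if a = b then (e : ℤ) else 0 : ℤ) : ℂ) := by
      rw [hw]; split_ifs at h ⊢ <;> push_cast <;> linear_combination h
    exact_mod_cast h'
  have hcy : ∀ b, C.coef Γ' b = y - if c = b then 1 else 0 := fun b => by
    have h := C.prop hs c b
    rw [← hΓ', C.coef_spec hg', C.coef_spec hg', hC b, hC c, hrC, hrC, if_pos rfl] at h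
    have he0 : (e : ℂ) ≠ 0 := Nat.cast_ne_zero.mpr (hC c ▸ (C.deg_pos c).ne')
    have h' := mul_left_cancel₀ he0 h
    have h'' : (C.coef Γ' b : ℂ) = ((y - if c = b then 1 else 0 : ℤ) : ℂ) := by
      rw [hy]; split_ifs at h' ⊢ <;> push_cast <;> linear_combination -h'
    exact_mod_cast h''
  have hnorm' : Cfsg.classInner Γ' Γ' = (((e : ℤ) ^ 2 + 1 : ℤ) : ℂ) := by
    rw [hΓ', tau_inner hs hs]
    conv_lhs => arg 2; rw [relayFun]
    rw [classInner_sub_right, classInner_smul_right, hrB, hrC, hC c, if_pos rfl, if_pos rfl]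
    simp
    ring
  have hb' := B.bound₂ C hd hg' hnorm'
  rw [Finset.sum_congr rfl fun b _ => (show C.coef Γ' b ^ 2 =
      y ^ 2 + if c = b then 1 - 2 * y else 0 by rw [hcy b]; split_ifs <;> ring),
    Finset.sum_congr rfl fun b _ => (show B.coef Γ' b ^ 2 =
      w ^ 2 + if a = b then (e : ℤ) ^ 2 + 2 * e * w else 0 by rw [hcw b]; split_ifs <;> ring),
    Finset.sum_add_distrib, Finset.sum_add_distrib, Finset.sum_const, Finset.sum_const,
    Finset.card_univ, Finset.card_univ, nsmul_eq_mul, nsmul_eq_mul, Finset.sum_ite_eq,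
    Finset.sum_ite_eq, if_pos (Finset.mem_univ c), if_pos (Finset.mem_univ a)] at hb'
  -- the linear relation
  set Γ₀ := tau S (B.alpha a i j) with hΓ₀
  have hg₀ : Cfsg.IsGeneralizedCharacter G Γ₀ := tau_gen (B.alpha_gen a i j) (B.alpha_supp a i j)
  set x : ℤ := B.coef Γ₀ a + n with hx
  have hrel : (e : ℂ) • B.alpha a i j - C.alpha c i j = -(n : ℂ) • relayFun B C a c := by
    funext t
    simp only [Block.alpha, relayFun, hB a, hC c, hn, Pi.sub_apply, Pi.smul_apply, smul_eq_mul]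
    push_cast
    ring
  have h := congrArg (fun f => Cfsg.classInner (tau S f) (B.img a)) hrel
  simp only [tau_sub, tau_smul, classInner_sub_left, classInner_smul_left] at h
  rw [← hΓ₀, ← hΓe, ← hΓ', B.coef_spec hg₀, B.coef_spec hge, B.coef_spec hg', hcz, hz0, hcw,
    if_pos rfl] at h
  have hex : (e : ℤ) * x = -(n * w) := by
    have h' : (((e : ℤ) * x : ℤ) : ℂ) = ((-(n * w) : ℤ) : ℂ) := by
      rw [hx]; push_cast at h ⊢; linear_combination h
    exact_mod_cast h'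
  refine ⟨w, x, fun b => ?_, ?_, hex, ?_⟩
  · rw [B.coef_spec hg', hcw]; split_ifs <;> push_cast <;> ring
  · rw [B.coef_spec hg₀, hx]; push_cast; ring
  · obtain ⟨k, hk⟩ : (e : ℤ) ∣ w := hcop.dvd_of_dvd_mul_left ⟨-x, by linarith⟩
    have hy0 : 0 ≤ (Fintype.card κ : ℤ) * y ^ 2 - 2 * y := by
      have : (2 : ℤ) ≤ Fintype.card κ := by exact_mod_cast hme2
      rcases le_or_gt y 0 with h | h
      · nlinarith [sq_nonneg y]
      · nlinarith
    have hm' : (2 : ℤ) ≤ Fintype.card ι := by exact_mod_cast hm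
    have hsq := sq_nonneg' (F.arr Γ')
    have h2 : (e : ℤ) ^ 2 * ((Fintype.card ι : ℤ) * k ^ 2 + 2 * k) ≤ 0 := by
      rw [hk] at hb'; nlinarith
    have he1 : 1 ≤ (e : ℤ) ^ 2 := one_le_sq (by
      have := hC c ▸ C.deg_pos c
      omega)
    have h3 : (Fintype.card ι : ℤ) * k ^ 2 + 2 * k ≤ 0 := by nlinarith
    rcases eq_or_ne k 0 with hk0 | hk0
    · left; rw [hk, hk0, mul_zero]
    · right
      have hk1 : k = -1 := by
        rcases lt_trichotomy k (-1) with h | h | h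
        · nlinarith
        · exact h
        · have : 1 ≤ k := by omega
          nlinarith
      subst hk1
      refine ⟨by rw [hk]; ring, le_antisymm ?_ hm⟩
      have : (Fintype.card ι : ℤ) ≤ 2 := by nlinarith
      exact_mod_cast this

/-- The relay. -/
theorem Block.flat_of_relay {e : ℕ} {n : ℤ} (hB : ∀ b, B.deg b = 1) (hC : ∀ b, C.deg b = e)
    (hd : ∀ a b, B.ch a ≠ C.ch b) (hm : 2 ≤ Fintype.card ι) (hn2 : 0 ≤ n)
    (hme : 2 * n ≤ Fintype.card κ) (hme2 : 2 ≤ Fintype.card κ)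
    (hmB : 2 * (e : ℤ) ^ 2 < (Nat.card W₁ : ℤ) * Fintype.card ι)
    (hcop : IsCoprime (e : ℤ) n) (hn : ∀ j : Ir₂ W₁ W₂, j ≠ 1 → F.nn j = n) (a : ι) (c : κ)
    {j₁ : Ir₂ W₁ W₂} (hj₁ : j₁ ≠ 1) :
    ∃ B' : Block F ι, B'.deg = B.deg ∧
      ∀ i, ∀ j, j ≠ 1 → Cfsg.classInner (tau S (B'.alpha a i j)) (B'.img a) = -(F.nn j : ℂ) := by
  classical
  have key : ∀ B' : Block F ι, B'.ch = B.ch → B'.deg = B.deg →
      Cfsg.classInner (tau S (relayFun B C a c)) (B'.img a) = (e : ℂ) →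
      ∀ i, ∀ j, j ≠ 1 → Cfsg.classInner (tau S (B'.alpha a i j)) (B'.img a) = -(F.nn j : ℂ) := by
    intro B' hch hdeg he i j hj
    obtain ⟨w, x, hw, hx, hex, -⟩ := relay_core (B := B') (C := C) (fun b => by rw [hdeg, hB]) hC
      (fun p r => by rw [hch]; exact hd p r) hm hn2 hme hme2 hmB hcop a c i hj (hn j hj)
    have h := hw a
    rw [show relayFun B' C a c = relayFun B C a c by rw [relayFun, relayFun, hch], he,
      if_pos rfl, mul_one, right_eq_add, Int.cast_eq_zero] at h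
    have he0 : (e : ℤ) ≠ 0 := by
      have := hC c ▸ C.deg_pos c
      omega
    rw [h, mul_zero, neg_zero, mul_eq_zero] at hex
    rw [hx, hex.resolve_left he0, hn j hj]
    simp
  obtain ⟨w, x, hw, -, -, hor⟩ :=
    relay_core hB hC hd hm hn2 hme hme2 hmB hcop a c 1 hj₁ (hn j₁ hj₁)
  rcases hor with hw0 | ⟨hwe, h2⟩
  · refine ⟨B, rfl, key B rfl rfl ?_⟩
    rw [hw, hw0, if_pos rfl]; simp
  · obtain ⟨B', hch, hdeg, himg⟩ := B.exists_swap hB h2
    refine ⟨B', hdeg, key B' hch hdeg ?_⟩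
    rw [himg, classInner_neg_right, hw, if_neg (B.cj_ne a).symm, hwe]
    simp

end CfsgLib.OddChar.Prime
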