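import Cfsg.Agent.Lib.OddChar.Prime.Basic
import Cfsg.Agent.Lib.OddChar.Prime.Array
import Cfsg.Agent.S1506

/-!
# The Dade map of a prime Dade setting and the arrays on the `η`

* `exists_conj_of_notMem`: elements outside `K` are conjugate into `W # W₂`;
* `Supp`, `supp_of`: the class functions supported on `A₀`;
* `tau_add`, `tau_smul`, `tau_sum`, `tau_conj`, `tau_inner`, `tau_gen`, `tau_apply_one`, `tau_val`;
* `Fam.arr`, `Fam.rect_of`, `Fam.arr_pattern`: the coefficients on the `η`.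
-/

set_option autoImplicit false

namespace CfsgLib.OddChar.Prime

open CfsgLib.Char CfsgLib.CharNormal
open CfsgLib.OddChar
open scoped ComplexConjugate

universe u

variable {G : Type u} [Group G] [Fintype G] {M : Subgroup G} {W₁ W₂ : Subgroup G} {A₀ : Set G}
  {R : G → Subgroup G} [Fintype M]

section Cover

variable {L : Type u} [Group L] [Fintype L] {K V₁ V₂ : Subgroup L} [K.Normal]

/-- Elements outside `K` are conjugate into `W # W₂`. -/
theorem semi_exists_conj (h : Semi.Setting K V₁ V₂) {x : L} (hx : x ∉ K) :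
    ∃ g : L, ∃ a ∈ V₁, ∃ b ∈ V₂, a ≠ 1 ∧ x = g * (a * b) * g⁻¹ := by
  classical
  obtain ⟨k, hk, a, ha, rfl⟩ := Semi.exists_mul h x
  have ha1 : a ≠ 1 := fun e => hx (by simpa [e] using hk)
  let C : Subgroup K := V₂.subgroupOf K
  have hval : ∀ (c : K) (b : V₂), (c : L) * (a * b) * (c : L)⁻¹ * a⁻¹ ∈ K := by
    intro c b
    rw [show (c : L) * (a * b) * (c : L)⁻¹ * a⁻¹ = c * (a * b * (c : L)⁻¹ * a⁻¹) by group]
    refine K.mul_mem c.2 ?_
    simpa [mul_assoc] using (inferInstance : K.Normal).conj_mem _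
      (K.mul_mem (h.le b.2) (K.inv_mem c.2)) a
  let Φ : (K ⧸ C) × V₂ → K := fun p =>
    ⟨((Quotient.out p.1 : K) : L) * (a * (p.2 : L)) * ((Quotient.out p.1 : K) : L)⁻¹ * a⁻¹,
      hval (Quotient.out p.1) p.2⟩
  have hab2 : ∀ b : V₂, a * (b : L) ∉ V₂ := fun b hb => ha1 (by
    have h1 : a ∈ K ⊓ V₁ := ⟨h.le (by simpa using V₂.mul_mem hb (V₂.inv_mem b.2)), ha⟩
    rwa [h.inf_eq, Subgroup.mem_bot] at h1)
  have hinj : Function.Injective Φ := by
    rintro ⟨q, b⟩ ⟨q', b'⟩ e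
    have e1 := mul_right_cancel (congrArg Subtype.val e)
    set c : L := ((Quotient.out q : K) : L) with hc
    set c' : L := ((Quotient.out q' : K) : L) with hc'
    have hab : ∀ b : V₂, a * (b : L) ∈ V₁ ⊔ V₂ := fun b =>
      mul_mem (Subgroup.mem_sup_left ha) (Subgroup.mem_sup_right b.2)
    have hmem : c'⁻¹ * c ∈ V₁ ⊔ V₂ := by
      by_contra hne
      refine Semi.ti h _ hne (hab b) (hab2 b) ?_
      rw [show c'⁻¹ * c * (a * b) * (c'⁻¹ * c)⁻¹ = c'⁻¹ * (c * (a * b) * c⁻¹) * c' by group, e1,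
        show c'⁻¹ * (c' * (a * b') * c'⁻¹) * c' = a * b' by group]
      exact hab b'
    obtain ⟨u, hu, v, hv, huv⟩ := CTI.exists_mul_of_mem
      (fun a ha b hb => (Semi.commute h ha hb).eq) hmem
    have hu1 : u = 1 := by
      have h1 : u ∈ K ⊓ V₁ := ⟨by
        have h2 : u = c'⁻¹ * c * v⁻¹ := by rw [huv]; group
        rw [h2]
        exact K.mul_mem (K.mul_mem (K.inv_mem (Quotient.out q').2) (Quotient.out q).2)
          (K.inv_mem (h.le hv)), hu⟩
      rwa [h.inf_eq, Subgroup.mem_bot] at h1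
    have hq : q = q' := by
      rw [← q.out_eq, ← q'.out_eq]
      refine (QuotientGroup.eq.mpr ?_).symm
      show ((Quotient.out q')⁻¹ * Quotient.out q : K).1 ∈ V₂
      rw [Subgroup.coe_mul, Subgroup.coe_inv]
      show c'⁻¹ * c ∈ V₂
      rw [huv, hu1, one_mul]; exact hv
    subst hq
    exact Prod.ext rfl (Subtype.ext (mul_left_cancel (mul_left_cancel (mul_right_cancel e1))))
  have hcard : Nat.card ((K ⧸ C) × V₂) = Nat.card K := by
    rw [Nat.card_prod, C.card_eq_card_quotient_mul_card_subgroup,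
      Nat.card_congr (Subgroup.subgroupOfEquivOfLe h.le).toEquiv]
  obtain ⟨⟨q, b⟩, hqb⟩ := ((Nat.bijective_iff_injective_and_card Φ).mpr ⟨hinj, hcard⟩).2 ⟨k, hk⟩
  refine ⟨((Quotient.out q : K) : L), a, ha, b, b.2, ha1, ?_⟩
  have e := congrArg Subtype.val hqb
  simp only [Φ] at e
  rw [← e, inv_mul_cancel_right]

end Cover

/-- The Dade map of the setting. -/
noncomputable abbrev tau (_S : Setup M W₁ W₂ A₀ R) : (M → ℂ) → (G → ℂ) :=
  Cfsg.dadeIsometry A₀ M R

/-- Class functions on `M` supported on `A₀`. -/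
def Supp (_S : Setup M W₁ W₂ A₀ R) (α : M → ℂ) : Prop :=
  Cfsg.IsClassFunction M α ∧ ∀ x : M, (x : G) ∉ A₀ → α x = 0

variable (S : Setup M W₁ W₂ A₀ R)

/-- Elements outside `K` are conjugate into `W # W₂`. -/
theorem exists_conj_of_notMem {x : M} (hx : x ∉ commutator M) :
    ∃ g : M, ∃ w : ↥(W₁ ⊔ W₂), (w : G) ∉ W₂ ∧ x = g * ⟨w, S.le w.2⟩ * g⁻¹ := by
  obtain ⟨g, a, ha, b, hb, ha1, rfl⟩ := semi_exists_conj S.semi hx
  refine ⟨g, ⟨((a * b : M) : G), mul_mem (Subgroup.mem_sup_left ha) (Subgroup.mem_sup_right hb)⟩,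
    fun h2 => ha1 ?_, rfl⟩
  have h1 : a ∈ commutator M ⊓ W₁.subgroupOf M := ⟨S.le_commutator (by
    simpa using (W₂.subgroupOf M).mul_mem (show a * b ∈ W₂.subgroupOf M from h2) ((W₂.subgroupOf M).inv_mem hb)), ha⟩
  rwa [S.inf_eq, Subgroup.mem_bot] at h1

variable {S}

theorem supp_zero : Supp S 0 := ⟨isClassFunction_const 0, fun _ _ => rfl⟩

theorem supp_add {α β : M → ℂ} (ha : Supp S α) (hb : Supp S β) : Supp S (α + β) :=
  ⟨fun g c => by simp only [Pi.add_apply, ha.1 g c, hb.1 g c],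
    fun x hx => by simp [ha.2 x hx, hb.2 x hx]⟩

theorem supp_smul {α : M → ℂ} (ha : Supp S α) (c : ℂ) : Supp S (c • α) :=
  ⟨fun g d => by simp only [Pi.smul_apply, ha.1 g d], fun x hx => by simp [ha.2 x hx]⟩

theorem supp_sub {α β : M → ℂ} (ha : Supp S α) (hb : Supp S β) : Supp S (α - β) :=
  ⟨fun g c => by simp only [Pi.sub_apply, ha.1 g c, hb.1 g c],
    fun x hx => by simp [ha.2 x hx, hb.2 x hx]⟩

theorem supp_sum {ι : Type*} (s : Finset ι) {f : ι → M → ℂ} (h : ∀ i ∈ s, Supp S (f i)) :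
    Supp S (∑ i ∈ s, f i) :=
  ⟨fun g c => by
    simp only [Finset.sum_apply]
    exact Finset.sum_congr rfl fun i hi => (h i hi).1 g c,
    fun x hx => by simp [Finset.sum_apply, Finset.sum_eq_zero fun i hi => (h i hi).2 x hx]⟩

/-- A class function vanishing at `1` and on `W₁#` is supported on `A₀`. -/
theorem supp_of {α : M → ℂ} (hα : Cfsg.IsClassFunction M α) (h1 : α 1 = 0)
    (hW : ∀ w : ↥(W₁ ⊔ W₂), (w : G) ∈ W₁ → (w : G) ∉ W₂ → α ⟨w, S.le w.2⟩ = 0) : Supp S α := by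
  refine ⟨hα, fun x hx => ?_⟩
  by_cases hK : x ∈ commutator M
  · by_cases hx1 : x = 1
    · rw [hx1, h1]
    · exact absurd (S.kernel_mem x hK hx1) hx
  · obtain ⟨g, w, hw2, rfl⟩ := exists_conj_of_notMem S hK
    rw [hα ⟨w, S.le w.2⟩ g]
    by_cases hw1 : (w : G) ∈ W₁
    · exact hW w hw1 hw2
    · exact absurd (S.dade.conj_mem g g.2 w (S.v_mem w ⟨w.2, hw1, hw2⟩)) hx

theorem tau_add (α β : M → ℂ) : tau S (α + β) = tau S α + tau S β := by
  funext g
  simp only [tau, Cfsg.dadeIsometry, Pi.add_apply]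
  split <;> simp

theorem tau_sub (α β : M → ℂ) : tau S (α - β) = tau S α - tau S β := by
  funext g
  simp only [tau, Cfsg.dadeIsometry, Pi.sub_apply]
  split <;> simp

theorem tau_smul (c : ℂ) (α : M → ℂ) : tau S (c • α) = c • tau S α := by
  funext g
  simp only [tau, Cfsg.dadeIsometry, Pi.smul_apply]
  split <;> simp

theorem tau_sum {ι : Type*} (s : Finset ι) (f : ι → M → ℂ) :
    tau S (∑ i ∈ s, f i) = ∑ i ∈ s, tau S (f i) := by
  classical
  induction s using Finset.induction_on with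
  | empty =>
    funext g
    simp only [Finset.sum_empty, tau, Cfsg.dadeIsometry]
    split <;> simp
  | insert a s ha ih => rw [Finset.sum_insert ha, Finset.sum_insert ha, tau_add, ih]

theorem tau_conj (α : M → ℂ) : tau S (Cfsg.conjFun α) = Cfsg.conjFun (tau S α) := by
  funext g
  simp only [tau, Cfsg.dadeIsometry, Cfsg.conjFun]
  split <;> simp

theorem tau_val {α : M → ℂ} (hα : Supp S α) (w : ↥(W₁ ⊔ W₂)) (hw : (w : G) ∈ vset W₁ W₂) :
    tau S α w = α ⟨w, S.le w.2⟩ :=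
  Dade.dade_apply S.dade hα.1 (a := ⟨w, S.le w.2⟩) (S.v_mem _ hw) (x := 1) (u := 1)
    (one_mem _) (by simp)

theorem tau_apply_one (α : M → ℂ) : tau S α 1 = 0 := by
  refine Dade.dade_apply_none ?_
  rintro ⟨a, ha, x, u, hu, hx⟩
  rw [mul_one, mul_inv_cancel] at hx
  have huM : u ∈ M := by
    rw [show u = ((a : G))⁻¹ from (eq_inv_of_mul_eq_one_right hx.symm)]
    exact inv_mem a.2
  have hu1 := Dade.eq_one_of_mem S.dade ha hu huM
  subst hu1
  rw [mul_one] at hx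
  exact S.dade.one_not_mem (hx ▸ ha)

theorem tau_gen {α : M → ℂ} (hα : Cfsg.IsGeneralizedCharacter M α) (h : Supp S α) :
    Cfsg.IsGeneralizedCharacter G (tau S α) :=
  Dade.isGen_dade S.dade hα h.2

theorem isClassFunction_tau {α : M → ℂ} (h : Supp S α) : Cfsg.IsClassFunction G (tau S α) :=
  Dade.isClassFunction_dade S.dade h.1

omit [Fintype M] in
theorem mean_const (H : Subgroup G) (c : ℂ) :
    (Nat.card H : ℂ)⁻¹ * ∑ᶠ u ∈ (H : Set G), c = c := by
  have := Fintype.ofFinite H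
  rw [← finsum_set_coe_eq_finsum_mem, finsum_eq_sum_of_fintype, Finset.sum_const, Finset.card_univ,
    nsmul_eq_mul, ← Nat.card_eq_fintype_card, SetLike.coe_sort_coe, ← mul_assoc,
    inv_mul_cancel₀ (Nat.cast_ne_zero.mpr Nat.card_pos.ne'), one_mul]

/-- The Dade map is an isometry. -/
theorem tau_inner {α β : M → ℂ} (hα : Supp S α) (hβ : Supp S β) :
    Cfsg.classInner (tau S α) (tau S β) = Cfsg.classInner α β := by
  refine Dade.dade_classInner S.dade hα.1 hα.2 (isClassFunction_tau hβ) fun a ha => ?_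
  have : ∀ u ∈ (R a : Set G), tau S β ((a : G) * u) = β a := fun u hu =>
    Dade.dade_apply S.dade hβ.1 ha (x := 1) hu (by simp)
  rw [finsum_mem_congr rfl this]
  exact (mean_const _ _).symm

/-- The mean value of the principal character. -/
theorem tau_inner_one {α : M → ℂ} (hα : Supp S α) :
    Cfsg.classInner (tau S α) (fun _ => 1) = Cfsg.classInner α (fun _ => 1) := by
  refine Dade.dade_classInner S.dade hα.1 hα.2 (isClassFunction_const 1) fun a _ => ?_
  exact (mean_const _ _).symm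

variable (F : Fam S)

open Classical in
/-- The coefficient on `η i j`. -/
noncomputable def Fam.arr (θ : G → ℂ) (i : Ir₁ W₁ W₂) (j : Ir₂ W₁ W₂) : ℤ :=
  if h : ∃ z : ℤ, Cfsg.classInner θ (F.eta i j) = z then h.choose else 0

omit [Fintype M] in
theorem Fam.eta_gen (i : Ir₁ W₁ W₂) (j : Ir₂ W₁ W₂) :
    Cfsg.IsGeneralizedCharacter G (F.eta i j) := by
  rcases F.eta_irr i j with h | h
  · exact isGen_of_irr h
  · simpa using isGen_neg (isGen_of_irr h)

omit [Fintype M] in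
theorem Fam.arr_spec {θ : G → ℂ} (hθ : Cfsg.IsGeneralizedCharacter G θ) (i : Ir₁ W₁ W₂)
    (j : Ir₂ W₁ W₂) : Cfsg.classInner θ (F.eta i j) = (F.arr θ i j : ℂ) := by
  have h : ∃ z : ℤ, Cfsg.classInner θ (F.eta i j) = z := classInner_gen_int hθ (F.eta_gen i j)
  rw [Fam.arr, dif_pos h]
  exact h.choose_spec

omit [Fintype M] in
theorem Fam.arr_eq {θ : G → ℂ} {i : Ir₁ W₁ W₂} {j : Ir₂ W₁ W₂} {z : ℤ}
    (h : Cfsg.classInner θ (F.eta i j) = z) : F.arr θ i j = z := by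
  have h' : ∃ z : ℤ, Cfsg.classInner θ (F.eta i j) = z := ⟨z, h⟩
  rw [Fam.arr, dif_pos h']
  exact_mod_cast h'.choose_spec.symm.trans h

omit [Fintype M] in
theorem Fam.eta_inner (i i' : Ir₁ W₁ W₂) (j j' : Ir₂ W₁ W₂) [Decidable (i = i' ∧ j = j')] :
    Cfsg.classInner (F.eta i j) (F.eta i' j') = if i = i' ∧ j = j' then 1 else 0 := by
  split_ifs with h
  · rw [h.1, h.2]; exact F.eta_self i' j'
  · exact F.eta_ne i j i' j' fun e => h ⟨congrArg Prod.fst e, congrArg Prod.snd e⟩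

omit [Fintype M] in
/-- The array of a function vanishing on `V` satisfies the rectangle rule. -/
theorem Fam.rect_of {θ : G → ℂ} (hθ : Cfsg.IsGeneralizedCharacter G θ)
    (hV : ∀ w : ↥(W₁ ⊔ W₂), (w : G) ∈ vset W₁ W₂ → θ w = 0) : Rect 1 1 (F.arr θ) := by
  intro i j
  have := Cfsg.Agent.S1506.result W₁ W₂ S.sn F.chi F.chi_family θ (isClassFunction_of_isGen hθ)
    (fun w h1 h2 => hV w ⟨w.2, h1, h2⟩) i.1 1 j.1 1 (fun w hw => ⟨i.2 w hw, rfl⟩)
    (fun w hw => ⟨j.2 w hw, rfl⟩)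
  have e : ∀ (i : Ir₁ W₁ W₂) (j : Ir₂ W₁ W₂),
      Cfsg.classInner θ (F.chi (i.1 * j.1)) = (F.arr θ i j : ℂ) := fun i j => by
    rw [← F.eta_eq]; exact F.arr_spec hθ i j
  have h2 : (F.arr θ i j : ℂ) + (F.arr θ 1 1 : ℂ) = (F.arr θ i 1 : ℂ) + (F.arr θ 1 j : ℂ) := by
    rw [← e i j, ← e 1 1, ← e i 1, ← e 1 j]
    exact this
  exact_mod_cast h2

omit [Fintype M] in
/-- The array of a function equal to `e (η_ij - η_ik)` on `V`. -/
theorem Fam.arr_pattern {θ : G → ℂ} (hθ : Cfsg.IsGeneralizedCharacter G θ) (i : Ir₁ W₁ W₂)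
    {j k : Ir₂ W₁ W₂} (e : ℤ)
    (hV : ∀ w : ↥(W₁ ⊔ W₂), (w : G) ∈ vset W₁ W₂ →
      θ w = (e : ℂ) * (F.eta i j w - F.eta i k w)) :
    ∃ b, Rect 1 1 b ∧ ∀ x y, F.arr θ x y = b x y + pat i j k e x y := by
  classical
  set D : G → ℂ := (e : ℂ) • (F.eta i j - F.eta i k) with hD
  have hDg : Cfsg.IsGeneralizedCharacter G D :=
    isGen_intCast_smul (isGen_sub (F.eta_gen _ _) (F.eta_gen _ _)) e
  refine ⟨F.arr (θ - D), F.rect_of (isGen_sub hθ hDg) fun w hw => by simp [hD, hV w hw],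
    fun x y => ?_⟩
  have h1 := F.arr_spec (isGen_sub hθ hDg) x y
  rw [classInner_sub_left, F.arr_spec hθ x y, hD, classInner_smul_left, classInner_sub_left,
    F.eta_inner, F.eta_inner] at h1
  have h2 : ((F.arr θ x y : ℤ) : ℂ) - ((pat i j k e x y : ℤ) : ℂ) =
      ((F.arr (θ - D) x y : ℤ) : ℂ) := by
    refine Eq.trans ?_ h1
    have e1 : ∀ z : Ir₂ W₁ W₂, (if i = x ∧ z = y then (1 : ℂ) else 0) =
        if x = i then (if y = z then 1 else 0) else 0 := fun z => by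
      by_cases h1 : x = i <;> by_cases h2 : y = z <;> simp [h1, h2, Ne.symm]
    rw [e1, e1, pat]
    by_cases h1 : x = i <;> simp [h1] <;> (split_ifs <;> simp)
  have h3 : F.arr θ x y - pat i j k e x y = F.arr (θ - D) x y := by exact_mod_cast h2
  linarith

end CfsgLib.OddChar.Prime
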