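import Cfsg.Agent.Lib.OddChar.Prime.LineFamily
import Cfsg.Agent.Lib.OddChar.Prime.Relay
import Cfsg.Agent.Lib.OddChar.Prime.Count

/-!
# Types III and IV

* `exists_U_eq`: the data of types III and IV have `U ≠ 1`;
* `derived_le_of_eq`, `inf_commutator_kerU`, `cyclic_of_gen`: group theory;
* `structure_34`: `U` is cyclic, acts faithfully, `M_F` is elementary abelian of order `p ^ q`, `p < q`;
* `not_IV`: there is no subgroup of type IV.
-/

set_option autoImplicit false
set_option linter.unusedSectionVars false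

namespace CfsgLib.OddChar.Prime

open CfsgLib.OddLocal
open CfsgLib.OddChar
open scoped commutatorElement

universe u

variable {G : Type u} [Group G] [Finite G] {M W₁ U W₂ : Subgroup G}

theorem U_ne_of_conj (hs : Group.IsSolvable M) (hP : Cfsg.IsTypePWith M W₁ U W₂)
    {A B C : Subgroup G} (hP' : Cfsg.IsTypePWith M A B C) (hB : B ≠ ⊥) : U ≠ ⊥ := by
  obtain ⟨g, -, he⟩ := TypeSets.exists_conj_U hs hP hP'
  intro e
  rw [e, Subgroup.map_eq_bot_iff_of_injective _ (MulEquiv.injective _)] at he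
  exact hB he

/-- If `H C` is the derived subgroup of `M'` then `H = [H, U]` and `C = U'`. -/
theorem derived_le_of_eq (hP : Cfsg.IsTypePWith M W₁ U W₂)
    (he : Cfsg.fittingHallOf M ⊔ cU M U ≤ ⁅⁅M, M⁆, ⁅M, M⁆⁆) :
    ⁅Cfsg.fittingHallOf M, U⁆ = Cfsg.fittingHallOf M ∧ cU M U = ⁅U, U⁆ := by
  set H := Cfsg.fittingHallOf M with hH
  set C := cU M U with hC
  have hUH : U ≤ Subgroup.normalizer (H : Set G) :=
    (typeP_U_le hP).trans (le_normalizer_fittingHallOf M)
  set X := ⁅H, U⁆ ⊔ ⁅H, H⁆ with hX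
  set T := X ⊔ ⁅U, U⁆ with hT
  have hXH : X ≤ H :=
    sup_le (CfsgLib.Solvable.commutator_le_of_le_normalizer hUH) (Subgroup.commutator_le_self H)
  have hHX : ∀ t ∈ H, ∀ x ∈ X, t * x * t⁻¹ ∈ X := fun t ht x hx => by
    rw [show t * x * t⁻¹ = (t * x * t⁻¹ * x⁻¹) * x by group]
    exact mul_mem (Subgroup.mem_sup_right (Subgroup.commutator_mem_commutator ht (hXH hx))) hx
  have hUX : U ≤ Subgroup.normalizer (X : Set G) :=
    (le_inf (CfsgLib.Solvable.le_normalizer_commutator_right hUH)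
      (fun t ht => CfsgLib.Solvable.normalizer_le_normalizer_commutator H H ⟨hUH ht, hUH ht⟩)).trans
      (Subgroup.normalizer_inf_normalizer_le_normalizer_sup _ _)
  have hU'X : ⁅U, U⁆ ≤ Subgroup.normalizer (X : Set G) := (Subgroup.commutator_le_self U).trans hUX
  have hmemT : ∀ x ∈ T, ∃ s ∈ X, ∃ v ∈ ⁅U, U⁆, x = s * v := fun x hx =>
    CfsgLib.OddLocal.eq_mul_of_mem_sup hU'X hx
  have hHT : ∀ t ∈ H, ∀ x ∈ T, t * x * t⁻¹ ∈ T := by
    intro t ht x hx
    obtain ⟨s, hs, v, hv, rfl⟩ := hmemT x hx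
    have e : t * v * t⁻¹ = v := by
      rw [Subgroup.mem_centralizer_iff.mp (derived_U_le hP hv).2 t ht, mul_inv_cancel_right]
    rw [show t * (s * v) * t⁻¹ = (t * s * t⁻¹) * (t * v * t⁻¹) by group, e]
    exact mul_mem (Subgroup.mem_sup_left (hHX t ht s hs)) (Subgroup.mem_sup_right hv)
  have hK : ⁅⁅M, M⁆, ⁅M, M⁆⁆ ≤ T := by
    rw [Subgroup.commutator_le]
    intro x hx y hy
    obtain ⟨a, ha, u, hu, rfl⟩ := hP.U_compl.2.2.2 x hx
    obtain ⟨b, hb, v, hv, rfl⟩ := hP.U_compl.2.2.2 y hy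
    have e : ⁅a * u, b * v⁆ = (a * ⁅u, b⁆ * a⁻¹) *
        ((a * b * a⁻¹ * b⁻¹) * ((b * a) * ⁅u, v⁆ * (b * a)⁻¹)) * (b * ⁅a, v⁆ * b⁻¹) := by
      simp only [commutatorElement_def]; group
    rw [e]
    refine mul_mem (mul_mem (hHT a ha _ ?_) (mul_mem ?_ (hHT _ (mul_mem hb ha) _ ?_)))
      (hHT b hb _ ?_)
    · refine Subgroup.mem_sup_left (Subgroup.mem_sup_left ?_)
      rw [Subgroup.commutator_comm]
      exact Subgroup.commutator_mem_commutator hu hb
    · exact Subgroup.mem_sup_left (Subgroup.mem_sup_right (Subgroup.commutator_mem_commutator ha hb))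
    · exact Subgroup.mem_sup_right (Subgroup.commutator_mem_commutator hu hv)
    · exact Subgroup.mem_sup_left (Subgroup.mem_sup_left (Subgroup.commutator_mem_commutator ha hv))
  have hHX' : H ≤ X := by
    intro x hx
    obtain ⟨s, hs, v, hv, e⟩ := hmemT x (hK (he (Subgroup.mem_sup_left hx)))
    have : v ∈ H ⊓ U := ⟨by
      have := mul_mem (inv_mem (hXH hs)) hx
      rwa [e, inv_mul_cancel_left] at this, Subgroup.commutator_le_self U hv⟩
    rw [hP.U_compl.2.2.1, Subgroup.mem_bot] at this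
    rw [e, this, mul_one]
    exact hs
  refine ⟨?_, ?_⟩
  · -- a solvable group is not perfect
    haveI : Group.IsNilpotent H := isNilpotent_fittingHallOf M
    have hSH : ⁅H, U⁆ ≤ H := CfsgLib.Solvable.commutator_le_of_le_normalizer hUH
    haveI : ((⁅H, U⁆).subgroupOf H).Normal := Subgroup.normal_subgroupOf_iff_le_normalizer hSH
      |>.mpr (CfsgLib.Solvable.le_normalizer_commutator_left H U)
    refine le_antisymm hSH (Subgroup.subgroupOf_eq_top.mp ?_)
    by_contra hne
    haveI : Nontrivial (H ⧸ (⁅H, U⁆).subgroupOf H) :=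
      QuotientGroup.nontrivial_iff.mpr hne
    refine (Group.IsSolvable.commutator_lt_top_of_nontrivial (H ⧸ (⁅H, U⁆).subgroupOf H)).ne ?_
    rw [eq_top_iff]
    rintro z -
    obtain ⟨x, rfl⟩ := QuotientGroup.mk_surjective z
    have hle : X ≤ (((commutator (H ⧸ (⁅H, U⁆).subgroupOf H)).comap
        (QuotientGroup.mk' _)).map H.subtype) := by
      refine sup_le (fun y hy => ⟨⟨y, hSH hy⟩, ?_, rfl⟩) (Subgroup.commutator_le.mpr fun p hp r hr =>
        ⟨⁅(⟨p, hp⟩ : H), ⟨r, hr⟩⁆, ?_, rfl⟩)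
      · show QuotientGroup.mk' _ _ ∈ commutator _
        rw [show QuotientGroup.mk' ((⁅H, U⁆).subgroupOf H) ⟨y, hSH hy⟩ = 1 from
          (QuotientGroup.eq_one_iff _).mpr hy]
        exact one_mem _
      · show QuotientGroup.mk' _ _ ∈ commutator _
        rw [map_commutatorElement]
        exact Subgroup.commutator_mem_commutator (Subgroup.mem_top _) (Subgroup.mem_top _)
    obtain ⟨y, hy, ey⟩ := hle (hHX' x.2)
    obtain rfl : y = x := Subtype.ext ey
    exact hy
  · refine le_antisymm (fun c hc => ?_) (derived_U_le hP)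
    obtain ⟨s, hs, v, hv, e⟩ := hmemT c (hK (he (Subgroup.mem_sup_right hc)))
    have : s ∈ H ⊓ U := ⟨hXH hs, by
      have := mul_mem (cU_le hc) (inv_mem (Subgroup.commutator_le_self U hv))
      rwa [e, mul_inv_cancel_right] at this⟩
    rw [hP.U_compl.2.2.1, Subgroup.mem_bot] at this
    rw [e, this, one_mul]
    exact hv

/-- For abelian `H`, `[H, U]` meets `C_H(U)` trivially. -/
theorem inf_commutator_kerU (hP : Cfsg.IsTypePWith M W₁ U W₂)
    (hab : ∀ x ∈ Cfsg.fittingHallOf M, ∀ y ∈ Cfsg.fittingHallOf M, x * y = y * x) :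
    ⁅Cfsg.fittingHallOf M, U⁆ ⊓ kerU M U = ⊥ := by
  classical
  have := Fintype.ofFinite U
  set H := Cfsg.fittingHallOf M with hH
  letI : CommGroup H := { (inferInstance : Group H) with
    mul_comm := fun a b => Subtype.ext (hab _ a.2 _ b.2) }
  have hUH : U ≤ Subgroup.normalizer (H : Set G) :=
    (typeP_U_le hP).trans (le_normalizer_fittingHallOf M)
  let ac : U → (H →* H) := fun v =>
    ((Subgroup.normalizerMonoidHom H) ⟨v, hUH v.2⟩).toMonoidHom
  have hac : ∀ (v : U) (x : H), ((ac v x : H) : G) = v * x * (v : G)⁻¹ := fun _ _ => rfl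
  let φ : H →* H := ∏ v : U, ac v
  have hle : ⁅H, U⁆ ≤ φ.ker.map H.subtype := by
    refine Subgroup.commutator_le.mpr fun x hx u hu => ?_
    have hm : u * x⁻¹ * u⁻¹ ∈ H := (Subgroup.mem_normalizer_iff.mp (hUH hu) _).mp (inv_mem hx)
    refine ⟨⟨x, hx⟩ * ⟨_, hm⟩, ?_, by
      show x * (u * x⁻¹ * u⁻¹) = _; rw [commutatorElement_def]; group⟩
    rw [SetLike.mem_coe, MonoidHom.mem_ker, map_mul, MonoidHom.finsetProd_apply,
      MonoidHom.finsetProd_apply, show (∏ v : U, ac v (⟨_, hm⟩ : H)) =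
        ∏ v : U, ac v (⟨x, hx⟩ : H)⁻¹ from Fintype.prod_equiv (Equiv.mulRight (⟨u, hu⟩ : U)) _ _
          fun v => Subtype.ext (by simp [hac, mul_assoc]),
      ← Finset.prod_mul_distrib]
    exact Finset.prod_eq_one fun v _ => by rw [map_inv, mul_inv_cancel]
  refine (Subgroup.eq_bot_iff_forall _).mpr fun z hz => ?_
  obtain ⟨y, hy, rfl⟩ := hle hz.1
  have h1 : φ y = y ^ Fintype.card U := by
    rw [MonoidHom.finsetProd_apply, ← Finset.card_univ]
    refine Finset.prod_eq_pow_card fun v _ => Subtype.ext ?_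
    rw [hac]
    show (v : G) * (y : G) * (v : G)⁻¹ = (y : G)
    have e2 : (v : G) * (y : G) = (y : G) * v := Subgroup.mem_centralizer_iff.mp hz.2.2 _ v.2
    rw [e2]
    simp
  rw [MonoidHom.mem_ker.mp hy] at h1
  have hcop : (Nat.card H).Coprime (Fintype.card U) := by
    rw [← Nat.card_eq_fintype_card]; exact typeP_coprime_U hP
  have h2 : y = 1 := (powCoprime hcop).injective (by simpa using h1.symm)
  rw [h2, map_one]

/-- A nilpotent group cyclic modulo its derived subgroup is cyclic. -/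
theorem cyclic_of_gen (hnil : Group.IsNilpotent U) {u₀ : G} (hu₀ : u₀ ∈ U)
    (h : ∀ v ∈ U, ∃ k : ℤ, v * (u₀ ^ k)⁻¹ ∈ ⁅U, U⁆) : IsCyclic U := by
  set g : U := ⟨u₀, hu₀⟩
  refine ⟨⟨g, fun x => ?_⟩⟩
  suffices hT : Subgroup.zpowers g = ⊤ from Subgroup.mem_zpowers_iff.mp (hT ▸ Subgroup.mem_top x)
  by_contra hne
  obtain ⟨X, hX, hgX⟩ := (eq_top_or_exists_le_coatom (Subgroup.zpowers g)).resolve_left hne
  haveI : X.Normal :=
    Subgroup.NormalizerCondition.normal_of_coatom X Group.normalizerCondition_of_isNilpotent hX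
  haveI : Group.IsSolvable U := inferInstance
  haveI : Nontrivial (U ⧸ X) := QuotientGroup.nontrivial_iff.mpr hX.1
  have hcomm : commutator U ≤ X := by
    have h1 := (Group.IsSolvable.commutator_lt_top_of_nontrivial (U ⧸ X)).ne
    have hle : X ≤ (commutator (U ⧸ X)).comap (QuotientGroup.mk' X) := fun z hz => by
      show QuotientGroup.mk' X z ∈ commutator (U ⧸ X)
      rw [show QuotientGroup.mk' X z = 1 from (QuotientGroup.eq_one_iff z).mpr hz]
      exact one_mem _
    rcases lt_or_eq_of_le hle with hlt | heq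
    · exact absurd (Subgroup.comap_injective (QuotientGroup.mk'_surjective X)
        ((hX.2 _ hlt).trans (Subgroup.comap_top _).symm)) h1
    · rw [heq, commutator_def, Subgroup.commutator_le]
      intro a _ b _
      show QuotientGroup.mk' X ⁅a, b⁆ ∈ commutator (U ⧸ X)
      rw [map_commutatorElement]
      exact Subgroup.commutator_mem_commutator (Subgroup.mem_top _) (Subgroup.mem_top _)
  refine hX.1 (eq_top_iff.mpr fun z _ => ?_)
  obtain ⟨k, hk⟩ := h z z.2
  rw [← Subgroup.map_subtype_commutator] at hk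
  obtain ⟨c, hc, ec⟩ := hk
  have e : z = c * g ^ k := Subtype.ext (by
    show (z : G) = (c : G) * u₀ ^ k
    rw [show (c : G) = z * (u₀ ^ k)⁻¹ from ec, inv_mul_cancel_right])
  rw [e]
  exact mul_mem (hcomm hc) (zpow_mem (hgX (Subgroup.mem_zpowers g)) k)

variable (P : Pre G)

include P in
/-- The structure of types III and IV. -/
theorem structure_34 (hM : IsCoatom M) (h : Cfsg.IsOfTypeIII M ∨ Cfsg.IsOfTypeIV M)
    (hP : Cfsg.IsTypePWith M W₁ U W₂) :
    U ≠ ⊥ ∧ (Nat.card W₁).Prime ∧ (Nat.card W₂).Prime ∧ IsCyclic U ∧ cU M U = ⊥ ∧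
      Cfsg.IsElementaryAbelian (Nat.card W₂) (Cfsg.fittingHallOf M) ∧
      Nat.card (Cfsg.fittingHallOf M) = Nat.card W₂ ^ Nat.card W₁ ∧
      Nat.card W₂ < Nat.card W₁ := by
  classical
  have := Fintype.ofFinite G
  have := Fintype.ofFinite M
  have := Fintype.ofFinite (commutator M)
  have h345 : IsType345 M := h.elim Or.inl (fun h' => Or.inr (Or.inl h'))
  have hs := maximal_solvable P.minSimple hM
  have hU : U ≠ ⊥ := by
    rcases h with ⟨A, B, C, h1, h2, -⟩ | ⟨A, B, C, h1, h2, -⟩ <;>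
      exact U_ne_of_conj hs hP h1 h2
  have hq := W₁_card_prime hs hP (Or.inr h)
  obtain ⟨-, -, -, -, -, -, hp⟩ := partner_II P hM h345 hP
  set S := setup_of_kernel P hM h345 hP with hS
  obtain ⟨F⟩ := exists_fam S
  have := finite_ir₁ S
  have := finite_ir₂ S
  have := Fintype.ofFinite (Ir₁ W₁ W₂)
  have := Fintype.ofFinite (Ir₂ W₁ W₂)
  have hch := exists_chief hP hU hp
  set H := Cfsg.fittingHallOf M with hH
  set C := cU M U with hC
  set u := C.relIndex U with hu
  have hcol := F.columns hP hU hq hp hch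
  have humod := u_modEq hP hq
  have hq3 := three_le₁ S
  have hp3 := three_le₂ S
  obtain ⟨j₁, hj₁⟩ := Fintype.exists_ne_of_one_lt_card
    (by have := three_le_card₂ S; omega) (1 : Ir₂ W₁ W₂)
  -- the value of `n`
  obtain ⟨n, hn, hnu, hn2⟩ : ∃ n : ℕ, (∀ j : Ir₂ W₁ W₂, j ≠ 1 → F.nn j = n) ∧
      n * Nat.card W₁ + 1 = u ∧ 2 ≤ n := by
    obtain ⟨k, hk⟩ : ∃ k : ℕ, F.nn j₁ = k := ⟨(F.nn j₁).toNat, by
      have := (F.two_le_nn hj₁).1; omega⟩
    have hk1 : k * Nat.card W₁ + 1 = u := by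
      have := (hcol j₁ hj₁).2
      rw [hk] at this
      exact_mod_cast this
    refine ⟨k, fun j hj => ?_, hk1, by have := (F.two_le_nn hj₁).1; omega⟩
    have h1 := (hcol j hj).2
    rw [show ((cU M U).relIndex U : ℤ) = ((k * Nat.card W₁ + 1 : ℕ) : ℤ) by rw [hk1]] at h1
    push_cast at h1
    exact mul_right_cancel₀ (Nat.cast_ne_zero.mpr (by omega) : (Nat.card W₁ : ℤ) ≠ 0)
      (by linarith)
  -- the linear members
  set Kc := subK M H ⊔ subK M C with hKc
  have hHd : H ≤ ⁅M, M⁆ := hP.U_compl.1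
  have hCd : C ≤ ⁅M, M⁆ := cU_le.trans hP.U_compl.2.1
  have hstab : SemiInd.IsStab (subK M H) (subK M U) (subK M U) (1 : subK M H →* ℂˣ) :=
    ⟨subK_inf hP, subK_sup hP, le_rfl, fun v hv => by simp [hv]⟩
  have hidx : Kc.index = u := by
    have h1 : Nat.card ↥Kc = Nat.card H * Nat.card C := by
      rw [hKc, ← card_subK hHd, ← card_subK hCd, CfsgLib.OddLocal.card_sup_of_normalizes
        (fun k _ => by
          rw [Subgroup.normalizer_eq_top (H := subK M H)]; trivial) ?_]
      exact le_bot_iff.mp (le_trans (inf_le_inf_left _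
        (fun k hk => cU_le (M := M) (U := U) hk)) (subK_inf hP).le)
    have h2 := SemiInd.card_sup hstab
    rw [subK_sup hP, Subgroup.card_top, card_subK hHd, card_subK hP.U_compl.2.1,
      ← Kc.index_mul_card, h1] at h2
    have h3 := Subgroup.relIndex_mul_relIndex ⊥ C U bot_le cU_le
    rw [Subgroup.relIndex_bot_left, Subgroup.relIndex_bot_left] at h3
    refine Nat.eq_of_mul_eq_mul_right (Nat.mul_pos Nat.card_pos Nat.card_pos :
      0 < Nat.card H * Nat.card C) (h2.trans ?_)
    rw [← h3, hu]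
    ring
  have hle : commutator (commutator M) ≤ Kc := by
    refine Subgroup.commutator_le.mpr fun x _ y _ => ?_
    have h1 : (((⁅x, y⁆ : commutator M) : M) : G) ∈ H ⊔ (M ⊓ Subgroup.centralizer (H : Set G)) := by
      refine hP.derived_two_le ?_
      exact Subgroup.commutator_mem_commutator (coe_mem_derived x) (coe_mem_derived y)
    rw [hP.fitting_eq, typeP_fittingOf_eq hP] at h1
    obtain ⟨a, ha, c, hc, e⟩ := CfsgLib.OddLocal.eq_mul_of_mem_sup
      ((inf_le_left.trans (typeP_U_le hP)).trans (le_normalizer_fittingHallOf M)) h1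
    rw [show ⁅x, y⁆ = toK a (hHd ha) * toK c (hCd hc) from Subtype.ext (Subtype.ext e)]
    exact mul_mem (Subgroup.mem_sup_left (show a ∈ H from ha))
      (Subgroup.mem_sup_right (show c ∈ C from hc))
  have hdvd : (commutator (commutator M)).index =
      (commutator (commutator M)).relIndex Kc * u := by
    rw [← hidx, Subgroup.relIndex_mul_index hle]
  have hm := card_linear_le S F
  set D := degSet (M := M) 1 with hD
  have hDcard : n ≤ D.card := by
    have h1 : n * Nat.card W₁ + 1 ≤ Nat.card W₁ * D.card + 1 := by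
      rw [hnu]
      refine le_trans (Nat.le_mul_of_pos_left u ?_) (hdvd ▸ hm)
      exact Nat.pos_of_ne_zero Subgroup.index_ne_zero_of_finite
    have h2 : Nat.card W₁ * n ≤ Nat.card W₁ * D.card := by
      rw [mul_comm n] at h1
      omega
    exact Nat.le_of_mul_le_mul_left h2 (by omega)
  obtain ⟨B, hBch, hBdeg⟩ := exists_block_deg S F 1 (Finset.card_pos.mp (by omega : 0 < D.card))
  have hιcard : Fintype.card {φ : M → ℂ // φ ∈ degSet (M := M) 1} = D.card := Fintype.card_coe D
  obtain ⟨a₀, ha₀⟩ : D.Nonempty := Finset.card_pos.mp (by omega)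
  -- the derived subgroup of `M'`
  have hder : H ⊔ C ≤ ⁅⁅M, M⁆, ⁅M, M⁆⁆ := by
    suffices e : Kc ≤ commutator (commutator M) by
      refine sup_le (fun x hx => ?_) (fun x hx => ?_)
      · have h1 := e (Subgroup.mem_sup_left (show toK x (hHd hx) ∈ subK M H from hx))
        rw [← derived_two_map]
        exact ⟨_, by rw [← Subgroup.map_subtype_commutator]; exact ⟨_, h1, rfl⟩, rfl⟩
      · have h1 := e (Subgroup.mem_sup_right (show toK x (hCd hx) ∈ subK M C from hx))
        rw [← derived_two_map]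
        exact ⟨_, by rw [← Subgroup.map_subtype_commutator]; exact ⟨_, h1, rfl⟩, rfl⟩
    rw [← Subgroup.relIndex_eq_one]
    by_contra hne
    refine flat_absurd P hM h345 hP B (a := ⟨a₀, ha₀⟩) (hBdeg _)
      (B.flat_of_weight (hBdeg _) fun j hj => ?_)
    simp only [hBdeg, Nat.cast_one, one_pow, Finset.sum_const, Finset.card_univ, nsmul_eq_mul,
      mul_one, hιcard, hn j hj]
    have h2 : 2 * u ≤ (commutator (commutator M)).index := by
      rw [hdvd]
      refine Nat.mul_le_mul_right u ?_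
      have : (commutator (commutator M)).relIndex Kc ≠ 0 := Subgroup.index_ne_zero_of_finite
      omega
    have h3 : 2 * n < D.card := by
      by_contra hlt
      push Not at hlt
      have := Nat.mul_le_mul_left (Nat.card W₁) hlt
      nlinarith
    exact_mod_cast h3
  obtain ⟨hHU, hCU⟩ := derived_le_of_eq hP hder
  have hcop : (Nat.card W₁).Coprime (Nat.card W₂) :=
    (coprime_W₁_derived hP).coprime_dvd_right (Subgroup.card_dvd_of_le
      ((hP.W₂_le.trans inf_le_left).trans hHd))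
  -- `p < q`
  have hpq : Nat.card W₂ < Nat.card W₁ := by
    rcases Nat.lt_trichotomy (Nat.card W₂) (Nat.card W₁) with h1 | h1 | h1
    · exact h1
    · rw [h1, Nat.coprime_self] at hcop
      omega
    · exfalso
      obtain ⟨B', -, hdeg, hflat⟩ := B.flat_of_gt (a := ⟨a₀, ha₀⟩) hBdeg (by omega) h1
        fun j hj => by rw [hn j hj, hιcard]; exact_mod_cast hDcard
      exact flat_absurd P hM h345 hP B' (by rw [hdeg]; exact hBdeg _) hflat
  have hcen : ∀ z ∈ kerU M U, ∀ x ∈ H, z * x = x * z := fun z hz x hx => by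
    have h1 := hch.commute hz
    rw [hHU] at h1
    exact (Subgroup.mem_centralizer_iff.mp h1 x hx).symm
  rcases line_or_irred hP hq hp hch with ⟨L, hNL, hLH, hUL, hLidx⟩ | hir
  · -- an invariant hyperplane
    exfalso
    obtain ⟨U₁, a, hl⟩ := exists_line hP hU hq hp hch hNL hLH hUL hLidx
    have hap : a ≤ Nat.card W₂ - 1 := Nat.le_of_dvd (by omega) hl.dvd
    have ha2 := hl.one_lt
    have hlt : ∀ r, r.Prime → r ∣ a → r < Nat.card W₁ := fun r _ hr => by
      have := Nat.le_of_dvd (by omega) hr; omega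
    have hau := cube_le hP hq P.minSimple.1 (by omega) hl.pow hl.min hlt
    obtain ⟨b, hb⟩ : a ∣ u := by
      rw [hu, hC, ← Subgroup.relIndex_mul_relIndex (cU M U) U₁ U hl.cU_le hl.U₁_le, hl.index]
      exact dvd_mul_left _ _
    have hodda : Odd a := by
      rw [← hl.index]
      exact (S.odd_sub U).of_dvd_nat ⟨Nat.card U₁, by
        rw [← Subgroup.relIndex_bot_left, ← Subgroup.relIndex_bot_left,
          mul_comm, Subgroup.relIndex_mul_relIndex ⊥ U₁ U bot_le hl.U₁_le]⟩
    have ha3 : 3 ≤ a := by obtain ⟨c, hc⟩ := hodda; omega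
    have hp2a : 2 * a ≤ Nat.card W₂ - 1 := by
      obtain ⟨c, hc⟩ := hl.dvd
      obtain ⟨d, hd⟩ := S.odd_sub W₂
      obtain ⟨e, he⟩ := hodda
      have h0 : c ≠ 0 := by rintro rfl; omega
      have h1 : c ≠ 1 := by rintro rfl; omega
      calc 2 * a = a * 2 := mul_comm _ _
        _ ≤ a * c := Nat.mul_le_mul_left _ (by omega)
        _ = _ := hc.symm
    have hau' : a < u := by
      refine lt_of_lt_of_le ?_ hau
      calc a = a ^ 1 := (pow_one a).symm
        _ < a ^ 3 := Nat.pow_lt_pow_right (by omega) (by omega)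
    have hcard := hl.card_degSet F hP hp hch fun j hj => by
      rw [(hcol j hj).1, hn j hj]
      intro e
      have : n * Nat.card W₁ + 1 = a := by exact_mod_cast (by linarith : ((n : ℤ) * Nat.card W₁ + 1 = a))
      omega
    rw [← hu] at hcard
    set D' := degSet (M := M) a with hD'
    have hme : 2 * n ≤ D'.card := by
      have h1 : 2 * n * (a * a) ≤ (Nat.card W₂ - 1) * u := by
        have h2 : 2 * (a * a) ≤ (Nat.card W₂ - 1) * Nat.card W₁ := by
          calc 2 * (a * a) = (2 * a) * a := by ring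
            _ ≤ _ := Nat.mul_le_mul hp2a (by omega)
        calc 2 * n * (a * a) = n * (2 * (a * a)) := by ring
          _ ≤ n * ((Nat.card W₂ - 1) * Nat.card W₁) := Nat.mul_le_mul_left n h2
          _ = (Nat.card W₂ - 1) * (n * Nat.card W₁) := by ring
          _ ≤ _ := Nat.mul_le_mul_left _ (by omega)
      exact Nat.le_of_mul_le_mul_right (h1.trans hcard) (by positivity)
    obtain ⟨E, hEch, hEdeg⟩ := exists_block_deg S F a (Finset.card_pos.mp (by omega : 0 < D'.card))
    obtain ⟨c₀, hc₀⟩ : D'.Nonempty := Finset.card_pos.mp (by omega)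
    have hκcard : Fintype.card {φ : M → ℂ // φ ∈ degSet (M := M) a} = D'.card := Fintype.card_coe D'
    obtain ⟨B', hdeg, hflat⟩ := Block.flat_of_relay (B := B) (C := E) (e := a) (n := n) hBdeg hEdeg
      (fun x y => by
        rw [hBch, hEch]; exact degSet_disjoint (by omega) S x.2 y.2)
      (by omega) (by omega) (by rw [hκcard]; exact_mod_cast hme) (by omega)
      (by
        rw [hιcard]
        have h1 : a ^ 3 ≤ n * Nat.card W₁ + 1 := hnu ▸ hau
        have h2 : 2 * a ^ 2 + 1 < a ^ 3 := by nlinarith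
        have h3 : n * Nat.card W₁ ≤ Nat.card W₁ * D.card := by
          rw [mul_comm]; exact Nat.mul_le_mul_left _ hDcard
        exact_mod_cast (by omega : 2 * a ^ 2 < Nat.card W₁ * D.card))
      ⟨(b : ℤ), -(Nat.card W₁ : ℤ), by
        have : ((n * Nat.card W₁ + 1 : ℕ) : ℤ) = ((a * b : ℕ) : ℤ) := by rw [hnu, hb]
        push_cast at this
        linarith⟩
      hn ⟨a₀, ha₀⟩ ⟨c₀, hc₀⟩ hj₁
    exact flat_absurd P hM h345 hP B' (by rw [hdeg]; exact hBdeg _) hflat
  · have hab := hir.commutative hP hq hp P.minSimple.1 hch hcen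
    have hN : kerU M U = ⊥ := by
      have h1 := inf_commutator_kerU hP hab
      have e : H ⊓ kerU M U = kerU M U := inf_eq_right.mpr inf_le_left
      rw [hHU] at h1
      rw [e] at h1
      exact h1
    obtain ⟨u₀, hu₀, hgen⟩ := hir.exists_gen hP hp hch
    rw [hCU] at hgen
    have hcyc := cyclic_of_gen hP.U_nilpotent hu₀ hgen
    refine ⟨hU, hq, hp, hcyc, ?_, ⟨⟨⟨fun x y => Subtype.ext (hab _ x.2 _ y.2)⟩⟩, fun x hx => ?_⟩,
      ?_, hpq⟩
    · show C = ⊥
      rw [hC, hCU, Subgroup.commutator_eq_bot_iff_le_centralizer]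
      intro x hx
      rw [Subgroup.mem_centralizer_iff]
      intro y hy
      letI : CommGroup U := IsCyclic.commGroup
      exact congrArg Subtype.val (mul_comm (⟨y, hy⟩ : U) ⟨x, hx⟩)
    · have h1 := hch.pow x hx
      rw [hN, Subgroup.mem_bot] at h1
      exact h1
    · rw [hch.card, hN, Subgroup.card_bot, mul_one]

include P in
/-- There is no subgroup of type IV. -/
theorem not_IV (hM : IsCoatom M) : ¬ Cfsg.IsOfTypeIV M := by
  intro h
  obtain ⟨W₁, U, W₂, hP, -, -, -, hna, -⟩ := id h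
  obtain ⟨-, -, -, hcyc, -⟩ := structure_34 P hM (Or.inr h) hP
  letI : CommGroup U := IsCyclic.commGroup
  exact hna ⟨⟨mul_comm⟩⟩

end CfsgLib.OddChar.Prime
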