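import Cfsg.Agent.Lib.OddChar.Prime.PreProof
import Cfsg.Agent.Lib.OddChar.Prime.TypeThree
import Cfsg.Agent.Lib.OddChar.PairBase
import Cfsg.Agent.Lib.OddLocal.S15U0

/-!
# The structure of type II and the sides of a pair

* `kerU_eq_bot_II`, `structure_II`: `M_F` is elementary abelian of order `p ^ q`;
* `side_of`: the data `Pair.Side` for types II and III.
-/

set_option autoImplicit false
set_option linter.unusedSectionVars false

namespace CfsgLib.OddChar.Prime

open CfsgLib.OddLocal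
open CfsgLib.OddChar

universe u

variable {G : Type u} [Group G] [Finite G] {M W₁ U W₂ : Subgroup G}

/-- In type II a subgroup of `U` of full exponent acts without fixed points on `M_F`. -/
theorem kerU_eq_bot_II (hG : Cfsg.IsMinSimpleOddOrder G) (hM : IsCoatom M)
    (hII : Cfsg.IsOfTypeII M) (hP : Cfsg.IsTypePWith M W₁ U W₂) (hU : U ≠ ⊥) :
    kerU M U = ⊥ := by
  have B := S15.s16Base hG
  obtain ⟨K, hKU, hF⟩ := S15.exists_decomposition_of_compl hG B hM (Or.inr ⟨hII, hP.U_compl⟩)
  obtain ⟨U₀, hU₀, hexp, hreg⟩ := S15.exists_regular_subgroup hG B.h1350 B.h1405 B.h1417 B.h1418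
    B.h1421 B.h1429 B.h1430 B.h1432 hM hKU
  have hne : U₀ ≠ ⊥ := by
    rintro rfl
    obtain ⟨x, hx, hx1⟩ := (Subgroup.bot_or_exists_ne_one U).resolve_left hU
    have h : (⟨x, hx⟩ : U) ^ Monoid.exponent U = 1 := Monoid.pow_exponent_eq_one _
    have h1 : Monoid.exponent (⊥ : Subgroup G) = 1 :=
      Monoid.exp_eq_one_of_subsingleton
    rw [← hexp, h1, pow_one] at h
    exact hx1 (congrArg Subtype.val h)
  obtain ⟨e, he, he1⟩ := (Subgroup.bot_or_exists_ne_one U₀).resolve_left hne
  rw [kerU, hF, ← le_bot_iff, ← hreg e he he1]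
  exact inf_le_inf_left _
    (Subgroup.centralizer_le (Set.singleton_subset_iff.2 (hU₀ he)))

/-- `M_F` is elementary abelian of order `p ^ q` when `C_H(U) = 1`. -/
theorem elementary_of_kerU (hP : Cfsg.IsTypePWith M W₁ U W₂) (hU : U ≠ ⊥)
    (hp : (Nat.card W₂).Prime) (hker : kerU M U = ⊥) :
    Cfsg.IsElementaryAbelian (Nat.card W₂) (Cfsg.fittingHallOf M) ∧
      Nat.card (Cfsg.fittingHallOf M) = Nat.card W₂ ^ Nat.card W₁ := by
  have hch := exists_chief hP hU hp
  refine ⟨⟨⟨⟨fun a b => Subtype.ext ?_⟩⟩, fun x hx => ?_⟩, ?_⟩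
  · have h := hch.comm (Subgroup.commutator_mem_commutator a.2 b.2)
    rw [hker, Subgroup.mem_bot, commutatorElement_eq_one_iff_mul_comm] at h
    exact h
  · have h := hch.pow x hx
    rwa [hker, Subgroup.mem_bot] at h
  · rw [hch.card, hker, Subgroup.card_bot, mul_one]

/-- A cyclic group has `r`-rank at most one. -/
theorem rankLE_of_cyclic (hU : IsCyclic U) {r n : ℕ} (hr : r.Prime) (hn : 1 ≤ n) :
    Cfsg.PRankLE r n U := by
  haveI := Fact.mk hr
  refine CfsgLib.PGroup.pRankLE_iff.2 fun A hA => ?_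
  haveI : IsCyclic A := inferInstance
  refine le_trans (Nat.le_of_dvd hr.pos ?_) (Nat.le_self_pow (by omega) r)
  rw [← IsCyclic.exponent_eq_card, Monoid.exponent_dvd_iff_forall_pow_eq_one]
  intro a
  exact Subtype.ext (hA.2 a a.2)

/-- The side of a pair. -/
theorem side_of (hG : Cfsg.IsMinSimpleOddOrder G) (hM : IsCoatom M)
    (hP : Cfsg.IsTypePWith M W₁ U W₂) (h23 : Cfsg.IsOfTypeII M ∨ Cfsg.IsOfTypeIII M)
    (hp : (Nat.card W₂).Prime) :
    Pair.Side M W₁ U W₂ (Nat.card W₁) (Nat.card W₂) := by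
  have hs := maximal_solvable hG hM
  rcases h23 with hII | hIII
  · obtain ⟨A, B, C, h1, h2, -, h3, -⟩ := id hII
    have hU := U_ne_of_conj hs hP h1 h2
    have hB := S15.s16Base hG
    obtain ⟨K, hKU, -⟩ := S15.exists_decomposition_of_compl hG hB hM (Or.inr ⟨hII, hP.U_compl⟩)
    obtain ⟨h4, h5⟩ := elementary_of_kerU hP hU hp (kerU_eq_bot_II hG hM hII hP hU)
    exact
    { minSimple := hG, max := hM, data := hP, q_prime := W₁_card_prime hs hP (Or.inl hII),
      p_prime := hp, card_W₁ := rfl, card_W₂ := rfl, P_elem := h4, P_card := h5,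
      U_comm := S15.U_commutative hG hB.h1350 hB.h1430 hM hKU
        ((S15.typeII_iff hG hB hM hKU).1 hII).1
      U_ne := hU, U_rank := fun r hr => PairLocal.rankLE_two_of_typeP hB hM hKU hr,
      fitting_ti := h3 }
  · obtain ⟨A, B, C, h1, -, -, h3, -⟩ := id hIII
    obtain ⟨hU, hq, -, hcyc, -, h4, h5, -⟩ :=
      structure_34 (pre_of_minimal hG) hM (Or.inl hIII) hP
    exact
    { minSimple := hG, max := hM, data := hP, q_prime := hq,
      p_prime := hp, card_W₁ := rfl, card_W₂ := rfl, P_elem := h4, P_card := h5,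
      U_comm := ⟨⟨fun a b => by
        letI : CommGroup U := IsCyclic.commGroup
        exact mul_comm a b⟩⟩
      U_ne := hU, U_rank := fun r hr => rankLE_of_cyclic hcyc hr (by omega),
      fitting_ti := h3 }

end CfsgLib.OddChar.Prime
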